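import Mathlib.RingTheory.Etale.Kaehler
import Mathlib.RingTheory.Etale.StandardEtale
import Mathlib.RingTheory.Kaehler.Polynomial
import Mathlib.RingTheory.RingHom.Etale
import Mathlib.RingTheory.TensorProduct.Quotient
import Mathlib.RingTheory.Ideal.IdempotentFG
import Groth.Agent.Lib.JacCrit.EtaleBasis
import Groth.Agent.H21.SectionEtale

/-!
Étale coordinates: `T` étale over `R[Y]`, the partial derivatives, changing coordinates, quotients
and sections.
-/

set_option autoImplicit false
set_option linter.style.haveILetI false
universe u

open KaehlerDifferential TensorProduct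

namespace Groth.Agent.H25.Morse.Basics

/-- Étale maps pass to quotients. -/
theorem etale_quotient {A E : Type u} [CommRing A] [CommRing E] [Algebra A E] [Algebra.Etale A E]
    (I : Ideal A) :
    (Ideal.quotientMap (I.map (algebraMap A E)) (algebraMap A E) Ideal.le_comap_map).Etale := by
  letI : Algebra (A ⧸ I) (E ⧸ I.map (algebraMap A E)) :=
    (Ideal.quotientMap (I.map (algebraMap A E)) (algebraMap A E) Ideal.le_comap_map).toAlgebra
  haveI : IsScalarTower A (A ⧸ I) (E ⧸ I.map (algebraMap A E)) :=
    IsScalarTower.of_algebraMap_eq fun _ => rfl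
  let e₀ : ((A ⧸ I) ⊗[A] E) ≃ₐ[A] E ⧸ I.map (algebraMap A E) :=
    (Algebra.TensorProduct.comm A (A ⧸ I) E).trans
      ((Algebra.TensorProduct.quotIdealMapEquivTensorQuot E I).restrictScalars A).symm
  exact RingHom.etale_algebraMap.2
    (Algebra.Etale.of_equiv (e₀.extendScalarsOfSurjective (S := A ⧸ I) Ideal.Quotient.mk_surjective))

section Coords

variable (R T : Type u) [CommRing R] [CommRing T] [Algebra R T]
  [Algebra (MvPolynomial (Fin 2) R) T] [IsScalarTower R (MvPolynomial (Fin 2) R) T]
  [Algebra.FormallyEtale (MvPolynomial (Fin 2) R) T]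

/-- The coordinate functions. -/
noncomputable def coord (i : Fin 2) : T := algebraMap (MvPolynomial (Fin 2) R) T (MvPolynomial.X i)

theorem formallySmooth : Algebra.FormallySmooth R T :=
  Algebra.FormallySmooth.comp R (MvPolynomial (Fin 2) R) T

theorem bijective_mapBaseChange :
    Function.Bijective (mapBaseChange R (MvPolynomial (Fin 2) R) T) :=
  (tensorKaehlerEquivOfFormallyEtale R (MvPolynomial (Fin 2) R) T).bijective

/-- The differentials of the coordinates form a basis. -/
noncomputable def basis : Module.Basis (Fin 2) T Ω[T⁄R] :=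
  ((mvPolynomialBasis R (Fin 2)).baseChange T).map
    (LinearEquiv.ofBijective _ (bijective_mapBaseChange R T))

theorem basis_apply (i : Fin 2) : basis R T i = D R T (coord R T i) := by
  simp [basis, coord, Module.Basis.baseChange_apply, mvPolynomialBasis_apply, mapBaseChange_tmul]

/-- The partial derivatives. -/
noncomputable def pd (i : Fin 2) : Derivation R T T :=
  ((basis R T).coord i).compDer (D R T)

theorem pd_coord (i j : Fin 2) : pd R T i (coord R T j) = if i = j then 1 else 0 := by
  show (basis R T).coord i (D R T (coord R T j)) = _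
  rw [← basis_apply, Module.Basis.coord_apply, Module.Basis.repr_self, Finsupp.single_apply]
  exact if_congr eq_comm rfl rfl

theorem pd_coord' (i j : Fin 2) :
    pd R T i (algebraMap (MvPolynomial (Fin 2) R) T (MvPolynomial.X j)) = if i = j then 1 else 0 :=
  pd_coord R T i j

/-- Derivations of `T` are determined by their values on the coordinates. -/
theorem derivation_ext {M : Type u} [AddCommGroup M] [Module T M] [Module R M] [IsScalarTower R T M]
    (d₁ d₂ : Derivation R T M) (h : ∀ i, d₁ (coord R T i) = d₂ (coord R T i)) : d₁ = d₂ := by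
  have hl : d₁.liftKaehlerDifferential = d₂.liftKaehlerDifferential :=
    (basis R T).ext fun i => by
      rw [basis_apply, Derivation.liftKaehlerDifferential_comp_D,
        Derivation.liftKaehlerDifferential_comp_D, h]
  ext t
  rw [← Derivation.liftKaehlerDifferential_comp_D d₁, hl, Derivation.liftKaehlerDifferential_comp_D]

/-- New coordinates with invertible Jacobian are étale. -/
theorem etale_of_det [Algebra.FinitePresentation R T] (L : Fin 2 → T)
    (h : IsUnit (Matrix.of fun i j => pd R T j (L i)).det) :
    ((MvPolynomial.aeval (R := R) L).toRingHom).Etale := by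
  haveI := formallySmooth R T
  have hmat : (Matrix.of fun i j => pd R T j (L i)).transpose =
      (basis R T).toMatrix (fun i => D R T (L i)) := by
    ext i j
    rfl
  have hb : IsUnit ((basis R T).det fun i => D R T (L i)) := by
    rw [Module.Basis.det_apply, ← hmat, Matrix.det_transpose]
    exact h
  have hb' := ((basis R T).is_basis_iff_det).2 hb
  letI alg : Algebra (MvPolynomial (Fin 2) R) T := (MvPolynomial.aeval L).toRingHom.toAlgebra
  haveI : IsScalarTower R (MvPolynomial (Fin 2) R) T :=
    IsScalarTower.of_algebraMap_eq fun r => (MvPolynomial.aeval_C L r).symm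
  have hX : ∀ i, algebraMap (MvPolynomial (Fin 2) R) T (MvPolynomial.X i) = L i :=
    fun i => MvPolynomial.aeval_X L i
  haveI : Algebra.FormallyEtale (MvPolynomial (Fin 2) R) T := by
    rw [Lib.JacCrit.EtaleBasis.formallyEtale_iff_bijective R, Lib.JacCrit.EtaleBasis.bijective_iff]
    simp only [hX]
    exact hb'
  exact RingHom.etale_algebraMap.2
    { finitePresentation :=
        Algebra.FinitePresentation.of_restrict_scalars_finitePresentation R (MvPolynomial (Fin 2) R) T }

end Coords

/-- The kernel of a section of an étale algebra is generated by an idempotent. -/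
theorem exists_idempotent (R T : Type u) [CommRing R] [CommRing T] [Algebra R T] [Algebra.Etale R T]
    (σ : T →ₐ[R] R) : ∃ e : T, IsIdempotentElem e ∧ RingHom.ker σ.toRingHom = Ideal.span {e} := by
  letI : Algebra T R := σ.toRingHom.toAlgebra
  haveI : IsScalarTower R T R := IsScalarTower.of_algebraMap_eq fun r => (σ.commutes r).symm
  have hfg : (RingHom.ker (algebraMap T R)).FG :=
    Algebra.FinitePresentation.ker_fG_of_surjective σ (fun r => ⟨algebraMap R T r, σ.commutes r⟩)
  haveI : Subsingleton (RingHom.ker (algebraMap T R)).Cotangent :=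
    ((H21.SectionEtale.bijective_kerCotangentToTensor R T).1).subsingleton
  obtain ⟨e, he, h⟩ := ((Ideal.isIdempotentElem_iff_of_fg _ hfg).1
    ((Ideal.cotangent_subsingleton_iff _).1 inferInstance))
  exact ⟨e, he, h⟩

end Groth.Agent.H25.Morse.Basics
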