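import Groth.Agent.H25.Morse.Basics
import Groth.Agent.H25.Node.Basic
import Mathlib.RingTheory.LocalRing.ResidueField.Ideal
import Mathlib.LinearAlgebra.Matrix.Determinant.Basic

/-!
The critical locus of an equation with nondegenerate Hessian is étale over the base.
-/

set_option autoImplicit false
set_option linter.style.haveILetI false
universe u

open Groth.Agent.H25.Node

namespace Groth.Agent.H25.Morse.Crit

variable (R P : Type u) [CommRing R] [CommRing P] [Algebra R P]
  [Algebra (MvPolynomial (Fin 2) R) P] [IsScalarTower R (MvPolynomial (Fin 2) R) P]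
  [Algebra.Etale (MvPolynomial (Fin 2) R) P]

/-- The Hessian matrix. -/
noncomputable def hess (F : P) : Matrix (Fin 2) (Fin 2) P :=
  Matrix.of fun i j => Basics.pd R P j (Basics.pd R P i F)

theorem pd_quad (w : Fin 3 → P) (i : Fin 2) :
    Basics.pd R P i (quad w (Basics.coord R P 0) (Basics.coord R P 1)) =
      quad (fun k => Basics.pd R P i (w k)) (Basics.coord R P 0) (Basics.coord R P 1) +
        (if i = 0 then 2 * w 0 * Basics.coord R P 0 + w 1 * Basics.coord R P 1
          else w 1 * Basics.coord R P 0 + 2 * w 2 * Basics.coord R P 1) := by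
  fin_cases i <;>
  · simp [quad, Derivation.leibniz, Basics.pd_coord, pow_two]
    ring

/-- The Hessian of a quadratic form at a zero of the coordinates. -/
theorem det_hess_quad {K : Type u} [CommRing K] (φ : P →+* K)
    (h0 : φ (Basics.coord R P 0) = 0) (h1 : φ (Basics.coord R P 1) = 0) (w : Fin 3 → P) :
    φ (hess R P (quad w (Basics.coord R P 0) (Basics.coord R P 1))).det = φ (disc w) := by
  rw [Matrix.det_fin_two]
  simp only [hess, Matrix.of_apply, pd_quad, quad, map_add]
  simp [Derivation.leibniz, Basics.pd_coord, pow_two, h0, h1, disc, map_ofNat]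
  ring

variable {R P}

theorem pd_mem_of_mem_map (p : Ideal R) {z : P} (hz : z ∈ p.map (algebraMap R P)) (i : Fin 2) :
    Basics.pd R P i z ∈ p.map (algebraMap R P) := by
  induction hz using Submodule.span_induction with
  | mem z hz =>
    obtain ⟨r, -, rfl⟩ := hz
    rw [Derivation.map_algebraMap]
    exact zero_mem _
  | zero => rw [map_zero]; exact zero_mem _
  | add z w _ _ h₁ h₂ => rw [map_add]; exact add_mem h₁ h₂
  | smul c z hz h =>
    rw [smul_eq_mul, Derivation.leibniz, smul_eq_mul, smul_eq_mul]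
    exact add_mem (Ideal.mul_mem_left _ _ h) (Ideal.mul_mem_right _ _ hz)

theorem pd_mem_sq (q : Ideal P) {z : P} (hz : z ∈ q ^ 2) (i : Fin 2) : Basics.pd R P i z ∈ q := by
  rw [pow_two] at hz
  induction hz using Submodule.mul_induction_on' with
  | mem_mul_mem x hx y hy =>
    rw [Derivation.leibniz, smul_eq_mul, smul_eq_mul]
    exact add_mem (Ideal.mul_mem_right _ _ hx) (Ideal.mul_mem_right _ _ hy)
  | add z _ w _ h₁ h₂ => rw [map_add]; exact add_mem h₁ h₂

theorem pd_mem_cube (q : Ideal P) {z : P} (hz : z ∈ q ^ 3) (i : Fin 2) :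
    Basics.pd R P i z ∈ q ^ 2 := by
  rw [pow_succ] at hz
  induction hz using Submodule.mul_induction_on' with
  | mem_mul_mem x hx y hy =>
    rw [Derivation.leibniz, smul_eq_mul, smul_eq_mul]
    refine add_mem (Ideal.mul_mem_right _ _ hx) ?_
    rw [pow_two]
    exact Ideal.mul_mem_mul hy (pd_mem_sq q hx i)
  | add z _ w _ h₁ h₂ => rw [map_add]; exact add_mem h₁ h₂

/-- `F` has vanishing differential and nondegenerate Hessian at `q`. -/
theorem critical (p : Ideal R) (q : Ideal P) [q.IsPrime] (hp : p.map (algebraMap R P) ≤ q)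
    (F : P) (hF : F ∈ q) (h0 : Basics.coord R P 0 ∈ q) (h1 : Basics.coord R P 1 ∈ q)
    (w : Fin 3 → P) (hw : disc w ∉ q) (t : P) (ht : t ∉ q)
    (h : t * (F - quad w (Basics.coord R P 0) (Basics.coord R P 1)) ∈
      q ^ 3 ⊔ p.map (algebraMap R P)) :
    (∀ i, Basics.pd R P i F ∈ q) ∧ (hess R P F).det ∉ q := by
  set Q := quad w (Basics.coord R P 0) (Basics.coord R P 1)
  set G := F - Q
  have hQ : Q ∈ q := add_mem (add_mem (Ideal.mul_mem_left _ _ (Ideal.pow_mem_of_mem _ h0 2 two_pos))
    (Ideal.mul_mem_left _ _ (Ideal.mul_mem_right _ _ h0)))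
    (Ideal.mul_mem_left _ _ (Ideal.pow_mem_of_mem _ h1 2 two_pos))
  have hG : G ∈ q := sub_mem hF hQ
  have hd : ∀ i, Basics.pd R P i (t * G) ∈ q ^ 2 ⊔ p.map (algebraMap R P) := fun i => by
    obtain ⟨x, hx, y, hy, hxy⟩ := Submodule.mem_sup.1 h
    rw [← hxy, map_add]
    exact add_mem (Ideal.mem_sup_left (pd_mem_cube q hx i)) (Ideal.mem_sup_right (pd_mem_of_mem_map p hy i))
  have hdd : ∀ i j, Basics.pd R P j (Basics.pd R P i (t * G)) ∈ q := fun i j => by
    obtain ⟨x, hx, y, hy, hxy⟩ := Submodule.mem_sup.1 (hd i)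
    rw [← hxy, map_add]
    exact add_mem (pd_mem_sq q hx j) (hp (pd_mem_of_mem_map p hy j))
  have hdG : ∀ i, Basics.pd R P i G ∈ q := fun i => by
    have h2 : Basics.pd R P i (t * G) ∈ q := sup_le (Ideal.pow_le_self two_ne_zero) hp (hd i)
    rw [Derivation.leibniz, smul_eq_mul, smul_eq_mul] at h2
    have h3 := sub_mem h2 (Ideal.mul_mem_right (Basics.pd R P i t) q hG)
    rw [add_sub_cancel_right] at h3
    exact (Ideal.IsPrime.mem_or_mem ‹_› h3).resolve_left ht
  have hddG : ∀ i j, Basics.pd R P j (Basics.pd R P i G) ∈ q := fun i j => by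
    have h2 := hdd i j
    simp only [Derivation.leibniz, smul_eq_mul, map_add] at h2
    have h3 := sub_mem h2 (add_mem (add_mem (Ideal.mul_mem_right (Basics.pd R P j t) q (hdG i))
      (Ideal.mul_mem_right (Basics.pd R P j (Basics.pd R P i t)) q hG))
      (Ideal.mul_mem_left q (Basics.pd R P i t) (hdG j)))
    refine (Ideal.IsPrime.mem_or_mem ‹_› ?_).resolve_left ht
    convert h3 using 1
    ring
  refine ⟨fun i => ?_, fun hmem => hw ?_⟩
  · have : Basics.pd R P i F = Basics.pd R P i G + Basics.pd R P i Q := by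
      rw [← map_add, sub_add_cancel]
    rw [this]
    refine add_mem (hdG i) ?_
    rw [pd_quad]
    refine add_mem (add_mem (add_mem (Ideal.mul_mem_left _ _ (Ideal.pow_mem_of_mem _ h0 2 two_pos))
      (Ideal.mul_mem_left _ _ (Ideal.mul_mem_right _ _ h0)))
      (Ideal.mul_mem_left _ _ (Ideal.pow_mem_of_mem _ h1 2 two_pos))) ?_
    split
    · exact add_mem (Ideal.mul_mem_left _ _ h0) (Ideal.mul_mem_left _ _ h1)
    · exact add_mem (Ideal.mul_mem_left _ _ h0) (Ideal.mul_mem_left _ _ h1)
  · have e : Ideal.Quotient.mk q (hess R P F).det = Ideal.Quotient.mk q (hess R P Q).det := by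
      rw [RingHom.map_det, RingHom.map_det]
      congr 1
      ext i j
      show Ideal.Quotient.mk q (Basics.pd R P j (Basics.pd R P i F)) =
        Ideal.Quotient.mk q (Basics.pd R P j (Basics.pd R P i Q))
      rw [Ideal.Quotient.eq, ← map_sub, ← map_sub]
      exact hddG i j
    rw [← Ideal.Quotient.eq_zero_iff_mem, ← det_hess_quad R P (Ideal.Quotient.mk q)
      (Ideal.Quotient.eq_zero_iff_mem.2 h0) (Ideal.Quotient.eq_zero_iff_mem.2 h1), ← e,
      Ideal.Quotient.eq_zero_iff_mem]
    exact hmem

/-- The fibre over zero of an étale map to affine space. -/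
theorem etale_fibre_zero {R T : Type u} [CommRing R] [CommRing T] [Algebra R T]
    (Φ : MvPolynomial (Fin 2) R →ₐ[R] T) (hΦ : Φ.toRingHom.Etale) :
    Algebra.Etale R (T ⧸ (RingHom.ker MvPolynomial.constantCoeff : Ideal (MvPolynomial (Fin 2) R)).map Φ.toRingHom) := by
  let I : Ideal (MvPolynomial (Fin 2) R) := RingHom.ker MvPolynomial.constantCoeff
  letI := Φ.toRingHom.toAlgebra
  haveI : Algebra.Etale (MvPolynomial (Fin 2) R) T := RingHom.etale_algebraMap.1 hΦ
  have hq' : ((Ideal.quotientMap (I.map Φ.toRingHom) Φ.toRingHom Ideal.le_comap_map)).Etale :=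
    Basics.etale_quotient I
  have hC : ((Ideal.Quotient.mk I).comp MvPolynomial.C).Etale := by
    refine RingHom.Etale.of_bijective ⟨fun r r' h => ?_, fun z => ?_⟩
    · have h1 := Ideal.Quotient.eq.1 h
      simpa [I, sub_eq_zero] using h1
    · obtain ⟨z, rfl⟩ := Ideal.Quotient.mk_surjective z
      refine ⟨MvPolynomial.constantCoeff z, Ideal.Quotient.eq.2 ?_⟩
      simp [I]
  refine RingHom.etale_algebraMap.1 ?_
  have hcomp : algebraMap R (T ⧸ I.map Φ.toRingHom) =
      (Ideal.quotientMap (I.map Φ.toRingHom) Φ.toRingHom Ideal.le_comap_map).comp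
        ((Ideal.Quotient.mk I).comp MvPolynomial.C) :=
    RingHom.ext fun r => congrArg (Ideal.Quotient.mk (I.map Φ.toRingHom)) (Φ.commutes r).symm
  rw [hcomp]
  exact RingHom.Etale.stableUnderComposition _ _ hC hq'

/-- The critical locus. -/
theorem exists_crit (q : Ideal P) [q.IsPrime] (F : P) (hd : ∀ i, Basics.pd R P i F ∈ q)
    (hH : (hess R P F).det ∉ q) :
    ∃ (C : Type u) (_ : CommRing C) (_ : Algebra R C) (_ : Algebra.Etale R C) (s : P →ₐ[R] C)
      (qC : Ideal C) (_ : qC.IsPrime),
      qC.comap s.toRingHom = q ∧ (∀ i, s (Basics.pd R P i F) = 0) ∧ IsUnit (s (hess R P F).det) := by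
  let T := Localization.Away (hess R P F).det
  let J := algebraMap P T
  have hpd : ∀ (z : P) (i : Fin 2), Basics.pd R T i (J z) = J (Basics.pd R P i z) := by
    intro z i
    let D : Derivation R P T := (Basics.pd R T i).compAlgebraMap P
    let D' : Derivation R P T := (Algebra.linearMap P T).compDer (Basics.pd R P i)
    have hDD : D = D' := Basics.derivation_ext R P D D' fun j => by
      show Basics.pd R T i (J (algebraMap (MvPolynomial (Fin 2) R) P (MvPolynomial.X j))) =
        J (Basics.pd R P i (Basics.coord R P j))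
      rw [← IsScalarTower.algebraMap_apply, Basics.pd_coord', Basics.pd_coord]
      split <;> simp
    exact Derivation.congr_fun hDD z
  haveI : Algebra.FinitePresentation R T :=
    Algebra.FinitePresentation.trans R (MvPolynomial (Fin 2) R) T
  let L : Fin 2 → T := fun i => J (Basics.pd R P i F)
  have hΦ : ((MvPolynomial.aeval (R := R) L).toRingHom).Etale := by
    refine Basics.etale_of_det R T L ?_
    have : (Matrix.of fun i j => Basics.pd R T j (L i)) = J.mapMatrix (hess R P F) := by
      ext i j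
      exact hpd _ j
    rw [this, ← RingHom.map_det]
    exact IsLocalization.Away.algebraMap_isUnit _
  set Φ := (MvPolynomial.aeval (R := R) L).toRingHom
  let I : Ideal (MvPolynomial (Fin 2) R) := RingHom.ker MvPolynomial.constantCoeff
  haveI : Algebra.Etale R (T ⧸ I.map Φ) := etale_fibre_zero (MvPolynomial.aeval (R := R) L) hΦ
  let s : P →ₐ[R] T ⧸ I.map Φ := (Ideal.Quotient.mkₐ R _).comp (IsScalarTower.toAlgHom R P T)
  let ev : T →+* q.ResidueField := IsLocalization.Away.lift (hess R P F).det
    (g := algebraMap P q.ResidueField)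
    (Ne.isUnit fun h => hH (Ideal.algebraMap_residueField_eq_zero.1 h))
  have hev : ∀ z, ev (J z) = algebraMap P q.ResidueField z := fun z =>
    IsLocalization.Away.lift_eq _ _ z
  have hevI : I.map Φ ≤ RingHom.ker ev := by
    rw [Ideal.map_le_iff_le_comap]
    intro z hz
    rw [Ideal.mem_comap, RingHom.mem_ker]
    have e : ev.comp Φ = ((ev.comp (algebraMap R T)).comp MvPolynomial.constantCoeff) := by
      refine MvPolynomial.ringHom_ext (fun r => ?_) fun i => ?_
      · simp [Φ]
      · simp only [RingHom.comp_apply, MvPolynomial.constantCoeff_X, map_zero]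
        show ev (MvPolynomial.aeval L (MvPolynomial.X i)) = 0
        rw [MvPolynomial.aeval_X, hev, Ideal.algebraMap_residueField_eq_zero]
        exact hd i
    show (ev.comp Φ) z = 0
    rw [e, RingHom.comp_apply, show MvPolynomial.constantCoeff z = 0 from hz, map_zero]
  let ev' : T ⧸ I.map Φ →+* q.ResidueField := Ideal.Quotient.lift _ ev fun z hz => hevI hz
  refine ⟨T ⧸ I.map Φ, inferInstance, inferInstance, inferInstance, s, RingHom.ker ev',
    RingHom.ker_isPrime _, ?_, fun i => ?_, ?_⟩
  · ext z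
    show ev (J z) = 0 ↔ z ∈ q
    rw [hev, Ideal.algebraMap_residueField_eq_zero]
  · refine Ideal.Quotient.eq_zero_iff_mem.2 ?_
    have : Φ (MvPolynomial.X i) = L i := MvPolynomial.aeval_X L i
    show L i ∈ _
    rw [← this]
    exact Ideal.mem_map_of_mem _ (by simp [I])
  · exact (IsLocalization.Away.algebraMap_isUnit (hess R P F).det).map (Ideal.Quotient.mk _)

end Groth.Agent.H25.Morse.Crit
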