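import Groth.Agent.Lib.Henselian.DescendSection
import Mathlib.RingTheory.DiscreteValuationRing.Basic
import Mathlib.RingTheory.Unramified.LocalRing
import Mathlib.RingTheory.Filtration
import Mathlib.RingTheory.Flat.TorsionFree
import Mathlib.AlgebraicGeometry.Morphisms.Etale
import Mathlib.AlgebraicGeometry.Morphisms.QuasiFinite

/-! Étale neighbourhoods of the closed point of a trait are traits. -/

set_option autoImplicit false
set_option linter.style.haveILetI false
universe u

open AlgebraicGeometry CategoryTheory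

namespace Groth.Agent.H25.Morse.DVREtale

/-- A Noetherian local ring whose maximal ideal is generated by a non-zero-divisor is a DVR. -/
theorem isDVR (A : Type u) [CommRing A] [IsLocalRing A] [IsNoetherianRing A] (t : A)
    (hm : IsLocalRing.maximalIdeal A = Ideal.span {t}) (ht : ∀ a, t * a = 0 → a = 0) :
    ∃ (_ : IsDomain A), IsDiscreteValuationRing A ∧ Irreducible t := by
  have htne : t ≠ 0 := fun e => one_ne_zero (ht 1 (by rw [e, zero_mul]))
  have key : ∀ a : A, a ≠ 0 → ∃ (n : ℕ) (u : Aˣ), a = u * t ^ n := by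
    intro a ha
    by_contra hc
    push Not at hc
    have hall : ∀ n : ℕ, a ∈ Ideal.span {t ^ n} := by
      intro n
      induction n with
      | zero => simp
      | succ n ih =>
        obtain ⟨b, rfl⟩ := Ideal.mem_span_singleton'.1 ih
        have hb : b ∈ IsLocalRing.maximalIdeal A := fun hu => hc n hu.unit rfl
        rw [hm, Ideal.mem_span_singleton'] at hb
        obtain ⟨c, rfl⟩ := hb
        exact Ideal.mem_span_singleton'.2 ⟨c, by ring⟩
    refine ha ?_
    have : a ∈ ⨅ n : ℕ, IsLocalRing.maximalIdeal A ^ n := Submodule.mem_iInf _ |>.2 fun n => by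
      rw [hm, Ideal.span_singleton_pow]; exact hall n
    rwa [Ideal.iInf_pow_eq_bot_of_isLocalRing _ (IsLocalRing.maximalIdeal.isMaximal A).ne_top] at this
  have htn : ∀ (n : ℕ) (a : A), t ^ n * a = 0 → a = 0 := by
    intro n
    induction n with
    | zero => simp
    | succ n ih => exact fun a h => ih a (ht _ (by rw [← mul_assoc, ← pow_succ', h]))
  haveI : NoZeroDivisors A := ⟨fun {a b} hab => by
    by_contra hc
    push Not at hc
    obtain ⟨n, u, rfl⟩ := key a hc.1
    exact hc.2 (htn n b (u.isUnit.mul_right_eq_zero.1 (by rw [← mul_assoc]; exact hab)))⟩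
  haveI : IsDomain A := NoZeroDivisors.to_isDomain A
  have hirr : Irreducible t := IsDiscreteValuationRing.irreducible_of_span_eq_maximalIdeal t htne hm
  refine ⟨‹_›, IsDiscreteValuationRing.ofHasUnitMulPowIrreducibleFactorization ⟨t, hirr, fun {a} ha => ?_⟩, hirr⟩
  obtain ⟨n, u, rfl⟩ := key a ha
  exact ⟨n, u, mul_comm _ _⟩

/-- Localising an étale algebra over a DVR at one element gives a DVR around a closed point. -/
theorem exists_localize {R C : Type u} [CommRing R] [IsDomain R] [IsDiscreteValuationRing R]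
    [CommRing C] [Algebra R C] [Algebra.Etale R C] (ϖ : R) (hϖ : Irreducible ϖ) (q : Ideal C) [q.IsPrime]
    (hq : q.comap (algebraMap R C) = IsLocalRing.maximalIdeal R) :
    ∃ g ∉ q, ∃ (_ : IsDomain (Localization.Away g)), IsDiscreteValuationRing (Localization.Away g) ∧
      Irreducible (algebraMap R (Localization.Away g) ϖ) := by
  classical
  have hfinR : (Set.univ : Set (PrimeSpectrum R)).Finite := by
    refine Set.Finite.subset (Set.toFinite {⟨⊥, Ideal.isPrime_bot⟩, IsLocalRing.closedPoint R}) fun p _ => ?_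
    by_cases h : p.asIdeal = ⊥
    · exact Or.inl (PrimeSpectrum.ext h)
    · exact Or.inr (PrimeSpectrum.ext (IsLocalRing.eq_maximalIdeal (p.isPrime.isMaximal h)))
  let π : Spec (CommRingCat.of C) ⟶ Spec (CommRingCat.of R) := Spec.map (CommRingCat.ofHom (algebraMap R C))
  haveI : Etale π := by
    rw [HasRingHomProperty.Spec_iff (P := @Etale)]
    exact RingHom.etale_algebraMap.2 inferInstance
  haveI : LocallyQuasiFinite π := Lib.Henselian.DescendSection.locallyQuasiFinite_of_etale π
  haveI : Finite (PrimeSpectrum C) := Set.finite_univ_iff.1 (π.finite_preimage (s := Set.univ) hfinR)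
  have hsel : ∀ p : PrimeSpectrum C, ∃ e : C, e ∉ q ∧ (¬ p.asIdeal ≤ q → e ∈ p.asIdeal) := fun p => by
    by_cases h : p.asIdeal ≤ q
    · exact ⟨1, fun h1 => Ideal.IsPrime.ne_top ‹_› ((Ideal.eq_top_iff_one q).2 h1), fun hn => absurd h hn⟩
    · obtain ⟨e, he, he'⟩ := Set.not_subset.1 h
      exact ⟨e, he', fun _ => he⟩
  choose e he he' using hsel
  haveI := Fintype.ofFinite (PrimeSpectrum C)
  let g : C := ∏ p, e p
  have hg : g ∉ q := fun h => by
    obtain ⟨p, -, hp⟩ := (Ideal.IsPrime.prod_mem_iff (p := q)).1 h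
    exact he p hp
  refine ⟨g, hg, ?_⟩
  let A := Localization.Away g
  have hle : ∀ (P : Ideal A) [P.IsPrime], P.comap (algebraMap C A) ≤ q := fun P _ => by
    by_contra hn
    have h1 : g ∈ P.comap (algebraMap C A) :=
      Ideal.prod_mem _ (Finset.mem_univ (⟨P.comap (algebraMap C A), inferInstance⟩ : PrimeSpectrum C))
        (he' ⟨P.comap (algebraMap C A), inferInstance⟩ hn)
    exact Ideal.IsPrime.ne_top ‹_› (Ideal.eq_top_of_isUnit_mem P (Ideal.mem_comap.1 h1)
      (IsLocalization.map_units A ⟨g, Submonoid.mem_powers g⟩))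
  have hdisj : Disjoint (Submonoid.powers g : Set C) (q : Set C) :=
    Set.disjoint_left.2 fun a ⟨n, hn⟩ ha => by
      subst hn
      exact hg (Ideal.IsPrime.mem_of_pow_mem ‹_› n ha)
  haveI hMprime : (q.map (algebraMap C A)).IsPrime :=
    IsLocalization.isPrime_of_isPrime_disjoint (Submonoid.powers g) A q ‹_› hdisj
  have hcomap : (q.map (algebraMap C A)).comap (algebraMap C A) = q :=
    IsLocalization.comap_map_of_isPrime_disjoint (Submonoid.powers g) A ‹_› hdisj
  have hPle : ∀ P : Ideal A, P.IsPrime → P ≤ q.map (algebraMap C A) := fun P hP => by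
    rw [← IsLocalization.map_under (Submonoid.powers g) A P]
    exact Ideal.map_mono (hle P)
  have hmax : (q.map (algebraMap C A)).IsMaximal := by
    obtain ⟨P, hP, hle'⟩ := Ideal.exists_le_maximal (q.map (algebraMap C A)) hMprime.ne_top
    rwa [le_antisymm hle' (hPle P hP.isPrime)]
  haveI : IsLocalRing A := IsLocalRing.of_unique_max_ideal ⟨q.map (algebraMap C A), hmax,
    fun P hP => hP.eq_of_le hMprime.ne_top (hPle P hP.isPrime)⟩
  haveI : IsNoetherianRing C := Algebra.FiniteType.isNoetherianRing R C
  haveI : IsNoetherianRing A := IsLocalization.isNoetherianRing (Submonoid.powers g) A inferInstance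
  haveI : Algebra.Etale C A := Algebra.Etale.of_isLocalizationAway g
  haveI : Algebra.Etale R A := Algebra.Etale.comp R C A
  have hmA : IsLocalRing.maximalIdeal A = q.map (algebraMap C A) := (IsLocalRing.eq_maximalIdeal hmax).symm
  haveI : IsLocalHom (algebraMap R A) := by
    refine ((IsLocalRing.local_hom_TFAE _).out 0 4 rfl rfl).2 ?_
    rw [hmA, IsScalarTower.algebraMap_eq R C A, ← Ideal.comap_comap, hcomap, hq]
  refine isDVR A (algebraMap R A ϖ) ?_ fun a ha => ?_
  · rw [← Algebra.FormallyUnramified.map_maximalIdeal (R := R) (S := A), hϖ.maximalIdeal_eq,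
      Ideal.map_span, Set.image_singleton]
  · haveI : Module.Flat R A := inferInstance
    have h1 : IsSMulRegular A ϖ :=
      Module.Flat.isSMulRegular_of_nonZeroDivisors (mem_nonZeroDivisors_of_ne_zero hϖ.ne_zero)
    exact h1 (by simpa [Algebra.smul_def] using ha)

end Groth.Agent.H25.Morse.DVREtale
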