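import Groth.Agent.H25.Node.Completed
import Groth.Agent.H25.Node.Quadratic
import Groth.Agent.H25.Fitting
import Mathlib.RingTheory.AdicCompletion.Algebra
import Mathlib.RingTheory.Kaehler.Basic

/-!
A node deformed by a parameter degenerates only over the closed point.
-/

set_option autoImplicit false
set_option linter.style.haveILetI false
universe u

open IsLocalRing
open scoped TensorProduct

namespace Groth.Agent.H25.Morse.Degenerate

variable {Λ A : Type u} [CommRing Λ] [IsLocalRing Λ] [IsNoetherianRing Λ]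
  [CommRing A] [IsLocalRing A] [IsNoetherianRing A] [Algebra Λ A] (u : Λ)

/-- The completion is `Λ[[x,y]]/(xy - u)`. -/
def HasChart : Prop :=
  ∃ e : AdicCompletion (maximalIdeal A) A ≃+*
      (MvPowerSeries (Fin 2) Λ ⧸ Ideal.span
        {MvPowerSeries.X 0 * MvPowerSeries.X 1 - MvPowerSeries.C u}),
    ∀ c : Λ, e (algebraMap A _ (algebraMap Λ A c)) = Ideal.Quotient.mk _ (MvPowerSeries.C c)

/-- Split off the constant term. -/
theorem split (f : MvPowerSeries (Fin 2) Λ) : ∃ f₁ f₂ : MvPowerSeries (Fin 2) Λ,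
    f = MvPowerSeries.C (MvPowerSeries.constantCoeff f) + MvPowerSeries.X 0 * f₁ + MvPowerSeries.X 1 * f₂ := by
  classical
  let g₀ : MvPowerSeries (Fin 2) Λ := fun m => if m 0 = 0 then 0 else MvPowerSeries.coeff m f
  have hc : ∀ m, MvPowerSeries.coeff m g₀ = if m 0 = 0 then 0 else MvPowerSeries.coeff m f := fun m => rfl
  obtain ⟨f₁, hf₁⟩ := (MvPowerSeries.X_dvd_iff (φ := g₀) (s := (0 : Fin 2))).2 fun m hm => by rw [hc, if_pos hm]
  obtain ⟨f₂, hf₂⟩ := (MvPowerSeries.X_dvd_iff
      (φ := f - MvPowerSeries.C (MvPowerSeries.constantCoeff f) - g₀) (s := (1 : Fin 2))).2 fun m hm => by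
    rw [map_sub, map_sub, hc, MvPowerSeries.coeff_C]
    by_cases h0 : m 0 = 0
    · have hm0 : m = 0 := by
        ext i
        fin_cases i
        · exact h0
        · exact hm
      subst hm0
      rw [if_pos rfl, if_pos h0, ← MvPowerSeries.coeff_zero_eq_constantCoeff_apply]
      simp
    · rw [if_neg h0, if_neg (fun e => h0 (by rw [e]; rfl))]
      simp
  exact ⟨f₁, f₂, by rw [← hf₁, ← hf₂]; ring⟩

variable {u}

/-- Coordinates modulo a power of the maximal ideal. -/
theorem exists_approx (h : HasChart (A := A) u) (n : ℕ) (hn : n ≠ 0) :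
    ∃ a b : A, a ∈ maximalIdeal A ∧ b ∈ maximalIdeal A ∧ a * b - algebraMap Λ A u ∈ maximalIdeal A ^ n ∧
      ∀ α : A, ∃ (c : Λ) (α₁ α₂ : A),
        α - (algebraMap Λ A c + a * α₁ + b * α₂) ∈ maximalIdeal A ^ n := by
  obtain ⟨e, he⟩ := h
  let π : AdicCompletion (maximalIdeal A) A →+* A ⧸ maximalIdeal A ^ n :=
    (AdicCompletion.evalₐ (maximalIdeal A) n).toRingHom
  let g : MvPowerSeries (Fin 2) Λ →+* A ⧸ maximalIdeal A ^ n :=
    (π.comp e.symm.toRingHom).comp (Ideal.Quotient.mk _)
  have hπ : ∀ x : A, π (algebraMap A _ x) = Ideal.Quotient.mk _ x := fun x =>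
    (AdicCompletion.evalₐ (maximalIdeal A) n).commutes x
  have hgC : ∀ c, g (MvPowerSeries.C c) = Ideal.Quotient.mk _ (algebraMap Λ A c) := fun c => by
    show π (e.symm (Ideal.Quotient.mk _ (MvPowerSeries.C c))) = _
    rw [← he, e.symm_apply_apply, hπ]
  have hgs : Function.Surjective g := fun z => by
    obtain ⟨z, rfl⟩ := Ideal.Quotient.mk_surjective z
    obtain ⟨f, hf⟩ := Ideal.Quotient.mk_surjective (e (algebraMap A _ z))
    refine ⟨f, ?_⟩
    show π (e.symm (Ideal.Quotient.mk _ f)) = _
    rw [hf, e.symm_apply_apply, hπ]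
  haveI : Nontrivial (A ⧸ maximalIdeal A ^ n) := Ideal.Quotient.nontrivial_iff.2 fun he' =>
    (maximalIdeal.isMaximal A).ne_top (top_le_iff.1 (he' ▸ Ideal.pow_le_self hn))
  haveI : IsLocalHom g := IsLocalHom.of_surjective g hgs
  obtain ⟨a, ha⟩ := Ideal.Quotient.mk_surjective (g (MvPowerSeries.X 0))
  obtain ⟨b, hb⟩ := Ideal.Quotient.mk_surjective (g (MvPowerSeries.X 1))
  have hm : ∀ (s : Fin 2) (z : A), Ideal.Quotient.mk _ z = g (MvPowerSeries.X s) → z ∈ maximalIdeal A := by
    intro s z hz hu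
    have h1 : IsUnit (g (MvPowerSeries.X s)) := hz ▸ hu.map _
    have h2 := isUnit_of_map_unit g _ h1
    rw [MvPowerSeries.isUnit_iff_constantCoeff, MvPowerSeries.constantCoeff_X] at h2
    exact not_isUnit_zero h2
  refine ⟨a, b, hm 0 a ha, hm 1 b hb, ?_, fun α => ?_⟩
  · rw [← Ideal.Quotient.eq_zero_iff_mem, map_sub, map_mul, ha, hb, ← hgC, ← map_mul, ← map_sub]
    show π (e.symm (Ideal.Quotient.mk _ _)) = 0
    rw [Ideal.Quotient.eq_zero_iff_mem.2 (Ideal.mem_span_singleton_self _), map_zero, map_zero]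
  · obtain ⟨f, hf⟩ := hgs (Ideal.Quotient.mk _ α)
    obtain ⟨f₁, f₂, hsplit⟩ := split f
    obtain ⟨α₁, hα₁⟩ := Ideal.Quotient.mk_surjective (g f₁)
    obtain ⟨α₂, hα₂⟩ := Ideal.Quotient.mk_surjective (g f₂)
    refine ⟨MvPowerSeries.constantCoeff f, α₁, α₂, ?_⟩
    rw [← Ideal.Quotient.eq, map_add, map_add, map_mul, map_mul, ← hgC, ha, hb, hα₁, hα₂, ← hf]
    conv_lhs => rw [hsplit]
    simp only [map_add, map_mul]

/-- Derivations lower the powers by one. -/
theorem derivation_pow {D : Type u} [CommRing D] [IsLocalRing D] [Algebra A D] [Algebra Λ D]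
    [IsScalarTower Λ A D] [IsLocalHom (algebraMap A D)] (δ : Derivation Λ A D) :
    ∀ (n : ℕ), ∀ α ∈ maximalIdeal A ^ (n + 1), δ α ∈ maximalIdeal D ^ n
  | 0, α, _ => by simp
  | n + 1, α, hα => by
    rw [pow_succ'] at hα
    refine Submodule.mul_induction_on hα (fun x hx y hy => ?_) fun x y hx hy => by
      rw [map_add]; exact add_mem hx hy
    rw [Derivation.leibniz, Algebra.smul_def, Algebra.smul_def]
    refine add_mem ?_ ?_
    · rw [pow_succ']
      exact Ideal.mul_mem_mul (map_maximalIdeal_le _ (Ideal.mem_map_of_mem _ hx)) (derivation_pow δ n y hy)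
    · refine Ideal.mul_mem_right _ _ ?_
      refine Ideal.pow_right_mono (map_maximalIdeal_le (algebraMap A D)) _ ?_
      rw [← Ideal.map_pow]
      exact Ideal.mem_map_of_mem _ hy

/-- The wedge of two derivations into a domain vanishes if the parameter survives. -/
theorem wedge_eq_zero (h : HasChart (A := A) u) {D : Type u} [CommRing D] [IsDomain D] [IsLocalRing D]
    [IsNoetherianRing D] [Algebra A D] [Algebra Λ D] [IsScalarTower Λ A D] [IsLocalHom (algebraMap A D)]
    (hu : algebraMap Λ D u ≠ 0) (δ δ' : Derivation Λ A D) (α β : A) :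
    δ α * δ' β - δ' α * δ β = 0 := by
  have key : ∀ n : ℕ, algebraMap Λ D u * (δ α * δ' β - δ' α * δ β) ∈ maximalIdeal D ^ n := by
    intro n
    obtain ⟨a, b, ha, hb, hab, hdec⟩ := exists_approx h (n + 1) n.succ_ne_zero
    set J := maximalIdeal D ^ n
    have hJ : ∀ (d : Derivation Λ A D), ∀ z ∈ maximalIdeal A ^ (n + 1), d z ∈ J := fun d z hz =>
      derivation_pow d n z hz
    have hJa : ∀ z ∈ maximalIdeal A ^ (n + 1), algebraMap A D z ∈ J := fun z hz => by
      have h1 := Ideal.mem_map_of_mem (algebraMap A D) hz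
      rw [Ideal.map_pow] at h1
      exact Ideal.pow_le_pow_right n.le_succ (Ideal.pow_right_mono (map_maximalIdeal_le _) _ h1)
    have hAp : ∀ j ≤ n + 1, ∀ z : A, ∃ (p q : D), ∀ d : Derivation Λ A D,
        d z - (p * d a + q * d b) ∈ maximalIdeal D ^ (j - 1) := by
      intro j
      induction j with
      | zero => exact fun _ z => ⟨0, 0, fun d => by simp⟩
      | succ j ih =>
        intro hj z
        obtain ⟨c, z₁, z₂, hz⟩ := hdec z
        obtain ⟨p₁, q₁, h₁⟩ := ih (by omega) z₁
        obtain ⟨p₂, q₂, h₂⟩ := ih (by omega) z₂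
        refine ⟨algebraMap A D z₁ + algebraMap A D a * p₁ + algebraMap A D b * p₂,
          algebraMap A D z₂ + algebraMap A D a * q₁ + algebraMap A D b * q₂, fun d => ?_⟩
        have h0 : d (z - (algebraMap Λ A c + a * z₁ + b * z₂)) ∈ maximalIdeal D ^ (j + 1 - 1) :=
          Ideal.pow_le_pow_right (by omega) (hJ d _ hz)
        have hm : ∀ w ∈ maximalIdeal A, ∀ r ∈ maximalIdeal D ^ (j - 1),
            algebraMap A D w * r ∈ maximalIdeal D ^ (j + 1 - 1) := fun w hw r hr => by
          refine Ideal.pow_le_pow_right (by omega : j + 1 - 1 ≤ (j - 1) + 1) ?_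
          rw [pow_succ']
          exact Ideal.mul_mem_mul (map_maximalIdeal_le _ (Ideal.mem_map_of_mem _ hw)) hr
        convert add_mem (add_mem h0 (hm a ha _ (h₁ d))) (hm b hb _ (h₂ d)) using 1
        rw [map_sub, map_add, map_add, Derivation.map_algebraMap, Derivation.leibniz, Derivation.leibniz]
        simp only [Algebra.smul_def]
        ring
    obtain ⟨p, q, hpq⟩ := hAp (n + 1) le_rfl α
    obtain ⟨p', q', hpq'⟩ := hAp (n + 1) le_rfl β
    simp only [Nat.add_sub_cancel] at hpq hpq'
    have hrel : ∀ d : Derivation Λ A D, algebraMap A D a * d b + algebraMap A D b * d a ∈ J := fun d => by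
      convert hJ d _ hab using 1
      rw [map_sub, Derivation.map_algebraMap, Derivation.leibniz]
      simp only [Algebra.smul_def]
      ring
    rw [← Ideal.Quotient.eq_zero_iff_mem]
    have e1 := Ideal.Quotient.eq.2 (hpq δ)
    have e2 := Ideal.Quotient.eq.2 (hpq δ')
    have e3 := Ideal.Quotient.eq.2 (hpq' δ)
    have e4 := Ideal.Quotient.eq.2 (hpq' δ')
    have r1 := Ideal.Quotient.eq_zero_iff_mem.2 (hrel δ)
    have r2 := Ideal.Quotient.eq_zero_iff_mem.2 (hrel δ')
    have hu' : Ideal.Quotient.mk J (algebraMap Λ D u) =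
        Ideal.Quotient.mk J (algebraMap A D a) * Ideal.Quotient.mk J (algebraMap A D b) := by
      rw [← map_mul, IsScalarTower.algebraMap_apply Λ A D, ← map_mul, eq_comm, Ideal.Quotient.eq, ← map_sub]
      exact hJa _ hab
    simp only [map_sub, map_add, map_mul] at e1 e2 e3 e4 r1 r2 ⊢
    rw [hu', e1, e2, e3, e4]
    set A' := Ideal.Quotient.mk J (algebraMap A D a)
    set B' := Ideal.Quotient.mk J (algebraMap A D b)
    set P := Ideal.Quotient.mk J p
    set Q := Ideal.Quotient.mk J q
    set P' := Ideal.Quotient.mk J p'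
    set Q' := Ideal.Quotient.mk J q'
    linear_combination (A' * (P * Q' - P' * Q) * Ideal.Quotient.mk J (δ' b)) * r1 -
      (A' * (P * Q' - P' * Q) * Ideal.Quotient.mk J (δ b)) * r2
  have h0 : algebraMap Λ D u * (δ α * δ' β - δ' α * δ β) = 0 := by
    have : algebraMap Λ D u * (δ α * δ' β - δ' α * δ β) ∈ ⨅ n : ℕ, maximalIdeal D ^ n :=
      Submodule.mem_iInf _ |>.2 key
    rwa [Ideal.iInf_pow_eq_bot_of_isLocalRing _ (maximalIdeal.isMaximal D).ne_top] at this
  exact (mul_eq_zero.1 h0).resolve_left hu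

/-- **Degeneration only over the closed point.** -/
theorem param_mem (h : HasChart (A := A) u) [Algebra.EssFiniteType Λ A] (q : Ideal A) [q.IsPrime]
    (hq : Fitt.ideal A Ω[A⁄Λ] 1 ≤ q) : algebraMap Λ A u ∈ q := by
  by_contra hu
  let D := A ⧸ q
  let K := FractionRing D
  let N := K ⊗[A] Ω[A⁄Λ]
  have hK : ∀ a ∈ q, algebraMap A K a = 0 := fun a ha => by
    rw [IsScalarTower.algebraMap_apply A D K, show algebraMap A D a = 0 from Ideal.Quotient.eq_zero_iff_mem.2 ha,
      map_zero]
  have h2 : 2 ≤ Module.finrank K N := by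
    by_contra hlt
    have hbot : Fitt.ideal K N 1 = ⊥ := by
      rw [H25.Fitting.ideal_baseChange (R' := K) 1, eq_bot_iff, Ideal.map_le_iff_le_comap]
      exact fun a ha => Ideal.mem_bot.2 (hK a (hq ha))
    have hb := (Module.finBasis K N).span_eq
    rw [H25.Fitting.ideal_eq_top _ hb (by omega)] at hbot
    exact top_ne_bot hbot
  let bN := Module.finBasis K N
  let i₀ : Fin (Module.finrank K N) := ⟨0, by omega⟩
  let i₁ : Fin (Module.finrank K N) := ⟨1, by omega⟩
  obtain ⟨G, gens, hG⟩ := Module.Finite.exists_fin (R := A) (M := Ω[A⁄Λ])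
  let φ : Fin 2 → Ω[A⁄Λ] →ₗ[A] K := fun k =>
    ((bN.coord (![i₀, i₁] k)).restrictScalars A).comp (TensorProduct.mk A K Ω[A⁄Λ] 1)
  classical
  obtain ⟨s, hs⟩ := IsLocalization.exist_integer_multiples_of_finset (nonZeroDivisors D)
    (Finset.univ.image fun x : Fin 2 × Fin G => φ x.1 (gens x.2))
  have hs' : ∀ (k : Fin 2) (z : Ω[A⁄Λ]), ∃ d : D, algebraMap D K d = algebraMap D K (s : D) * φ k z := by
    intro k z
    have hz : z ∈ Submodule.span A (Set.range gens) := hG ▸ Submodule.mem_top
    induction hz using Submodule.span_induction with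
    | mem z hz =>
      obtain ⟨i, rfl⟩ := hz
      obtain ⟨d, hd⟩ := hs _ (Finset.mem_image.2 ⟨(k, i), Finset.mem_univ _, rfl⟩)
      exact ⟨d, hd.trans (Algebra.smul_def _ _)⟩
    | zero => exact ⟨0, by simp⟩
    | add z w _ _ hz hw =>
      obtain ⟨d, hd⟩ := hz
      obtain ⟨d', hd'⟩ := hw
      exact ⟨d + d', by rw [map_add, hd, hd', map_add, mul_add]⟩
    | smul a z _ hz =>
      obtain ⟨d, hd⟩ := hz
      exact ⟨algebraMap A D a * d, by
        rw [map_mul, hd, LinearMap.map_smul, Algebra.smul_def, ← IsScalarTower.algebraMap_apply A D K]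
        ring⟩
  choose L hL using hs'
  have hinj := IsFractionRing.injective D K
  let L' : Fin 2 → Ω[A⁄Λ] →ₗ[A] D := fun k =>
    { toFun := L k
      map_add' := fun z w => hinj (by rw [map_add, hL, hL, hL, map_add, mul_add])
      map_smul' := fun a z => hinj (by
        rw [RingHom.id_apply, Algebra.smul_def, map_mul, hL, hL, LinearMap.map_smul, Algebra.smul_def,
          ← IsScalarTower.algebraMap_apply A D K]
        ring) }
  haveI : IsLocalRing D := IsLocalRing.of_surjective' (Ideal.Quotient.mk q) Ideal.Quotient.mk_surjective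
  haveI : IsLocalHom (algebraMap A D) := IsLocalHom.of_surjective _ Ideal.Quotient.mk_surjective
  have huD : algebraMap Λ D u ≠ 0 := fun e => hu (Ideal.Quotient.eq_zero_iff_mem.1 (by
    rw [← Ideal.Quotient.algebraMap_eq, ← IsScalarTower.algebraMap_apply]; exact e))
  let δ : Fin 2 → Derivation Λ A D := fun k => (L' k).compDer (KaehlerDifferential.D Λ A)
  have hwedge : ∀ z w : Ω[A⁄Λ], L 0 z * L 1 w - L 1 z * L 0 w = 0 := by
    intro z w
    have hspan := KaehlerDifferential.span_range_derivation Λ A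
    show L' 0 z * L' 1 w - L' 1 z * L' 0 w = 0
    have hz : z ∈ Submodule.span A (Set.range (KaehlerDifferential.D Λ A)) := hspan ▸ Submodule.mem_top
    induction hz using Submodule.span_induction with
    | mem z hz =>
      obtain ⟨α, rfl⟩ := hz
      have hw : w ∈ Submodule.span A (Set.range (KaehlerDifferential.D Λ A)) := hspan ▸ Submodule.mem_top
      induction hw using Submodule.span_induction with
      | mem w hw =>
        obtain ⟨β, rfl⟩ := hw
        exact wedge_eq_zero h huD (δ 0) (δ 1) α β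
      | zero => simp
      | add x y _ _ hx hy => rw [map_add, map_add]; linear_combination hx + hy
      | smul a x _ hx =>
        simp only [LinearMap.map_smul, Algebra.smul_def]
        linear_combination (algebraMap A D a) * hx
    | zero => simp
    | add x y _ _ hx hy => rw [map_add, map_add]; linear_combination hx + hy
    | smul a x _ hx =>
      simp only [LinearMap.map_smul, Algebra.smul_def]
      linear_combination (algebraMap A D a) * hx
  have hs0 : algebraMap D K (s : D) ≠ 0 := fun e =>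
    nonZeroDivisors.ne_zero s.2 ((injective_iff_map_eq_zero _).1 hinj _ e)
  have hN : ∀ x y : N, bN.coord i₀ x * bN.coord i₁ y - bN.coord i₁ x * bN.coord i₀ y = 0 := by
    intro x y
    induction x using TensorProduct.induction_on with
    | zero => simp
    | add x x' hx hx' => rw [map_add, map_add]; linear_combination hx + hx'
    | tmul k z =>
      induction y using TensorProduct.induction_on with
      | zero => simp
      | add y y' hy hy' => rw [map_add, map_add]; linear_combination hy + hy'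
      | tmul l w =>
        have h1 := congrArg (algebraMap D K) (hwedge z w)
        rw [map_sub, map_mul, map_mul, hL, hL, hL, hL, map_zero,
          show φ 0 z = bN.coord i₀ (1 ⊗ₜ[A] z) from rfl, show φ 1 z = bN.coord i₁ (1 ⊗ₜ[A] z) from rfl,
          show φ 0 w = bN.coord i₀ (1 ⊗ₜ[A] w) from rfl, show φ 1 w = bN.coord i₁ (1 ⊗ₜ[A] w) from rfl] at h1
        have e1 : ∀ (i : Fin _) (c : K) (v : Ω[A⁄Λ]), bN.coord i (c ⊗ₜ[A] v) = c * bN.coord i (1 ⊗ₜ[A] v) :=
          fun i c v => by rw [← smul_eq_mul, ← LinearMap.map_smul, TensorProduct.smul_tmul', smul_eq_mul, mul_one]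
        rw [e1 i₀ k z, e1 i₁ l w, e1 i₁ k z, e1 i₀ l w]
        refine (mul_right_inj' (mul_ne_zero hs0 hs0)).1 ?_
        rw [mul_zero]
        linear_combination (k * l) * h1
  have h3 := hN (bN i₀) (bN i₁)
  have hne : i₀ ≠ i₁ := by simp [i₀, i₁, Fin.ext_iff]
  simp [hne, hne.symm] at h3

/-- The residue field of the node is that of the base. -/
theorem exists_residue (h : HasChart (A := A) u) (α : A) : ∃ c : Λ, α - algebraMap Λ A c ∈ maximalIdeal A := by
  obtain ⟨a, b, ha, hb, -, hdec⟩ := exists_approx h 1 one_ne_zero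
  obtain ⟨c, α₁, α₂, hc⟩ := hdec α
  rw [pow_one] at hc
  refine ⟨c, ?_⟩
  convert add_mem hc (add_mem (Ideal.mul_mem_right α₁ _ ha) (Ideal.mul_mem_right α₂ _ hb)) using 1
  ring

/-- The special fibre is a node. -/
theorem isNodal_special (h : HasChart (A := A) u) (hu : u ∈ maximalIdeal Λ) {F : Type u} [CommRing F] [IsLocalRing F]
    [IsNoetherianRing F] (φ : A →+* F) (hφ : Function.Surjective φ)
    (hker : RingHom.ker φ = (maximalIdeal Λ).map (algebraMap Λ A)) : Node.IsNodal F := by
  obtain ⟨e, he⟩ := h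
  obtain ⟨ec, -⟩ := Node.Completed.exists_completion_surj φ hφ
  let k := ResidueField Λ
  let v : Fin 3 → k := ![0, 1, 0]
  let ρ : MvPowerSeries (Fin 2) Λ →+* MvPowerSeries (Fin 2) k := MvPowerSeries.map (residue Λ)
  have hρs : Function.Surjective ρ := Node.Family.map_surjective _ residue_surjective
  have hform : Node.Model.form k v = MvPowerSeries.X 0 * MvPowerSeries.X 1 := by
    simp [Node.Model.form, Node.quad, v]
  let r : MvPowerSeries (Fin 2) Λ := MvPowerSeries.X 0 * MvPowerSeries.X 1 - MvPowerSeries.C u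
  have hρr : ρ r = Node.Model.form k v := by
    simp only [r, ρ, map_sub, map_mul, MvPowerSeries.map_X, MvPowerSeries.map_C, hform,
      (residue_eq_zero_iff u).2 hu, map_zero, sub_zero]
  let Φ : MvPowerSeries (Fin 2) Λ →+* Node.Model.Model k v := (Ideal.Quotient.mk _).comp ρ
  let Φ' : (MvPowerSeries (Fin 2) Λ ⧸ Ideal.span {r}) →+* Node.Model.Model k v :=
    Ideal.Quotient.lift _ Φ (fun f hf => by
      obtain ⟨w, rfl⟩ := Ideal.mem_span_singleton'.1 hf
      show Ideal.Quotient.mk _ (ρ (w * r)) = 0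
      rw [map_mul, hρr, Ideal.Quotient.eq_zero_iff_mem]
      exact Ideal.mul_mem_left _ _ (Ideal.mem_span_singleton_self _))
  let θ : AdicCompletion (maximalIdeal A) A →+* Node.Model.Model k v := Φ'.comp e.toRingHom
  have hθs : Function.Surjective θ := fun z => by
    obtain ⟨z, rfl⟩ := Ideal.Quotient.mk_surjective z
    obtain ⟨f, rfl⟩ := hρs z
    refine ⟨e.symm (Ideal.Quotient.mk _ f), ?_⟩
    show Φ' (e (e.symm _)) = _
    rw [e.apply_symm_apply]
    rfl
  have hθk : RingHom.ker θ = (RingHom.ker φ).map (algebraMap A (AdicCompletion (maximalIdeal A) A)) := by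
    rw [hker, Ideal.map_map]
    refine le_antisymm (fun z hz => ?_) (Ideal.map_le_iff_le_comap.2 fun c hc => ?_)
    · obtain ⟨f, hf⟩ := Ideal.Quotient.mk_surjective (e z)
      have hz' : Ideal.Quotient.mk (Ideal.span {Node.Model.form k v}) (ρ f) = 0 := by
        have h0 : Φ' (e z) = 0 := hz
        rw [← hf] at h0
        exact h0
      obtain ⟨w, hw⟩ := Ideal.mem_span_singleton'.1 (Ideal.Quotient.eq_zero_iff_mem.1 hz')
      obtain ⟨w', rfl⟩ := hρs w
      have h1 : ρ (f - w' * r) = 0 := by rw [map_sub, map_mul, hρr, hw, sub_self]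
      have h2 : f - w' * r ∈ (maximalIdeal Λ).map (MvPowerSeries.C : Λ →+* MvPowerSeries (Fin 2) Λ) :=
        Node.Family.mem_map_of_coeff _ ((isNoetherianRing_iff_ideal_fg Λ).1 inferInstance _) fun d => by
          rw [← residue_eq_zero_iff]
          exact (MvPowerSeries.coeff_map _ _ _).symm.trans (by rw [h1, map_zero])
      have h3 := Ideal.mem_map_of_mem (e.symm.toRingHom.comp (Ideal.Quotient.mk (Ideal.span {r}))) h2
      rw [Ideal.map_map] at h3
      have h4 : (e.symm.toRingHom.comp (Ideal.Quotient.mk (Ideal.span {r}))).comp MvPowerSeries.C =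
          (algebraMap A (AdicCompletion (maximalIdeal A) A)).comp (algebraMap Λ A) := by
        refine RingHom.ext fun c => ?_
        show e.symm (Ideal.Quotient.mk _ (MvPowerSeries.C c)) = _
        rw [← he, e.symm_apply_apply]
        rfl
      rw [h4] at h3
      convert h3 using 1
      show z = e.symm (Ideal.Quotient.mk (Ideal.span {r}) (f - w' * r))
      rw [map_sub (Ideal.Quotient.mk (Ideal.span {r})), map_mul (Ideal.Quotient.mk (Ideal.span {r})),
        Ideal.Quotient.eq_zero_iff_mem.2 (Ideal.mem_span_singleton_self r), mul_zero, sub_zero, hf,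
        e.symm_apply_apply]
    · show Φ' (e _) = 0
      rw [RingHom.comp_apply, he]
      show Ideal.Quotient.mk _ (ρ (MvPowerSeries.C c)) = 0
      rw [show ρ (MvPowerSeries.C c) = MvPowerSeries.C (residue Λ c) from MvPowerSeries.map_C _ _,
        (residue_eq_zero_iff c).2 hc, map_zero, map_zero]
  let E : Node.Model.Model k v ≃+* Curv2.cpl F :=
    ((RingHom.quotientKerEquivOfSurjective hθs).symm.trans (Ideal.quotEquivOfEq hθk)).trans ec.symm
  have hm := Node.Model.isNodal (K := k) (v := v) (by simp [Node.disc, v])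
  rw [Node.Fibre.isNodal_completion_iff F]
  exact Node.Quadratic.isNodal_of_ringEquiv E hm

end Groth.Agent.H25.Morse.Degenerate
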