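import Mathlib.RingTheory.Ideal.Cotangent
import Mathlib.RingTheory.Etale.Field
import Mathlib.RingTheory.Derivation.Basic

/-!
With a separable residue field, the differential identifies the cotangent space.
-/

set_option autoImplicit false
set_option linter.style.haveILetI false
universe u

open IsLocalRing

namespace Groth.Agent.H25.Morse.Delta

/-- A derivation into the cotangent space which is the identity on the maximal ideal. -/
theorem exists_delta (k N : Type u) [Field k] [CommRing N] [IsLocalRing N] [Algebra k N]
    [Algebra.IsSeparable k (ResidueField N)] :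
    ∃ δ : Derivation k N (maximalIdeal N).Cotangent,
      ∀ (z : N) (hz : z ∈ maximalIdeal N), δ z = (maximalIdeal N).toCotangent ⟨z, hz⟩ := by
  haveI : Algebra.FormallyEtale k (ResidueField N) := Algebra.FormallyEtale.of_isSeparable k _
  let m := maximalIdeal N
  let pr : (N ⧸ m ^ 2) →ₐ[k] ResidueField N :=
    Ideal.Quotient.factorₐ k (Ideal.pow_le_self two_ne_zero : m ^ 2 ≤ m)
  have hker : IsNilpotent (RingHom.ker pr.toRingHom) := by
    refine ⟨2, ?_⟩
    have he : RingHom.ker pr.toRingHom = m.cotangentIdeal := by
      ext z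
      obtain ⟨z, rfl⟩ := Ideal.Quotient.mk_surjective z
      rw [Ideal.mk_mem_cotangentIdeal]
      exact Ideal.Quotient.eq_zero_iff_mem
    rw [he, Ideal.cotangentIdeal_square]
    rfl
  have hprs : Function.Surjective pr :=
    Ideal.Quotient.factor_surjective (Ideal.pow_le_self two_ne_zero : m ^ 2 ≤ m)
  let σ : ResidueField N →ₐ[k] N ⧸ m ^ 2 :=
    Algebra.FormallySmooth.liftOfSurjective (AlgHom.id k _) pr hprs hker
  have hσ : ∀ z, pr (σ z) = z := fun z =>
    Algebra.FormallySmooth.liftOfSurjective_apply (AlgHom.id k _) pr hprs hker z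
  let w : N → N ⧸ m ^ 2 := fun z => Ideal.Quotient.mk _ z - σ (residue N z)
  have hw : ∀ z, w z ∈ m.cotangentIdeal := fun z => by
    obtain ⟨y, hy⟩ := Ideal.Quotient.mk_surjective (σ (residue N z))
    have h1 : residue N y = residue N z := by
      have h2 := hσ (residue N z)
      rw [← hy] at h2
      exact h2
    show Ideal.Quotient.mk _ z - σ (residue N z) ∈ _
    rw [← hy, ← map_sub, Ideal.mk_mem_cotangentIdeal]
    exact Ideal.Quotient.eq.1 h1.symm
  have hmul : ∀ a b, w (a * b) = Ideal.Quotient.mk _ a * w b + Ideal.Quotient.mk _ b * w a := by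
    intro a b
    have h0 : w a * w b = 0 := by
      have := Ideal.mul_mem_mul (hw a) (hw b)
      rwa [← pow_two, Ideal.cotangentIdeal_square, Ideal.mem_bot] at this
    simp only [w, map_mul] at h0 ⊢
    linear_combination -h0
  let e := m.cotangentEquivIdeal
  let δ : N → m.Cotangent := fun z => e.symm ⟨w z, hw z⟩
  have hsmul : ∀ (n : N) (c : m.cotangentIdeal),
      ((n • c : m.cotangentIdeal) : N ⧸ m ^ 2) = Ideal.Quotient.mk _ n * (c : N ⧸ m ^ 2) :=
    fun n c => by rw [Submodule.coe_smul_of_tower, Algebra.smul_def]; rfl
  refine ⟨Derivation.mk'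
    { toFun := δ
      map_add' := fun a b => e.injective (Subtype.ext (by
        simp only [δ, map_add, LinearEquiv.apply_symm_apply, Submodule.coe_add, w]
        ring))
      map_smul' := fun c a => by
        rw [RingHom.id_apply, ← algebraMap_smul N c (δ a)]
        refine e.injective (Subtype.ext ?_)
        rw [map_smul, hsmul]
        simp only [δ, LinearEquiv.apply_symm_apply]
        show Ideal.Quotient.mk _ (c • a) - σ (residue N (c • a)) =
          Ideal.Quotient.mk _ (algebraMap k N c) * (Ideal.Quotient.mk _ a - σ (residue N a))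
        rw [Algebra.smul_def, map_mul, map_mul, map_mul,
          show residue N (algebraMap k N c) = algebraMap k (ResidueField N) c from rfl,
          AlgHom.commutes, show algebraMap k (N ⧸ m ^ 2) c = Ideal.Quotient.mk _ (algebraMap k N c) from rfl]
        ring }
    fun a b => e.injective (Subtype.ext (by
      show (e (δ (a * b)) : N ⧸ m ^ 2) = (e (a • δ b + b • δ a) : N ⧸ m ^ 2)
      rw [map_add, map_smul, map_smul, Submodule.coe_add, hsmul, hsmul]
      simp only [δ, LinearEquiv.apply_symm_apply]
      exact hmul a b)), fun z hz => ?_⟩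
  refine e.injective (Subtype.ext ?_)
  show (e (δ z) : N ⧸ m ^ 2) = _
  simp only [δ, LinearEquiv.apply_symm_apply, w]
  rw [(residue_eq_zero_iff z).2 hz, map_zero, sub_zero]
  rfl

end Groth.Agent.H25.Morse.Delta
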