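import Groth.Agent.H25.Morse.Locus
import Groth.Agent.H2.FlatDescend.Model
import Groth.Agent.Lib.Lim.Descend

/-!
Nodal families descend along limits.
-/

set_option autoImplicit false
set_option linter.style.haveILetI false
set_option backward.isDefEq.respectTransparency false
universe u

open CategoryTheory CategoryTheory.Limits AlgebraicGeometry Opposite
open Groth.Agent.Lib.Lim.Basic Groth.Agent.Lib.Lim.Descend

namespace Groth.Agent.H25.Morse.Descend

/-- Nodal families. -/
def nodal : MorphismProperty Scheme.{u} := fun _ _ f => Curv2.IsNodalFamily f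

theorem nodal_of_isPullback {X Y X' Y' : Scheme.{u}} {f : X ⟶ Y} {f' : X' ⟶ Y'} {a : X' ⟶ X}
    {b : Y' ⟶ Y} (h : IsPullback a f' f b) (hf : nodal f) : nodal f' := by
  have h1 := S1592.result _ (S7912.result _ hf b) h.isoPullback.hom
  rwa [h.isoPullback_hom_snd] at h1

instance : nodal.{u}.IsStableUnderBaseChange := ⟨fun sq h => nodal_of_isPullback sq h⟩

theorem nodal_descends : Descends.{u} nodal @LocallyOfFinitePresentation := by
  intro I _ _ D c hc hD i₀ hcD hqD X₀ f₀ hcX hqX hQ X f qX hX hP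
  haveI : ∀ {i j : I} (g : i ⟶ j), IsAffineHom (D.map g) := fun g => hD _ _ g
  haveI : LocallyOfFinitePresentation f₀ := hQ
  obtain ⟨i, φ, hi⟩ := H2.FlatDescend.flatFp_descends D c hc hD i₀ hcD hqD f₀ hcX hqX hQ f qX hX
    ⟨hP.1, hP.2.1⟩
  let DX := bcDiagram D f₀
  let cX : Cone DX := bcCone hX.w
  have hcX' : IsLimit cX := isLimitBcCone hc hX
  haveI : ∀ {a b : Over i₀} (g : a ⟶ b), IsAffineHom (DX.map g) := fun g =>
    bcDiagram_map_prop D f₀ @IsAffineHom (fun g => inferInstance) g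
  haveI : ∀ a, CompactSpace (DX.obj a) := compactSpace_bcDiagram D f₀
  haveI : ∀ a, QuasiSeparatedSpace (DX.obj a) := quasiSeparatedSpace_bcDiagram D f₀
  let a : Over i₀ := Over.mk φ
  let fa : DX.obj a ⟶ D.obj i := pullback.snd f₀ (D.map φ)
  haveI : Flat fa := hi.1
  haveI : LocallyOfFinitePresentation fa := hi.2
  let G : (DX.obj a).Opens := Locus.nodalLocus fa
  let π : X ⟶ DX.obj a := cX.π.app a
  have hsq : IsPullback π f fa (c.π.app i) := isPullback_bcCone_π hX a
  have hpb : Curv2.IsNodalFamily (pullback.snd fa (c.π.app i)) := by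
    have h1 := S1592.result f hP hsq.isoPullback.inv
    rwa [hsq.isoPullback_inv_snd] at h1
  have htop : π ⁻¹ᵁ G = ⊤ := top_le_iff.1 fun x _ => by
    have h1 := Locus.of_baseChange fa (c.π.app i) (hsq.isoPullback.hom x)
      ⟨⊤, trivial, S1592.result _ hpb (⊤ : (pullback fa (c.π.app i)).Opens).ι⟩
    show π x ∈ G
    rw [← hsq.isoPullback_hom_fst]
    exact h1
  obtain ⟨l, g, hl⟩ := exists_map_eq_top DX cX hcX' G htop
  have hsq' : IsPullback (DX.map g) (pullback.snd f₀ (D.map l.hom)) fa (D.map g.left) :=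
    isPullback_bcDiagram_map D f₀ g
  refine ⟨l.left, l.hom, ?_⟩
  let h := DX.map g
  haveI : IsIso (DX.map g ⁻¹ᵁ G).ι := by
    rw [hl]
    exact inferInstanceAs (IsIso (DX.obj l).topIso.hom)
  have h2 : IsPullback (DX.map g ∣_ G) ((DX.map g ⁻¹ᵁ G).ι ≫ pullback.snd f₀ (D.map l.hom))
      (G.ι ≫ fa) (D.map g.left) :=
    ((isPullback_morphismRestrict (DX.map g) G).flip.paste_horiz hsq'.flip).flip
  have h3 := S1592.result _ (nodal_of_isPullback h2 (Locus.isNodalFamily_nodalLocus fa))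
    (inv (DX.map g ⁻¹ᵁ G).ι)
  rwa [IsIso.inv_hom_id_assoc] at h3

end Groth.Agent.H25.Morse.Descend
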