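import Groth.Agent.H25.Morse.Translate

/-!
The Morse lemma in families, étale locally on the base.
-/

set_option autoImplicit false
set_option linter.style.haveILetI false
universe u

open Groth.Agent.H25.Node

namespace Groth.Agent.H25.Morse.Morse

theorem mem_span_coord {C : Type u} [CommRing C] {z : MvPolynomial (Fin 2) C}
    (hz : z ∈ RingHom.ker MvPolynomial.constantCoeff) :
    z ∈ Ideal.span {MvPolynomial.X 0, MvPolynomial.X 1} := by
  have : ∀ z : MvPolynomial (Fin 2) C, z - MvPolynomial.C (MvPolynomial.constantCoeff z) ∈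
      Ideal.span {MvPolynomial.X 0, MvPolynomial.X 1} := by
    intro z
    induction z using MvPolynomial.induction_on with
    | C a => simp
    | add p q hp hq => convert add_mem hp hq using 1; simp; ring
    | mul_X p i hp =>
      simp only [map_mul, MvPolynomial.constantCoeff_X, mul_zero, map_zero, sub_zero]
      refine Ideal.mul_mem_left _ _ (Ideal.subset_span ?_)
      fin_cases i <;> simp
  have h := this z
  rwa [RingHom.mem_ker.1 hz, map_zero, sub_zero] at h

/-- In a localisation, `q` and the coordinates. -/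
theorem exists_morse {R P : Type u} [CommRing R] [CommRing P] [Algebra R P]
    [Algebra (MvPolynomial (Fin 2) R) P] [IsScalarTower R (MvPolynomial (Fin 2) R) P]
    [Algebra.Etale (MvPolynomial (Fin 2) R) P] (q : Ideal P) [q.IsPrime] (F : P)
    (hd : ∀ i, Basics.pd R P i F ∈ q) (hH : (Crit.hess R P F).det ∉ q) :
    ∃ (C : Type u) (_ : CommRing C) (_ : Algebra R C) (_ : Algebra.Etale R C)
      (P₂ : Type u) (_ : CommRing P₂) (_ : Algebra C P₂) (_ : Algebra (MvPolynomial (Fin 2) C) P₂)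
      (_ : IsScalarTower C (MvPolynomial (Fin 2) C) P₂) (_ : Algebra.Etale (MvPolynomial (Fin 2) C) P₂)
      (ι : P →+* P₂) (q₂ : Ideal P₂) (_ : q₂.IsPrime) (h : C) (v : Fin 3 → P₂),
      ι.Etale ∧ q₂.comap ι = q ∧ (∀ r : R, ι (algebraMap R P r) = algebraMap C P₂ (algebraMap R C r)) ∧
      (∀ i, Basics.coord C P₂ i ∈ q₂) ∧ disc v ∉ q₂ ∧
      ι F + algebraMap C P₂ h = quad v (Basics.coord C P₂ 0) (Basics.coord C P₂ 1) := by
  obtain ⟨C, _, _, _, s, qC, _, hqC, hsD, hsH⟩ := Crit.exists_crit q F hd hH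
  obtain ⟨P', _, _, _, _, _, ι', σ, hι', hσι, hσc, hιR, hιc⟩ := Translate.exists_translate s
  let Φ : MvPolynomial (Fin 2) C →ₐ[C] P' := IsScalarTower.toAlgHom C _ P'
  have hΦ : Φ.toRingHom.Etale := RingHom.etale_algebraMap.2 inferInstance
  let J : Ideal P' := (RingHom.ker MvPolynomial.constantCoeff : Ideal (MvPolynomial (Fin 2) C)).map Φ.toRingHom
  haveI : Algebra.Etale C (P' ⧸ J) := Crit.etale_fibre_zero Φ hΦ
  have hJ : J ≤ Ideal.span {Basics.coord C P' 0, Basics.coord C P' 1} := by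
    rw [Ideal.map_le_iff_le_comap]
    intro z hz
    have h1 := Ideal.mem_map_of_mem Φ.toRingHom (mem_span_coord hz)
    rw [Ideal.map_span, Set.image_pair] at h1
    exact h1
  have hJσ : ∀ z ∈ J, σ z = 0 := fun z hz => by
    obtain ⟨a, b, rfl⟩ := Ideal.mem_span_pair.1 (hJ hz)
    rw [map_add, map_mul, map_mul, hσc, hσc, mul_zero, mul_zero, add_zero]
  let σb : P' ⧸ J →ₐ[C] C := Ideal.Quotient.liftₐ J σ hJσ
  obtain ⟨e, he, hker⟩ := Basics.exists_idempotent C (P' ⧸ J) σb
  obtain ⟨e', rfl⟩ := Ideal.Quotient.mk_surjective e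
  let f := 1 - e'
  have hσf : σ f = 1 := by
    have h1 : σb (Ideal.Quotient.mk J e') = 0 :=
      RingHom.mem_ker.1 (hker.ge (Ideal.mem_span_singleton_self _))
    have h2 : σ e' = 0 := h1
    rw [map_sub, map_one, h2, sub_zero]
  let P₂ := Localization.Away f
  let α := algebraMap P' P₂
  have hu : IsUnit (σ.toRingHom f) := by
    show IsUnit (σ f)
    rw [hσf]
    exact isUnit_one
  let σ₂₀ : P₂ →+* C := IsLocalization.Away.lift f (g := σ.toRingHom) hu
  have hσ₂ : ∀ z, σ₂₀ (α z) = σ z := fun z => IsLocalization.Away.lift_eq f hu z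
  let σ₂ : P₂ →ₐ[C] C :=
    { σ₂₀ with
      commutes' := fun c => by
        show σ₂₀ (algebraMap C P₂ c) = c
        rw [IsScalarTower.algebraMap_apply C P' P₂, hσ₂, AlgHom.commutes]
        rfl }
  have hcoord : ∀ i, Basics.coord C P₂ i = α (Basics.coord C P' i) := fun i =>
    IsScalarTower.algebraMap_apply (MvPolynomial (Fin 2) C) P' P₂ _
  have hker₂ : ∀ z, σ₂ z = 0 → z ∈ Ideal.span {Basics.coord C P₂ 0, Basics.coord C P₂ 1} := by
    intro z hz
    obtain ⟨⟨y, t⟩, hy⟩ := IsLocalization.surj (Submonoid.powers f) z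
    have h1 : σb (Ideal.Quotient.mk J y) = 0 := by
      show σ y = 0
      rw [← hσ₂, show α y = z * α t from hy.symm, map_mul]
      show σ₂ z * _ = 0
      rw [hz, zero_mul]
    have h2 : Ideal.Quotient.mk J y ∈ RingHom.ker σb.toRingHom := h1
    rw [hker] at h2
    obtain ⟨c, hc⟩ := Ideal.mem_span_singleton'.1 h2
    have h3 : f * y ∈ J := by
      rw [← Ideal.Quotient.eq_zero_iff_mem, map_mul, ← hc, map_sub, map_one]
      linear_combination (-c) * he.eq
    have h4 := Ideal.mem_map_of_mem α (hJ h3)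
    rw [Ideal.map_span, Set.image_pair, ← hcoord, ← hcoord, map_mul,
      Ideal.unit_mul_mem_iff_mem _ (IsLocalization.Away.algebraMap_isUnit f),
      show α y = z * α t from hy.symm] at h4
    exact (Ideal.mul_unit_mem_iff_mem _ (IsLocalization.map_units P₂ t)).1 h4
  let ι : P →+* P₂ := α.comp ι'
  have hιet : ι.Etale := RingHom.Etale.stableUnderComposition _ _ hι'
    (RingHom.etale_algebraMap.2 (Algebra.Etale.of_isLocalizationAway f))
  have hσι₂ : ∀ z, σ₂ (ι z) = s z := fun z => (hσ₂ _).trans (hσι z)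
  have hιR₂ : ∀ r : R, ι (algebraMap R P r) = algebraMap C P₂ (algebraMap R C r) := fun r => by
    show α (ι' _) = _
    rw [hιR, ← IsScalarTower.algebraMap_apply]
  -- derivatives commute with `ι`
  letI : Algebra P P₂ := ι.toAlgebra
  letI : Algebra R P₂ := ((algebraMap C P₂).comp (algebraMap R C)).toAlgebra
  haveI : IsScalarTower R C P₂ := IsScalarTower.of_algebraMap_eq fun _ => rfl
  haveI : IsScalarTower R P P₂ := IsScalarTower.of_algebraMap_eq fun r => (hιR₂ r).symm
  have hpd : ∀ (z : P) (i : Fin 2), Basics.pd C P₂ i (ι z) = ι (Basics.pd R P i z) := by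
    intro z i
    let D : Derivation R P P₂ := ((Basics.pd C P₂ i).restrictScalars R).compAlgebraMap P
    let D' : Derivation R P P₂ := (Algebra.linearMap P P₂).compDer (Basics.pd R P i)
    have hDD : D = D' := Basics.derivation_ext R P D D' fun j => by
      show Basics.pd C P₂ i (α (ι' (Basics.coord R P j))) = ι (Basics.pd R P i (Basics.coord R P j))
      rw [hιc, map_add, ← hcoord, map_add, ← IsScalarTower.algebraMap_apply C P' P₂,
        Derivation.map_algebraMap, add_zero, Basics.pd_coord, Basics.pd_coord]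
      split <;> simp
    exact Derivation.congr_fun hDD z
  -- the equation
  let h : C := - s F
  set c₀ := Basics.coord C P₂ 0
  set c₁ := Basics.coord C P₂ 1
  have hσc₂ : ∀ i, σ₂ (Basics.coord C P₂ i) = 0 := fun i => by
    rw [hcoord]
    exact (hσ₂ _).trans (hσc i)
  let Z := ι F + algebraMap C P₂ h
  have hZ : σ₂ Z = 0 := by
    show σ₂ (ι F + algebraMap C P₂ h) = 0
    rw [map_add, hσι₂, AlgHom.commutes]
    exact add_neg_cancel (s F)
  obtain ⟨a, b, hab⟩ := Ideal.mem_span_pair.1 (hker₂ _ hZ)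
  have hDZ : ∀ i, Basics.pd C P₂ i Z = ι (Basics.pd R P i F) := fun i => by
    show Basics.pd C P₂ i (ι F + algebraMap C P₂ h) = _
    rw [map_add, Derivation.map_algebraMap, add_zero, hpd]
  have hσD : ∀ i, σ₂ (Basics.pd C P₂ i Z) = 0 := fun i => by rw [hDZ, hσι₂]; exact hsD i
  have ha : σ₂ a = 0 := by
    have := hσD 0
    rw [← hab] at this
    simpa [Derivation.leibniz, Basics.pd_coord, hσc₂, c₀, c₁] using this
  have hb : σ₂ b = 0 := by
    have := hσD 1
    rw [← hab] at this
    simpa [Derivation.leibniz, Basics.pd_coord, hσc₂, c₀, c₁] using this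
  obtain ⟨A, B₁, hA⟩ := Ideal.mem_span_pair.1 (hker₂ _ ha)
  obtain ⟨B₂, C₁, hB⟩ := Ideal.mem_span_pair.1 (hker₂ _ hb)
  let v : Fin 3 → P₂ := ![A, B₁ + B₂, C₁]
  have hZv : Z = quad v c₀ c₁ := by
    rw [← hab, ← hA, ← hB]
    simp [quad, v]
    ring
  have hdisc : σ₂ (disc v) = s (Crit.hess R P F).det := by
    have h1 := Crit.det_hess_quad C P₂ σ₂.toRingHom (hσc₂ 0) (hσc₂ 1) v
    rw [← hZv] at h1
    rw [← hσι₂, RingHom.map_det]
    refine h1.symm.trans (congrArg (fun M : Matrix (Fin 2) (Fin 2) P₂ => σ₂ M.det) ?_)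
    ext i j
    show Basics.pd C P₂ j (Basics.pd C P₂ i Z) = ι (Basics.pd R P j (Basics.pd R P i F))
    rw [hDZ, hpd]
  refine ⟨C, inferInstance, inferInstance, inferInstance, P₂, inferInstance, inferInstance, inferInstance,
    inferInstance, inferInstance, ι, qC.comap σ₂.toRingHom, Ideal.IsPrime.comap _, h, v, hιet, ?_,
    hιR₂, fun i => ?_, ?_, hZv⟩
  · rw [Ideal.comap_comap, ← hqC]
    exact congrArg (fun g => qC.comap g) (RingHom.ext hσι₂)
  · show σ₂ _ ∈ qC
    rw [hσc₂]
    exact zero_mem _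
  · show σ₂ (disc v) ∉ qC
    rw [hdisc]
    exact fun hmem => Ideal.IsPrime.ne_top ‹_› (Ideal.eq_top_of_isUnit_mem _ hmem hsH)

end Groth.Agent.H25.Morse.Morse
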