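import Groth.Agent.H25.Node.Basic
import Mathlib.RingTheory.Etale.StandardEtale
import Mathlib.RingTheory.LocalRing.ResidueField.Ideal
import Mathlib.FieldTheory.IsAlgClosed.AlgebraicClosure
import Mathlib.LinearAlgebra.Matrix.Determinant.Basic

/-!
A nondegenerate binary quadratic form splits étale locally.
-/

set_option autoImplicit false
set_option linter.style.haveILetI false
universe u

open Polynomial

namespace Groth.Agent.H25.Morse.Split

open Groth.Agent.H25.Node

variable {T : Type u} [CommRing T] (q : Ideal T) [q.IsPrime]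

/-- The form factors as a product of two linear forms with independent coefficients. -/
def Splits (v : Fin 3 → T) : Prop :=
  ∃ (T₂ : Type u) (_ : CommRing T₂) (_ : Algebra T T₂) (_ : Algebra.Etale T T₂) (q₂ : Ideal T₂),
    q₂.IsPrime ∧ q₂.comap (algebraMap T T₂) = q ∧ ∃ m : Fin 4 → T₂, m 0 * m 3 - m 1 * m 2 ∉ q₂ ∧
      ∀ x y : T₂, quad (algebraMap T T₂ ∘ v) x y = (m 0 * x + m 1 * y) * (m 2 * x + m 3 * y)

/-- The case of an invertible leading coefficient. -/
theorem splits_of_notMem (v : Fin 3 → T) (hv : disc v ∉ q) (h0 : v 0 ∉ q) : Splits q v := by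
  let f : T[X] := X ^ 2 + C (v 1) * X + C (v 0 * v 2)
  have hf : f.Monic := by
    have h := monic_X_pow_add (n := 2) (p := C (v 1) * X + C (v 0 * v 2))
      (degree_linear_le.trans_lt (by norm_num))
    simpa [f, add_assoc] using h
  let P : StandardEtalePair T := ⟨f, hf, C (v 0) * derivative f, C (v 0), 0, 1, by ring⟩
  let φ : T →+* AlgebraicClosure q.ResidueField :=
    (algebraMap q.ResidueField _).comp (algebraMap T q.ResidueField)
  letI := φ.toAlgebra
  have hφ : ∀ t, φ t = 0 ↔ t ∈ q := fun t => by
    simp [φ, Ideal.algebraMap_residueField_eq_zero]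
  obtain ⟨z, hz⟩ := IsAlgClosed.exists_root (f.map φ)
    (by
      haveI : Nontrivial T := ⟨⟨0, 1, fun h => q.one_notMem (h ▸ q.zero_mem)⟩⟩
      have : f.degree = 2 := by simp only [f]; compute_degree!
      rw [hf.degree_map, this]
      norm_num)
  have hz0 : z ^ 2 + φ (v 1) * z + φ (v 0) * φ (v 2) = 0 := by
    simpa [f, IsRoot] using hz
  have hd : (2 * z + φ (v 1)) ^ 2 = -φ (disc v) := by
    simp only [disc, map_sub, map_mul, map_pow, map_ofNat]
    linear_combination (4 : AlgebraicClosure q.ResidueField) * hz0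
  have hd0 : 2 * z + φ (v 1) ≠ 0 := fun h => hv ((hφ _).1 (by simpa [h] using hd))
  have hg : IsUnit (aeval z P.g) := by
    refine isUnit_iff_ne_zero.2 ?_
    simp only [P, f, map_mul, aeval_C]
    refine mul_ne_zero (fun h => h0 ((hφ _).1 h)) ?_
    convert hd0 using 1
    simp [RingHom.algebraMap_toAlgebra]
    exact Or.inl (by ring)
  have hmap : P.HasMap z := ⟨by simpa [P, f, RingHom.algebraMap_toAlgebra] using hz0, hg⟩
  let ev := P.lift z hmap
  refine ⟨P.Ring, inferInstance, inferInstance, inferInstance, RingHom.ker ev.toRingHom,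
    RingHom.ker_isPrime _, ?_, ?_⟩
  · ext t
    rw [Ideal.mem_comap, RingHom.mem_ker, ← hφ]
    exact (ev.commutes t).congr_left
  have hu : IsUnit (aeval P.X P.g) := P.hasMap_X.2
  have hu0 : IsUnit (algebraMap T P.Ring (v 0)) := by
    refine isUnit_of_mul_isUnit_left (y := aeval P.X (derivative f)) ?_
    simpa [P] using hu
  obtain ⟨w, hw⟩ := hu0.exists_left_inv
  have hX : P.X ^ 2 + algebraMap T P.Ring (v 1) * P.X +
      algebraMap T P.Ring (v 0) * algebraMap T P.Ring (v 2) = 0 := by
    simpa [P, f] using P.hasMap_X.1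
  refine ⟨![1, -(P.X * w), algebraMap T P.Ring (v 0), algebraMap T P.Ring (v 1) + P.X], ?_,
    fun x y => ?_⟩
  · rw [RingHom.mem_ker]
    intro h
    apply hd0
    have hw' : ev w * φ (v 0) = 1 := by
      have := congrArg ev hw
      rwa [map_mul, map_one, ev.commutes] at this
    have he : ev P.X = z := P.lift_X z hmap
    simp only [Matrix.cons_val_zero, Matrix.cons_val_one, Matrix.cons_val_two, Matrix.cons_val_three,
      Matrix.tail_cons, Matrix.head_cons] at h
    have h' : 1 * (φ (v 1) + z) - -(z * ev w) * φ (v 0) = 0 := by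
      simpa [he, RingHom.algebraMap_toAlgebra] using h
    linear_combination h' - z * hw'
  · simp only [quad, Function.comp_apply, Matrix.cons_val_zero, Matrix.cons_val_one,
      Matrix.cons_val_two, Matrix.cons_val_three, Matrix.tail_cons, Matrix.head_cons]
    linear_combination (w * y ^ 2) * hX -
      (algebraMap T P.Ring (v 2) * y ^ 2 - P.X * (x * y)) * hw

/-- Change of variables. -/
theorem splits_of_change (v v' : Fin 3 → T) (a b c d : T) (hdet : a * d - b * c ∉ q)
    (h : ∀ (S : Type u) [CommRing S] (φ : T →+* S) (x y : S),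
      quad (φ ∘ v) x y = quad (φ ∘ v') (φ a * x + φ b * y) (φ c * x + φ d * y))
    (hs : Splits q v') : Splits q v := by
  obtain ⟨T₂, _, _, _, q₂, hq₂, hc, m, hm, hq⟩ := hs
  refine ⟨T₂, inferInstance, inferInstance, inferInstance, q₂, hq₂, hc,
    ![m 0 * algebraMap T T₂ a + m 1 * algebraMap T T₂ c, m 0 * algebraMap T T₂ b + m 1 * algebraMap T T₂ d,
      m 2 * algebraMap T T₂ a + m 3 * algebraMap T T₂ c, m 2 * algebraMap T T₂ b + m 3 * algebraMap T T₂ d],
    fun hmem => ?_, fun x y => ?_⟩
  · have h1 : (m 0 * m 3 - m 1 * m 2) * algebraMap T T₂ (a * d - b * c) ∈ q₂ := by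
      convert hmem using 1
      simp only [map_sub, map_mul, Matrix.cons_val_zero, Matrix.cons_val_one,
        Matrix.cons_val_two, Matrix.cons_val_three, Matrix.tail_cons, Matrix.head_cons]
      ring
    rcases hq₂.mem_or_mem h1 with h2 | h2
    · exact hm h2
    · exact hdet (hc.le h2)
  · rw [h T₂ (algebraMap T T₂) x y, hq]
    simp only [Matrix.cons_val_zero, Matrix.cons_val_one, Matrix.cons_val_two, Matrix.cons_val_three,
      Matrix.tail_cons, Matrix.head_cons]
    ring

/-- Every form with discriminant outside `q` splits. -/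
theorem splits (v : Fin 3 → T) (hv : disc v ∉ q) : Splits q v := by
  by_cases h0 : v 0 ∈ q
  swap
  · exact splits_of_notMem q v hv h0
  by_cases h2 : v 2 ∈ q
  swap
  · refine splits_of_change q v ![v 2, v 1, v 0] 0 1 1 0 ?_ ?_
      (splits_of_notMem q _ ?_ (by simpa using h2))
    · simpa using (q.one_notMem : (1 : T) ∉ q)
    · intro S _ φ x y
      simp [quad]
      ring
    · convert hv using 1
      simp [disc]
      ring
  have h1 : v 1 ∉ q := fun h1 => hv (by
    simp only [disc]
    exact sub_mem (Ideal.mul_mem_left _ _ h2) (Ideal.pow_mem_of_mem _ h1 2 two_pos))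
  refine splits_of_change q v ![v 0 + v 1 + v 2, v 1 + 2 * v 2, v 2] 1 0 (-1) 1 ?_ ?_
    (splits_of_notMem q _ ?_ ?_)
  · simpa using (q.one_notMem : (1 : T) ∉ q)
  · intro S _ φ x y
    simp [quad, map_ofNat]
    ring
  · convert hv using 1
    simp [disc]
    ring
  · intro h
    apply h1
    have h' := sub_mem (sub_mem h h0) h2
    convert h' using 1
    simp
    ring

end Groth.Agent.H25.Morse.Split
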