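import Groth.Agent.H25.Morse.Hypersurface
import Groth.Agent.H25.Morse.Morse
import Groth.Agent.H25.Morse.Split

/-!
Étale locally a family of nodes is `uv = h`.
-/

set_option autoImplicit false
set_option linter.style.haveILetI false
universe u

open IsLocalRing Groth.Agent.H25.Node

namespace Groth.Agent.H25.Morse.EtaleLocal

theorem pd_algebraMap (C T T' : Type u) [CommRing C] [CommRing T] [CommRing T'] [Algebra C T] [Algebra C T']
    [Algebra (MvPolynomial (Fin 2) C) T] [IsScalarTower C (MvPolynomial (Fin 2) C) T]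
    [Algebra.FormallyEtale (MvPolynomial (Fin 2) C) T]
    [Algebra (MvPolynomial (Fin 2) C) T'] [IsScalarTower C (MvPolynomial (Fin 2) C) T']
    [Algebra.FormallyEtale (MvPolynomial (Fin 2) C) T']
    [Algebra T T'] [IsScalarTower C T T'] [IsScalarTower (MvPolynomial (Fin 2) C) T T']
    (z : T) (i : Fin 2) :
    Basics.pd C T' i (algebraMap T T' z) = algebraMap T T' (Basics.pd C T i z) := by
  let D : Derivation C T T' := (Basics.pd C T' i).compAlgebraMap T
  let D' : Derivation C T T' := (Algebra.linearMap T T').compDer (Basics.pd C T i)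
  have hDD : D = D' := Basics.derivation_ext C T D D' fun j => by
    show Basics.pd C T' i (algebraMap T T' (algebraMap (MvPolynomial (Fin 2) C) T (MvPolynomial.X j))) =
      algebraMap T T' (Basics.pd C T i (Basics.coord C T j))
    rw [← IsScalarTower.algebraMap_apply, Basics.pd_coord', Basics.pd_coord]
    split <;> simp
  exact Derivation.congr_fun hDD z

theorem pd_linear {C T : Type u} [CommRing C] [CommRing T] [Algebra C T]
    [Algebra (MvPolynomial (Fin 2) C) T] [IsScalarTower C (MvPolynomial (Fin 2) C) T]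
    [Algebra.FormallyEtale (MvPolynomial (Fin 2) C) T] (q : Ideal T) (h : ∀ i, Basics.coord C T i ∈ q)
    (a b : T) (j : Fin 2) :
    Basics.pd C T j (a * Basics.coord C T 0 + b * Basics.coord C T 1) - ![a, b] j ∈ q := by
  rw [map_add, Derivation.leibniz, Derivation.leibniz, Basics.pd_coord, Basics.pd_coord]
  have hm : Basics.coord C T 0 • Basics.pd C T j a + Basics.coord C T 1 • Basics.pd C T j b ∈ q :=
    add_mem (Ideal.mul_mem_right _ _ (h 0)) (Ideal.mul_mem_right _ _ (h 1))
  convert hm using 1
  fin_cases j <;> simp <;> ring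

theorem etale_quotientMap {A E : Type u} [CommRing A] [CommRing E] (f : A →+* E) (hf : f.Etale)
    (I : Ideal A) : (Ideal.quotientMap (I.map f) f Ideal.le_comap_map).Etale := by
  algebraize [f]
  exact Basics.etale_quotient I

variable {R B N : Type u} [CommRing R] [CommRing B] [CommRing N] [IsLocalRing N] [Algebra R B]
  [Algebra R N] [Algebra B N] [IsScalarTower R B N]

theorem exists_etaleLocal (p : Ideal R) [p.IsPrime] [Algebra p.ResidueField N]
    [IsScalarTower R p.ResidueField N] [Algebra.FinitePresentation R B] [Module.Flat R B]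
    [Algebra.IsSeparable p.ResidueField (ResidueField N)]
    (hsurj : ∀ z : N, ∃ b t : B, IsUnit (algebraMap B N t) ∧ z * algebraMap B N t = algebraMap B N b)
    (hker : ∀ b : B, algebraMap B N b = 0 → ∃ t : B, IsUnit (algebraMap B N t) ∧
      t * b ∈ p.map (algebraMap R B))
    (hN : IsNodal N) :
    ∃ (C : Type u) (_ : CommRing C) (_ : Algebra R C) (_ : Algebra.Etale R C) (h : C)
      (S : Type u) (_ : CommRing S) (g : B →+* S)
      (e : (MvPolynomial (Fin 2) C ⧸ Ideal.span
        {(MvPolynomial.X 0 * MvPolynomial.X 1 - MvPolynomial.C h : MvPolynomial (Fin 2) C)}) →+* S)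
      (Q : Ideal S) (_ : Q.IsPrime),
      g.Etale ∧ e.Etale ∧ Q.comap g = (maximalIdeal N).comap (algebraMap B N) ∧
      ∀ r : R, g (algebraMap R B r) = e (Ideal.Quotient.mk _ (MvPolynomial.C (algebraMap R C r))) := by
  obtain ⟨P, _, _, _, _, _, B', _, _, _, _, _, π, F, Q', _, hπ, hker', hQ', ha, hb, hpq, w, hw, t, ht,
    hcong⟩ := Hypersurface.exists_hypersurface p hsurj hker hN
  let q : Ideal P := Q'.comap π.toRingHom
  haveI : q.IsPrime := Ideal.IsPrime.comap _
  have hπF : π F = 0 := RingHom.mem_ker.1 (hker'.ge (Ideal.mem_span_singleton_self F))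
  have hF : F ∈ q := by
    show π F ∈ Q'
    rw [hπF]
    exact zero_mem _
  obtain ⟨hd, hH⟩ := Crit.critical p q hpq F hF ha hb w hw t ht hcong
  obtain ⟨C, _, _, _, P₂, _, _, _, _, _, ι, q₂, _, h, v, hι, hcι, hιR, hc₂, hv, hFv⟩ :=
    Morse.exists_morse q F hd hH
  obtain ⟨T, _, _, _, qT, _, hqT, m, hm, hquad⟩ := Split.splits q₂ v hv
  letI : Algebra (MvPolynomial (Fin 2) C) T :=
    ((algebraMap P₂ T).comp (algebraMap (MvPolynomial (Fin 2) C) P₂)).toAlgebra
  haveI : IsScalarTower (MvPolynomial (Fin 2) C) P₂ T := IsScalarTower.of_algebraMap_eq fun _ => rfl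
  letI : Algebra C T := ((algebraMap P₂ T).comp (algebraMap C P₂)).toAlgebra
  haveI : IsScalarTower C P₂ T := IsScalarTower.of_algebraMap_eq fun _ => rfl
  haveI : IsScalarTower C (MvPolynomial (Fin 2) C) T := IsScalarTower.of_algebraMap_eq fun c => by
    show algebraMap P₂ T (algebraMap C P₂ c) = algebraMap P₂ T (algebraMap _ P₂ (algebraMap C _ c))
    rw [← IsScalarTower.algebraMap_apply C (MvPolynomial (Fin 2) C) P₂]
  haveI : Algebra.Etale (MvPolynomial (Fin 2) C) T := Algebra.Etale.comp _ P₂ T
  have hcT : ∀ i, Basics.coord C T i = algebraMap P₂ T (Basics.coord C P₂ i) := fun i => rfl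
  have hcqT : ∀ i, Basics.coord C T i ∈ qT := fun i => hqT.ge (hc₂ i)
  let L : Fin 2 → T := ![m 0 * Basics.coord C T 0 + m 1 * Basics.coord C T 1,
    m 2 * Basics.coord C T 0 + m 3 * Basics.coord C T 1]
  let d := (Matrix.of fun i j => Basics.pd C T j (L i)).det
  have hd' : d ∉ qT := by
    intro hmem
    apply hm
    have e : Ideal.Quotient.mk qT d = Ideal.Quotient.mk qT (m 0 * m 3 - m 1 * m 2) := by
      have hval : ∀ a b j, Ideal.Quotient.mk qT
          (Basics.pd C T j (a * Basics.coord C T 0 + b * Basics.coord C T 1)) =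
            Ideal.Quotient.mk qT (![a, b] j) :=
        fun a b j => Ideal.Quotient.eq.2 (pd_linear qT hcqT a b j)
      simp only [d, Matrix.det_fin_two, Matrix.of_apply, L, map_sub, map_mul, Matrix.cons_val_zero,
        Matrix.cons_val_one]
      rw [hval, hval, hval, hval]
      simp
    rw [← Ideal.Quotient.eq_zero_iff_mem, ← e, Ideal.Quotient.eq_zero_iff_mem]
    exact hmem
  let E := Localization.Away d
  let β := algebraMap T E
  haveI : Algebra.FinitePresentation C E :=
    Algebra.FinitePresentation.trans C (MvPolynomial (Fin 2) C) E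
  have hΦ : ((MvPolynomial.aeval (R := C) fun i => β (L i)).toRingHom).Etale := by
    refine Basics.etale_of_det C E _ ?_
    have : (Matrix.of fun i j => Basics.pd C E j (β (L i))) =
        β.mapMatrix (Matrix.of fun i j => Basics.pd C T j (L i)) := by
      ext i j
      exact pd_algebraMap C T E _ j
    rw [this, ← RingHom.map_det]
    exact IsLocalization.Away.algebraMap_isUnit d
  set Φ := (MvPolynomial.aeval (R := C) fun i => β (L i)).toRingHom
  let ιE : P →+* E := (β.comp (algebraMap P₂ T)).comp ι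
  have hιE : ιE.Etale := RingHom.Etale.stableUnderComposition _ _ hι
    (RingHom.Etale.stableUnderComposition _ _ (RingHom.etale_algebraMap.2 inferInstance)
      (RingHom.etale_algebraMap.2 (Algebra.Etale.of_isLocalizationAway d)))
  have hprod : Φ (MvPolynomial.X 0 * MvPolynomial.X 1 - MvPolynomial.C h) = ιE F := by
    have h1 : L 0 * L 1 = algebraMap P₂ T (ι F + algebraMap C P₂ h) := by
      rw [hFv, map_quad, ← hcT, ← hcT, hquad]
      rfl
    show MvPolynomial.aeval (fun i => β (L i)) _ = _
    rw [map_sub, map_mul, MvPolynomial.aeval_X, MvPolynomial.aeval_X, MvPolynomial.aeval_C, ← map_mul,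
      h1, map_add, map_add]
    rw [IsScalarTower.algebraMap_apply C T E, IsScalarTower.algebraMap_apply C P₂ T]
    exact add_sub_cancel_right _ _
  let I : Ideal P := Ideal.span {F}
  let J : Ideal (MvPolynomial (Fin 2) C) :=
    Ideal.span {(MvPolynomial.X 0 * MvPolynomial.X 1 - MvPolynomial.C h : MvPolynomial (Fin 2) C)}
  have hIJ : J.map Φ = I.map ιE := by
    rw [Ideal.map_span, Ideal.map_span, Set.image_singleton, Set.image_singleton, hprod]
  let gq : P ⧸ I →+* E ⧸ I.map ιE := Ideal.quotientMap (I.map ιE) ιE Ideal.le_comap_map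
  have hgq : gq.Etale := by
    letI := ιE.toAlgebra
    haveI : Algebra.Etale P E := RingHom.etale_algebraMap.1 hιE
    exact Basics.etale_quotient I
  have heq : (Ideal.quotientMap (J.map Φ) Φ Ideal.le_comap_map).Etale := etale_quotientMap Φ hΦ J
  let e : MvPolynomial (Fin 2) C ⧸ J →+* E ⧸ I.map ιE :=
    (Ideal.quotEquivOfEq hIJ).toRingHom.comp (Ideal.quotientMap (J.map Φ) Φ Ideal.le_comap_map)
  have he : e.Etale := RingHom.Etale.stableUnderComposition _ _ heq
    (RingHom.Etale.of_bijective (Ideal.quotEquivOfEq hIJ).bijective)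
  let eB : (P ⧸ I) ≃+* B' :=
    (Ideal.quotEquivOfEq hker'.symm).trans (RingHom.quotientKerEquivOfSurjective hπ)
  have heB : ∀ z, eB (Ideal.Quotient.mk I z) = π z := fun z => rfl
  let g : B →+* E ⧸ I.map ιE := gq.comp (eB.symm.toRingHom.comp (algebraMap B B'))
  have hg : g.Etale := RingHom.Etale.stableUnderComposition _ _
    (RingHom.Etale.stableUnderComposition _ _ (RingHom.etale_algebraMap.2 inferInstance)
      (RingHom.Etale.of_bijective eB.symm.bijective)) hgq
  have hgz : ∀ (b : B) (z : P), π z = algebraMap B B' b → g b = Ideal.Quotient.mk _ (ιE z) := by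
    intro b z hz
    show gq (eB.symm (algebraMap B B' b)) = _
    rw [← hz, ← heB, RingEquiv.symm_apply_apply]
    rfl
  -- the point
  let ev : E →+* qT.ResidueField := IsLocalization.Away.lift d (g := algebraMap T qT.ResidueField)
    (Ne.isUnit fun h0 => hd' (Ideal.algebraMap_residueField_eq_zero.1 h0))
  have hev : ∀ z : P, ev (ιE z) = 0 ↔ z ∈ q := fun z => by
    show ev (β (algebraMap P₂ T (ι z))) = 0 ↔ _
    rw [IsLocalization.Away.lift_eq, Ideal.algebraMap_residueField_eq_zero, ← hcι, ← hqT]
    rfl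
  let ev' : E ⧸ I.map ιE →+* qT.ResidueField := Ideal.Quotient.lift _ ev fun z hz => by
    have : I.map ιE ≤ RingHom.ker ev := Ideal.map_le_iff_le_comap.2
      ((Ideal.span_singleton_le_iff_mem _).2 ((hev F).2 hF))
    exact this hz
  refine ⟨C, inferInstance, inferInstance, inferInstance, h, E ⧸ I.map ιE, inferInstance, g, e,
    RingHom.ker ev', RingHom.ker_isPrime _, hg, he, ?_, fun r => ?_⟩
  · rw [← hQ']
    ext b
    obtain ⟨z, hz⟩ := hπ (algebraMap B B' b)
    rw [Ideal.mem_comap, RingHom.mem_ker, hgz b z hz, Ideal.mem_comap, ← hz]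
    exact hev z
  · rw [hgz (algebraMap R B r) (algebraMap R P r) (by rw [AlgHom.commutes, ← IsScalarTower.algebraMap_apply])]
    show _ = Ideal.quotEquivOfEq hIJ (Ideal.Quotient.mk (J.map Φ) (Φ (MvPolynomial.C (algebraMap R C r))))
    rw [Ideal.quotEquivOfEq_mk]
    refine congrArg (Ideal.Quotient.mk (I.map ιE)) ?_
    show β (algebraMap P₂ T (ι (algebraMap R P r))) = MvPolynomial.aeval (fun i => β (L i)) (MvPolynomial.C _)
    rw [MvPolynomial.aeval_C, hιR, IsScalarTower.algebraMap_apply C T E,
      IsScalarTower.algebraMap_apply C P₂ T]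

end Groth.Agent.H25.Morse.EtaleLocal
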