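import Groth.Agent.H25.Node.Basic
import Mathlib.RingTheory.Filtration
import Mathlib.RingTheory.Ideal.Quotient.Noetherian

/-!
A nodal quotient of a ring with two generators of the maximal ideal is cut out by one equation.
-/

set_option autoImplicit false
set_option linter.style.haveILetI false
universe u

open IsLocalRing Groth.Agent.H25.Node

namespace Groth.Agent.H25.Morse.LocalGen

variable {L N : Type u} [CommRing L] [CommRing N] [IsLocalRing L] [IsLocalRing N]

/-- If `L → N` is surjective with `L` no bigger than a node, it is bijective. -/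
theorem injective [IsNoetherianRing L] (χ : L →+* N) (hχ : Function.Surjective χ)
    (hN : IsNodal N) {a b : L} (hab : Ideal.span {a, b} = maximalIdeal L) (v : Fin 3 → L)
    (hv : quad v a b ∈ maximalIdeal L ^ 3) (hd : IsUnit (disc v)) : Function.Injective χ := by
  letI : Algebra L N := χ.toAlgebra
  rw [injective_iff_map_eq_zero]
  intro z hz
  have hmap : (maximalIdeal L).map χ = maximalIdeal N :=
    IsLocalRing.map_maximalIdeal_of_surjective _ hχ
  have hn : ∀ n, z ∈ maximalIdeal L ^ n := by
    intro n
    cases n with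
    | zero => simp
    | succ n =>
      let g : (L ⧸ maximalIdeal L ^ (n + 1)) →ₗ[L] N ⧸ maximalIdeal N ^ (n + 1) :=
        Submodule.mapQ _ ((maximalIdeal N ^ (n + 1)).restrictScalars L) (Algebra.linearMap L N)
          (fun a ha => by
            show χ a ∈ maximalIdeal N ^ (n + 1)
            rw [← hmap, ← Ideal.map_pow]
            exact Ideal.mem_map_of_mem _ ha)
      have hg : Function.Surjective g := fun w => by
        obtain ⟨w, rfl⟩ := Ideal.Quotient.mk_surjective w
        obtain ⟨a, rfl⟩ := hχ w
        exact ⟨Ideal.Quotient.mk _ a, rfl⟩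
      have hex := Module.length_eq_add_of_exact (LinearMap.ker g).subtype g Subtype.val_injective hg
        (LinearMap.exact_subtype_ker_map g)
      have hle := length_le hab hv hd n
      rw [Module.length_eq_of_surjective (R := N) (S := L) (M := N ⧸ maximalIdeal N ^ (n + 1)) hχ,
        hN.length n] at hex
      have hker : Module.length L (LinearMap.ker g) = 0 := by
        rw [hex] at hle
        generalize Module.length L (LinearMap.ker g) = l at hle
        induction l using ENat.recTopCoe with
        | top =>
          rw [top_add] at hle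
          exact absurd hle (not_le.2 (ENat.coe_lt_top _))
        | coe l => norm_cast at hle ⊢; omega
      haveI := Module.length_eq_zero_iff.1 hker
      have hmem : Ideal.Quotient.mk (maximalIdeal L ^ (n + 1)) z ∈ LinearMap.ker g := by
        rw [LinearMap.mem_ker]
        show Ideal.Quotient.mk (maximalIdeal N ^ (n + 1)) (χ z) = 0
        rw [hz, map_zero]
      exact Ideal.Quotient.eq_zero_iff_mem.1
        (congrArg Subtype.val (Subsingleton.elim (⟨_, hmem⟩ : LinearMap.ker g) 0))
  rw [← Ideal.mem_bot, ← Ideal.iInf_pow_eq_bot_of_isLocalRing (maximalIdeal L)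
    (IsLocalRing.maximalIdeal.isMaximal _).ne_top, Ideal.mem_iInf]
  exact hn

/-- The kernel is generated by one quadratic equation. -/
theorem exists_generator [IsNoetherianRing L] (χ : L →+* N) (hχ : Function.Surjective χ)
    (hN : IsNodal N) {a b : L} (hab : Ideal.span {a, b} = maximalIdeal L) (vN : Fin 3 → N)
    (hv : quad vN (χ a) (χ b) ∈ maximalIdeal N ^ 3) (hd : IsUnit (disc vN)) :
    ∃ (v : Fin 3 → L) (F : L), IsUnit (disc v) ∧ RingHom.ker χ = Ideal.span {F} ∧
      F - quad v a b ∈ maximalIdeal L ^ 3 := by
  choose v hvN using fun i => hχ (vN i)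
  have hcomp : χ ∘ v = vN := funext hvN
  haveI : IsLocalHom χ := IsLocalHom.of_surjective χ hχ
  have hdv : IsUnit (disc v) := isUnit_of_map_unit χ _ (by rwa [map_disc, hcomp])
  have hc : χ (quad v a b) ∈ (maximalIdeal L ^ 3).map χ := by
    rw [map_quad, hcomp, Ideal.map_pow, IsLocalRing.map_maximalIdeal_of_surjective _ hχ]
    exact hv
  obtain ⟨c, hc, hχc⟩ := (Ideal.mem_map_iff_of_surjective χ hχ).1 hc
  let F := quad v a b - c
  have hF : χ F = 0 := by rw [map_sub, hχc, sub_self]
  have hFm : F - quad v a b ∈ maximalIdeal L ^ 3 := by simpa [F] using hc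
  refine ⟨v, F, hdv, le_antisymm ?_ ((Ideal.span_singleton_le_iff_mem _).2 hF), hFm⟩
  let I := Ideal.span {F}
  let χ' : L ⧸ I →+* N := Ideal.Quotient.lift I χ fun z hz =>
    (Ideal.span_singleton_le_iff_mem _).2 (show F ∈ RingHom.ker χ from hF) hz
  have hχ' : Function.Surjective χ' := fun w => by
    obtain ⟨z, rfl⟩ := hχ w
    exact ⟨Ideal.Quotient.mk I z, rfl⟩
  haveI : Nontrivial (L ⧸ I) := hχ'.nontrivial
  haveI : IsLocalRing (L ⧸ I) := .of_surjective' _ Ideal.Quotient.mk_surjective
  haveI : IsLocalHom (Ideal.Quotient.mk I) := IsLocalHom.of_surjective _ Ideal.Quotient.mk_surjective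
  have hm : (maximalIdeal L).map (Ideal.Quotient.mk I) = maximalIdeal (L ⧸ I) :=
    IsLocalRing.map_maximalIdeal_of_surjective _ Ideal.Quotient.mk_surjective
  have hinj : Function.Injective χ' := by
    refine injective χ' hχ' hN (a := Ideal.Quotient.mk I a) (b := Ideal.Quotient.mk I b) ?_
      (Ideal.Quotient.mk I ∘ v) ?_ ?_
    · rw [← hm, ← hab, Ideal.map_span]
      simp [Set.image_pair]
    · rw [← map_quad, ← hm, ← Ideal.map_pow]
      have : Ideal.Quotient.mk I (quad v a b) = Ideal.Quotient.mk I c := by
        rw [Ideal.Quotient.eq]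
        exact Ideal.mem_span_singleton_self _
      rw [this]
      exact Ideal.mem_map_of_mem _ hc
    · rw [← map_disc]
      exact hdv.map _
  intro z hz
  exact Ideal.Quotient.eq_zero_iff_mem.1 (hinj (hz.trans (map_zero χ').symm))

end Groth.Agent.H25.Morse.LocalGen
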