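import Groth.Agent.H25.Morse.Presentation
import Groth.Agent.H25.Morse.LocalGen
import Groth.Agent.H25.Morse.Basics
import Groth.Agent.H68.FlatLift
import Mathlib.RingTheory.Localization.Algebra
import Mathlib.RingTheory.Flat.Localization
import Mathlib.RingTheory.LocalRing.ResidueField.Ideal
import Mathlib.RingTheory.EssentialFiniteness
import Mathlib.RingTheory.Nakayama

/-!
Near a node of the fibre a flat family is a hypersurface in a family of surfaces with étale
coordinates, whose equation is a nondegenerate quadratic form modulo cubes.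
-/

set_option autoImplicit false
set_option linter.style.haveILetI false
universe u

open IsLocalRing Groth.Agent.H25.Node

namespace Groth.Agent.H25.Morse.Hypersurface

variable {R B N : Type u} [CommRing R] [CommRing B] [CommRing N] [IsLocalRing N] [Algebra R B]
  [Algebra R N] [Algebra B N] [IsScalarTower R B N]

theorem exists_hypersurface (p : Ideal R) [p.IsPrime] [Algebra p.ResidueField N]
    [IsScalarTower R p.ResidueField N] [Algebra.FinitePresentation R B] [Module.Flat R B]
    [Algebra.IsSeparable p.ResidueField (ResidueField N)]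
    (hsurj : ∀ z : N, ∃ b t : B, IsUnit (algebraMap B N t) ∧ z * algebraMap B N t = algebraMap B N b)
    (hker : ∀ b : B, algebraMap B N b = 0 → ∃ t : B, IsUnit (algebraMap B N t) ∧
      t * b ∈ p.map (algebraMap R B))
    (hN : IsNodal N) :
    ∃ (P : Type u) (_ : CommRing P) (_ : Algebra R P) (_ : Algebra (MvPolynomial (Fin 2) R) P)
      (_ : IsScalarTower R (MvPolynomial (Fin 2) R) P) (_ : Algebra.Etale (MvPolynomial (Fin 2) R) P)
      (B' : Type u) (_ : CommRing B') (_ : Algebra R B') (_ : Algebra B B') (_ : IsScalarTower R B B')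
      (_ : Algebra.Etale B B') (π : P →ₐ[R] B') (F : P) (Q : Ideal B') (_ : Q.IsPrime),
      Function.Surjective π ∧ RingHom.ker π.toRingHom = Ideal.span {F} ∧
      Q.comap (algebraMap B B') = (maximalIdeal N).comap (algebraMap B N) ∧
      algebraMap (MvPolynomial (Fin 2) R) P (MvPolynomial.X 0) ∈ Q.comap π.toRingHom ∧
      algebraMap (MvPolynomial (Fin 2) R) P (MvPolynomial.X 1) ∈ Q.comap π.toRingHom ∧
      p.map (algebraMap R P) ≤ Q.comap π.toRingHom ∧
      ∃ w : Fin 3 → P, disc w ∉ Q.comap π.toRingHom ∧ ∃ t ∉ Q.comap π.toRingHom,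
        t * (F - quad w (algebraMap (MvPolynomial (Fin 2) R) P (MvPolynomial.X 0))
          (algebraMap (MvPolynomial (Fin 2) R) P (MvPolynomial.X 1))) ∈
            Q.comap π.toRingHom ^ 3 ⊔ p.map (algebraMap R P) := by
  classical
  set k := p.ResidueField
  have hpk : RingHom.ker (algebraMap R k) = p := Ideal.ker_algebraMap_residueField p
  have hk : ∀ x : k, ∃ r s : R, algebraMap R k s ≠ 0 ∧ x * algebraMap R k s = algebraMap R k r := by
    intro x
    obtain ⟨r, s, hs, rfl⟩ := IsFractionRing.div_surjective (R ⧸ p) x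
    obtain ⟨r, rfl⟩ := Ideal.Quotient.mk_surjective r
    obtain ⟨s, rfl⟩ := Ideal.Quotient.mk_surjective s
    have hs0 : algebraMap (R ⧸ p) k (Ideal.Quotient.mk p s) ≠ 0 :=
      (map_ne_zero_iff _ (IsFractionRing.injective (R ⧸ p) k)).2 (nonZeroDivisors.ne_zero hs)
    exact ⟨r, s, hs0, div_mul_cancel₀ _ hs0⟩
  obtain ⟨P, _, _, _, _, _, B', _, _, _, _, _, π, ι, hπ, hι, hflat, hιker, hspanN, vN, hdvN, hquadN⟩ :=
    Presentation.exists_coords k (B := B) (N := N) hk hsurj (by simpa [hpk] using hker) hN
  rw [hpk] at hιker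
  set a := algebraMap (MvPolynomial (Fin 2) R) P (MvPolynomial.X 0)
  set b := algebraMap (MvPolynomial (Fin 2) R) P (MvPolynomial.X 1)
  let χ : P →ₐ[R] N := ι.comp π
  let Q : Ideal B' := (maximalIdeal N).comap ι.toRingHom
  haveI : Q.IsPrime := Ideal.IsPrime.comap _
  let q : Ideal P := Q.comap π.toRingHom
  haveI : q.IsPrime := Ideal.IsPrime.comap _
  have hq : ∀ z, z ∉ q ↔ IsUnit (χ z) := fun z => by
    show ¬ (χ z ∈ maximalIdeal N) ↔ _
    simp
  have hpq : p.map (algebraMap R P) ≤ q := by
    rw [Ideal.map_le_iff_le_comap]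
    intro r hr
    show χ (algebraMap R P r) ∈ maximalIdeal N
    rw [AlgHom.commutes, IsScalarTower.algebraMap_apply R k N,
      show algebraMap R k r = 0 from RingHom.mem_ker.1 (hpk.ge hr), map_zero]
    exact zero_mem _
  -- localisations
  let L := Localization.AtPrime q
  let BQ := Localization.AtPrime Q
  have hT : Submonoid.map π.toRingHom q.primeCompl = Q.primeCompl := by
    ext z
    constructor
    · rintro ⟨y, hy, rfl⟩
      exact hy
    · intro hz
      obtain ⟨y, rfl⟩ := hπ z
      exact ⟨y, hz, rfl⟩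
  let πL : L →+* BQ := IsLocalization.map BQ π.toRingHom (hT ▸ q.primeCompl.le_comap_map)
  have hπL : ∀ z, πL (algebraMap P L z) = algebraMap B' BQ (π z) := fun z => IsLocalization.map_eq _ z
  have hπLs : Function.Surjective πL := by
    haveI : IsLocalization (Submonoid.map π.toRingHom q.primeCompl) BQ := by
      rw [hT]; infer_instance
    exact IsLocalization.map_surjective_of_surjective (M := q.primeCompl) (S := L) (Q := BQ) (g := π.toRingHom) hπ
  have hkerL : RingHom.ker πL = (RingHom.ker π.toRingHom).map (algebraMap P L) :=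
    IsLocalization.ker_map BQ π.toRingHom hT
  let χL : L →+* N := IsLocalization.lift (M := q.primeCompl) (g := χ.toRingHom)
    fun s => (hq s.1).1 s.2
  have hχL : ∀ z, χL (algebraMap P L z) = χ z := fun z => IsLocalization.lift_eq _ z
  set pL := p.map (algebraMap R L)
  have hpL : pL = (p.map (algebraMap R P)).map (algebraMap P L) := by
    rw [Ideal.map_map, ← IsScalarTower.algebraMap_eq]
  have hχp : pL ≤ RingHom.ker χL := by
    rw [Ideal.map_le_iff_le_comap]
    intro r hr
    rw [Ideal.mem_comap, RingHom.mem_ker, IsScalarTower.algebraMap_apply R P L, hχL,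
      AlgHom.commutes, IsScalarTower.algebraMap_apply R k N,
      show algebraMap R k r = 0 from RingHom.mem_ker.1 (hpk.ge hr), map_zero]
  have hχker : RingHom.ker χL ≤ RingHom.ker πL ⊔ pL := by
    intro z hz
    obtain ⟨⟨y, s⟩, hy⟩ := IsLocalization.surj q.primeCompl z
    have hy0 : ι (π y) = 0 := by
      show χ y = 0
      rw [← hχL, show algebraMap P L y = z * algebraMap P L s from hy.symm, map_mul,
        RingHom.mem_ker.1 hz, zero_mul]
    obtain ⟨t, ht, hty⟩ := hιker _ hy0
    obtain ⟨t, rfl⟩ := hπ t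
    have hmap : p.map (algebraMap R B') = (p.map (algebraMap R P)).map π.toRingHom := by
      rw [Ideal.map_map, π.toRingHom_eq_coe, π.comp_algebraMap]
    rw [← map_mul, hmap] at hty
    obtain ⟨w, hw, hwy⟩ := (Ideal.mem_map_iff_of_surjective π.toRingHom hπ).1 hty
    have h1 : algebraMap P L (t * y) ∈ RingHom.ker πL ⊔ pL := by
      have h2 : algebraMap P L (t * y - w) ∈ RingHom.ker πL := by
        rw [hkerL]
        exact Ideal.mem_map_of_mem _ (by rw [RingHom.mem_ker, map_sub, sub_eq_zero]; exact hwy.symm)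
      have h3 : algebraMap P L w ∈ pL := hpL ▸ Ideal.mem_map_of_mem _ hw
      simpa using add_mem (Ideal.mem_sup_left (T := pL) h2) (Ideal.mem_sup_right (S := RingHom.ker πL) h3)
    rw [map_mul, show algebraMap P L y = z * algebraMap P L s from hy.symm] at h1
    have hu : IsUnit (algebraMap P L t * algebraMap P L (s : P)) :=
      (IsLocalization.map_units L (⟨t, (hq t).2 ht⟩ : q.primeCompl)).mul (IsLocalization.map_units L s)
    refine (Ideal.unit_mul_mem_iff_mem _ hu).1 ?_
    convert h1 using 1
    ring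
  -- the fibre
  let Lb := L ⧸ pL
  haveI : Nontrivial Lb := Ideal.Quotient.nontrivial_iff.2 fun h => by
    have h1 := hχp (show (1 : L) ∈ pL by rw [h]; trivial)
    rw [RingHom.mem_ker, map_one] at h1
    exact one_ne_zero h1
  haveI : IsLocalRing Lb := .of_surjective' _ Ideal.Quotient.mk_surjective
  let χb : Lb →+* N := Ideal.Quotient.lift pL χL fun z hz => hχp hz
  have hχb : ∀ z : P, χb (Ideal.Quotient.mk pL (algebraMap P L z)) = χ z := hχL
  have hχbs : Function.Surjective χb := fun z => by
    obtain ⟨c, t, ht, hz⟩ := hsurj z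
    obtain ⟨c', hc⟩ := hπ (algebraMap B B' c)
    obtain ⟨t', ht'⟩ := hπ (algebraMap B B' t)
    have h1 : χ c' = algebraMap B N c := by show ι (π c') = _; rw [hc, hι]
    have h2 : χ t' = algebraMap B N t := by show ι (π t') = _; rw [ht', hι]
    refine ⟨Ideal.Quotient.mk pL (IsLocalization.mk' L c' (⟨t', (hq t').2 (h2 ▸ ht)⟩ : q.primeCompl)), ?_⟩
    show χL _ = z
    rw [IsLocalization.lift_mk'_spec]
    show χ c' = χ t' * z
    rw [h1, h2, ← hz, mul_comm]
  let fk : k →+* Lb := Ideal.ResidueField.lift p (algebraMap R Lb) (fun r hr => by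
      rw [RingHom.mem_ker, IsScalarTower.algebraMap_apply R L Lb]
      exact Ideal.Quotient.eq_zero_iff_mem.2 (Ideal.mem_map_of_mem _ hr))
    (fun r hr => by
      show IsUnit (algebraMap R Lb r)
      rw [IsScalarTower.algebraMap_apply R L Lb]
      refine IsUnit.map _ ?_
      rw [IsScalarTower.algebraMap_apply R P L]
      refine IsLocalization.map_units L (⟨algebraMap R P r, ?_⟩ : q.primeCompl)
      refine (hq _).2 ?_
      rw [AlgHom.commutes, IsScalarTower.algebraMap_apply R k N]
      exact (Ne.isUnit (fun h => hr (by rw [← hpk]; exact RingHom.mem_ker.2 h))).map _)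
  letI : Algebra k Lb := fk.toAlgebra
  haveI : IsScalarTower R k Lb := IsScalarTower.of_algebraMap_eq fun r =>
    (Ideal.ResidueField.lift_algebraMap (I := p) (algebraMap R Lb) _ _ r).symm
  haveI : IsLocalHom χb := IsLocalHom.of_surjective χb hχbs
  have hχk : ∀ c : k, χb (algebraMap k Lb c) = algebraMap k N c := by
    intro c
    obtain ⟨r, s, hs, hc⟩ := hk c
    have h1 : ∀ r, χb (algebraMap k Lb (algebraMap R k r)) = algebraMap k N (algebraMap R k r) := fun r => by
      rw [← IsScalarTower.algebraMap_apply R k Lb, ← IsScalarTower.algebraMap_apply R k N,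
        IsScalarTower.algebraMap_apply R L Lb]
      show χL (algebraMap R L r) = _
      rw [IsScalarTower.algebraMap_apply R P L, hχL, AlgHom.commutes]
    have h2 : (χb (algebraMap k Lb c)) * algebraMap k N (algebraMap R k s) =
        algebraMap k N c * algebraMap k N (algebraMap R k s) := by
      rw [← h1 s, ← map_mul, ← map_mul, hc, h1, h1, ← map_mul, hc]
    exact (((Ne.isUnit hs).map (algebraMap k N)).mul_left_inj).1 h2
  haveI : Algebra.IsSeparable k (ResidueField Lb) := by
    let g : ResidueField Lb →ₐ[k] ResidueField N :=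
      { ResidueField.map χb with
        commutes' := fun c => by
          show residue N (χb (algebraMap k Lb c)) = residue N (algebraMap k N c)
          rw [hχk] }
    exact Algebra.IsSeparable.of_algHom k _ g
  haveI : Algebra.EssFiniteType R P := Algebra.EssFiniteType.comp R (MvPolynomial (Fin 2) R) P
  haveI : Algebra.EssFiniteType P L := Algebra.EssFiniteType.of_isLocalization L q.primeCompl
  haveI : Algebra.EssFiniteType R L := Algebra.EssFiniteType.comp R P L
  haveI : Algebra.EssFiniteType R Lb := Algebra.EssFiniteType.comp R L Lb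
  haveI : Algebra.EssFiniteType k Lb := Algebra.EssFiniteType.of_comp R k Lb
  haveI : IsNoetherianRing Lb := Algebra.EssFiniteType.isNoetherianRing k Lb
  let mk : P → Lb := fun z => Ideal.Quotient.mk pL (algebraMap P L z)
  have hmem : ∀ z, z ∈ q → mk z ∈ maximalIdeal Lb := fun z hz => by
    by_contra h
    have h1 : IsUnit (mk z) := by simpa using h
    have h2 := h1.map χb
    rw [hχb] at h2
    exact (hq z).2 h2 hz
  have ha : a ∈ q := (mem_left hspanN : χ a ∈ maximalIdeal N)
  have hb : b ∈ q := (mem_right hspanN : χ b ∈ maximalIdeal N)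
  have hab : Ideal.span {mk a, mk b} = maximalIdeal Lb := by
    have hle : Ideal.span {mk a, mk b} ≤ maximalIdeal Lb := by
      rw [Ideal.span_le, Set.insert_subset_iff, Set.singleton_subset_iff]
      exact ⟨hmem a ha, hmem b hb⟩
    refine le_antisymm hle ?_
    apply Submodule.le_of_le_smul_of_le_jacobson_bot (IsNoetherian.noetherian _)
      (jacobson_eq_maximalIdeal ⊥ bot_ne_top).ge
    obtain ⟨δ, hδ⟩ := Delta.exists_delta k Lb
    intro z hz
    obtain ⟨z, rfl⟩ := Ideal.Quotient.mk_surjective z
    obtain ⟨⟨y, s⟩, hy⟩ := IsLocalization.surj q.primeCompl z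
    have hys : mk y = Ideal.Quotient.mk pL z * mk s := by
      show Ideal.Quotient.mk pL (algebraMap P L y) = _
      rw [← hy, map_mul]
    have hym : mk y ∈ maximalIdeal Lb := hys ▸ Ideal.mul_mem_right _ _ hz
    let C := (maximalIdeal Lb).Cotangent
    let D : Derivation R P C := (δ.restrictScalars R).compAlgebraMap P
    let D' : Derivation R P C :=
      (LinearMap.toSpanSingleton P C (δ (mk a))).compDer (Basics.pd R P 0) +
      (LinearMap.toSpanSingleton P C (δ (mk b))).compDer (Basics.pd R P 1)
    have hDD : D = D' := by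
      refine Basics.derivation_ext R P D D' fun i => ?_
      show δ (mk _) = (Basics.pd R P 0 (Basics.coord R P i)) • δ (mk a) +
        (Basics.pd R P 1 (Basics.coord R P i)) • δ (mk b)
      rw [Basics.pd_coord, Basics.pd_coord]
      fin_cases i <;> simp [Basics.coord, a, b]
    have hsm : ∀ (c : P) (x : C), c • x = mk c • x := fun c x => (algebraMap_smul Lb c x).symm
    have h1 : δ (mk y) = mk (Basics.pd R P 0 y) • δ (mk a) + mk (Basics.pd R P 1 y) • δ (mk b) := by
      rw [← hsm, ← hsm]
      exact Derivation.congr_fun hDD y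
    rw [hδ _ hym, hδ _ (hmem a ha), hδ _ (hmem b hb), ← map_smul, ← map_smul, ← map_add,
      Ideal.toCotangent_eq] at h1
    have h2 : mk y ∈ Ideal.span {mk a, mk b} ⊔ maximalIdeal Lb • maximalIdeal Lb := by
      rw [smul_eq_mul, ← pow_two]
      simpa using add_mem (Ideal.mem_sup_right (S := Ideal.span {mk a, mk b}) h1)
        (Ideal.mem_sup_left (T := maximalIdeal Lb ^ 2) (Ideal.mem_span_pair.2
          ⟨mk (Basics.pd R P 0 y), mk (Basics.pd R P 1 y), rfl⟩))
    rw [hys] at h2
    exact (Ideal.mul_unit_mem_iff_mem _ ((IsLocalization.map_units L s).map _)).1 h2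
  obtain ⟨vb, F₀, hdvb, hkerb, hF₀⟩ := LocalGen.exists_generator χb hχbs hN hab vN
    (by rw [hχb, hχb]; exact hquadN) hdvN
  choose vl hvl using fun i => Ideal.Quotient.mk_surjective (vb i)
  obtain ⟨z₀, rfl⟩ := Ideal.Quotient.mk_surjective F₀
  have hz₀ : z₀ ∈ RingHom.ker χL := by
    have h : Ideal.Quotient.mk pL z₀ ∈ RingHom.ker χb := hkerb ▸ Ideal.mem_span_singleton_self _
    exact h
  obtain ⟨f₀, hf₀, w₀, hw₀, rfl⟩ := Submodule.mem_sup.1 (hχker hz₀)
  have hf₀mk : Ideal.Quotient.mk pL (f₀ + w₀) = Ideal.Quotient.mk pL f₀ := by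
    rw [map_add, Ideal.Quotient.eq_zero_iff_mem.2 hw₀, add_zero]
  rw [hf₀mk] at hkerb hF₀
  -- flatness
  haveI := hflat
  haveI : Module.Flat R B' := Module.Flat.trans R B B'
  haveI : Module.Flat B' BQ := IsLocalization.flat BQ Q.primeCompl
  haveI : Module.Flat R BQ := Module.Flat.trans R B' BQ
  let πLa : L →ₐ[R] BQ :=
    { πL with
      commutes' := fun r => by
        show πL (algebraMap R L r) = _
        rw [IsScalarTower.algebraMap_apply R P L, hπL, AlgHom.commutes,
          ← IsScalarTower.algebraMap_apply] }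
  have hinf : pL ⊓ RingHom.ker πL ≤ pL * RingHom.ker πL :=
    H68.FlatLift.inf_ker_le_of_flat πLa hπLs p
  have hfgπ : (RingHom.ker π.toRingHom).FG := by
    haveI : Algebra.FinitePresentation R B' := Algebra.FinitePresentation.trans R B B'
    haveI : Algebra.FinitePresentation R P := Algebra.FinitePresentation.trans R (MvPolynomial (Fin 2) R) P
    exact Algebra.FinitePresentation.ker_fG_of_surjective π hπ
  have hfg : (RingHom.ker πL).FG := hkerL ▸ hfgπ.map _
  have hpm : pL ≤ maximalIdeal L := hpL ▸ (Ideal.map_mono hpq).trans_eq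
    (Localization.AtPrime.map_eq_maximalIdeal (I := q))
  have hgen : RingHom.ker πL ≤ Ideal.span {f₀} := by
    apply Submodule.le_of_le_smul_of_le_jacobson_bot hfg (jacobson_eq_maximalIdeal ⊥ bot_ne_top).ge
    intro z hz
    have hz' : Ideal.Quotient.mk pL z ∈ RingHom.ker χb := by
      rw [RingHom.mem_ker]
      show χL z = 0
      have h0 : χL z = 0 := by
        obtain ⟨⟨y, s⟩, hy⟩ := IsLocalization.surj q.primeCompl z
        have h1 : πL (algebraMap P L y) = 0 := by
          rw [← hy, map_mul, RingHom.mem_ker.1 hz, zero_mul]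
        rw [hπL] at h1
        obtain ⟨⟨u, hu⟩, hu'⟩ := (IsLocalization.map_eq_zero_iff Q.primeCompl BQ _).1 h1
        have h2 : IsUnit (ι u) := by simpa [Q] using hu
        have h3 : ι (π y) = 0 := by
          have := congrArg ι hu'
          rwa [map_mul, map_zero, h2.mul_right_eq_zero] at this
        have h4 : χL z * χ (s : P) = 0 := by
          rw [← hχL, ← map_mul, hy, hχL]
          exact h3
        rwa [(((hq _).1 s.2)).mul_left_eq_zero] at h4
      exact h0
    rw [hkerb] at hz'
    obtain ⟨c, hc⟩ := Ideal.mem_span_singleton'.1 hz'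
    obtain ⟨c, rfl⟩ := Ideal.Quotient.mk_surjective c
    rw [← map_mul, eq_comm, Ideal.Quotient.eq] at hc
    have h1 : z - c * f₀ ∈ pL * RingHom.ker πL :=
      hinf ⟨hc, sub_mem hz (Ideal.mul_mem_left _ _ hf₀)⟩
    have h2 : z - c * f₀ ∈ maximalIdeal L • RingHom.ker πL := by
      rw [smul_eq_mul]
      exact Ideal.mul_mono_left hpm h1
    simpa using add_mem (Ideal.mem_sup_right (S := Ideal.span {f₀}) h2)
      (Ideal.mem_sup_left (T := maximalIdeal L • RingHom.ker πL)
        (Ideal.mul_mem_left _ c (Ideal.mem_span_singleton_self f₀)))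
  -- clearing denominators
  rw [hkerL, IsLocalization.mem_map_algebraMap_iff q.primeCompl] at hf₀
  obtain ⟨⟨⟨y₀, hy₀⟩, sF⟩, hsF⟩ := hf₀
  choose ws hws using fun i => IsLocalization.surj q.primeCompl (vl i)
  let wi : Fin 3 → P := fun i => (ws i).1
  let si : Fin 3 → q.primeCompl := fun i => (ws i).2
  have hwi : ∀ i, vl i * algebraMap P L (si i) = algebraMap P L (wi i) := hws
  let sW : q.primeCompl := si 0 * si 1 * si 2
  let F : P := y₀ * (sW : P)
  let w : Fin 3 → P := ![wi 0 * (si 1 * si 2 * sF : q.primeCompl), wi 1 * (si 0 * si 2 * sF : q.primeCompl),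
    wi 2 * (si 0 * si 1 * sF : q.primeCompl)]
  let uu : L := algebraMap P L ((sF * sW : q.primeCompl) : P)
  have huu : IsUnit uu := IsLocalization.map_units L (sF * sW)
  have hFL : algebraMap P L F = uu * f₀ := by
    simp only [F, uu, Submonoid.coe_mul, map_mul]
    linear_combination (-(algebraMap P L (sW : P))) * hsF
  have hwL : ∀ i, algebraMap P L (w i) = uu * vl i := by
    intro i
    fin_cases i <;> simp [w, uu, sW, ← hwi] <;> ring
  have hFker : F ∈ RingHom.ker π.toRingHom := Ideal.mul_mem_right _ _ hy₀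
  have hdw : disc w ∉ q := by
    rw [hq]
    have h : algebraMap P L (disc w) = uu ^ 2 * disc vl := by
      rw [map_disc]
      simp only [disc, Function.comp_apply, hwL]
      ring
    have this : χ (disc w) = χb (Ideal.Quotient.mk pL uu) ^ 2 * χb (disc vb) := by
      rw [← hχb, h, map_mul, map_mul, map_pow, map_pow, map_disc (Ideal.Quotient.mk pL),
        show Ideal.Quotient.mk pL ∘ vl = vb from funext hvl]
    rw [this]
    exact (((huu.map _).map _).pow 2).mul (hdvb.map _)
  have hcong : algebraMap P L (F - quad w a b) ∈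
      (q ^ 3 ⊔ p.map (algebraMap R P)).map (algebraMap P L) := by
    rw [Ideal.map_sup, Ideal.map_pow, ← hpL]
    have hm : Ideal.map (algebraMap P L) q = maximalIdeal L := Localization.AtPrime.map_eq_maximalIdeal (I := q)
    have h1 : Ideal.Quotient.mk pL (algebraMap P L (F - quad w a b)) ∈
        ((Ideal.map (algebraMap P L) q) ^ 3).map (Ideal.Quotient.mk pL) := by
      have h2 : algebraMap P L (F - quad w a b) =
          uu * (f₀ - quad vl (algebraMap P L a) (algebraMap P L b)) := by
        rw [map_sub, hFL, map_quad]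
        simp only [quad, Function.comp_apply, hwL]
        ring
      rw [h2, map_mul, hm, Ideal.map_pow,
        IsLocalRing.map_maximalIdeal_of_surjective _ Ideal.Quotient.mk_surjective]
      refine Ideal.mul_mem_left _ _ ?_
      rw [map_sub, map_quad, show Ideal.Quotient.mk pL ∘ vl = vb from funext hvl]
      exact hF₀
    rwa [← Ideal.mem_comap, Ideal.comap_map_of_surjective _ Ideal.Quotient.mk_surjective,
      ← RingHom.ker_eq_comap_bot, Ideal.mk_ker] at h1
  obtain ⟨⟨⟨y, hy⟩, t⟩, ht⟩ := (IsLocalization.mem_map_algebraMap_iff q.primeCompl L).1 hcong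
  obtain ⟨t', ht'⟩ := (IsLocalization.eq_iff_exists q.primeCompl L).1
    (show algebraMap P L ((F - quad w a b) * t) = algebraMap P L y by rw [map_mul]; exact ht)
  have hcong' : ((t' * t : q.primeCompl) : P) * (F - quad w a b) ∈ q ^ 3 ⊔ p.map (algebraMap R P) := by
    convert Ideal.mul_mem_left _ (t' : P) hy using 1
    rw [← ht', Submonoid.coe_mul]
    ring
  -- spreading out
  obtain ⟨n, G, hG⟩ := Submodule.fg_iff_exists_fin_generating_family.1 hfgπ
  have hGt : ∀ j, ∃ s : q.primeCompl, (s : P) * G j ∈ Ideal.span {F} := fun j => by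
    have h1 : algebraMap P L (G j) ∈ Ideal.span {f₀} := hgen (by
      rw [hkerL]
      exact Ideal.mem_map_of_mem _ (hG ▸ Submodule.subset_span ⟨j, rfl⟩))
    obtain ⟨c, hc⟩ := Ideal.mem_span_singleton'.1 h1
    have h2 : algebraMap P L (G j) ∈ (Ideal.span {F}).map (algebraMap P L) := by
      rw [← hc, Ideal.map_span, Set.image_singleton, hFL, Ideal.span_singleton_mul_left_unit huu]
      exact Ideal.mul_mem_left _ _ (Ideal.mem_span_singleton_self _)
    obtain ⟨⟨⟨y, hy⟩, s⟩, hs⟩ := (IsLocalization.mem_map_algebraMap_iff q.primeCompl L).1 h2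
    obtain ⟨s', hs'⟩ := (IsLocalization.eq_iff_exists q.primeCompl L).1
      (show algebraMap P L (G j * s) = algebraMap P L y by rw [map_mul]; exact hs)
    refine ⟨s' * s, ?_⟩
    convert Ideal.mul_mem_left _ (s' : P) hy using 1
    rw [← hs', Submonoid.coe_mul]
    ring
  choose st hst using hGt
  let g : q.primeCompl := ∏ j, st j
  have hgker : ∀ z ∈ RingHom.ker π.toRingHom, (g : P) * z ∈ Ideal.span {F} := by
    intro z hz
    rw [← hG] at hz
    induction hz using Submodule.span_induction with
    | mem z hz =>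
      obtain ⟨j, rfl⟩ := hz
      rw [show g = (∏ i ∈ Finset.univ.erase j, st i) * st j from
        (Finset.prod_erase_mul _ _ (Finset.mem_univ j)).symm, Submonoid.coe_mul, mul_assoc]
      exact Ideal.mul_mem_left _ _ (hst j)
    | zero => simp
    | add z w _ _ h₁ h₂ => rw [mul_add]; exact add_mem h₁ h₂
    | smul c z _ h => rw [smul_eq_mul, mul_left_comm]; exact Ideal.mul_mem_left _ _ h
  let P' := Localization.Away (g : P)
  let B'' := Localization.Away (π (g : P))
  haveI : Algebra.Etale B' B'' := Algebra.Etale.of_isLocalizationAway (π (g : P))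
  haveI : Algebra.Etale B B'' := Algebra.Etale.comp B B' B''
  have hT' : Submonoid.map π.toRingHom (Submonoid.powers (g : P)) = Submonoid.powers (π (g : P)) :=
    Submonoid.map_powers π.toRingHom (g : P)
  let π'₀ : P' →+* B'' := IsLocalization.map B'' π.toRingHom
    (hT' ▸ (Submonoid.powers (g : P)).le_comap_map)
  have hπ'e : ∀ z, π'₀ (algebraMap P P' z) = algebraMap B' B'' (π z) := fun z => IsLocalization.map_eq _ z
  let π' : P' →ₐ[R] B'' :=
    { π'₀ with
      commutes' := fun r => by
        show π'₀ (algebraMap R P' r) = _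
        rw [IsScalarTower.algebraMap_apply R P P', hπ'e, AlgHom.commutes,
          ← IsScalarTower.algebraMap_apply] }
  have hπ's : Function.Surjective π' := by
    haveI : IsLocalization (Submonoid.map π.toRingHom (Submonoid.powers (g : P))) B'' := by
      rw [hT']; infer_instance
    exact IsLocalization.map_surjective_of_surjective (M := Submonoid.powers (g : P)) (S := P') (Q := B'') (g := π.toRingHom) hπ
  have hker' : RingHom.ker π'.toRingHom = Ideal.span {algebraMap P P' F} := by
    rw [← Set.image_singleton, ← Ideal.map_span]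
    show RingHom.ker π'₀ = _
    rw [show RingHom.ker π'₀ = (RingHom.ker π.toRingHom).map (algebraMap P P') from
      IsLocalization.ker_map B'' π.toRingHom hT']
    refine le_antisymm (Ideal.map_le_iff_le_comap.2 fun z hz => ?_)
      (Ideal.map_mono ((Ideal.span_singleton_le_iff_mem _).2 hFker))
    have := Ideal.mem_map_of_mem (algebraMap P P') (hgker z hz)
    rw [map_mul] at this
    rw [Ideal.mem_comap]
    exact (Ideal.unit_mul_mem_iff_mem _ (IsLocalization.Away.algebraMap_isUnit (S := P') (g : P))).1 this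
  have hgu : IsUnit (ι (π (g : P))) := (hq _).1 g.2
  let ι'' : B'' →+* N := IsLocalization.Away.lift (π (g : P)) (g := ι.toRingHom) hgu
  have hι'' : ∀ z, ι'' (algebraMap B' B'' z) = ι z := fun z => IsLocalization.Away.lift_eq _ hgu z
  let Q'' : Ideal B'' := (maximalIdeal N).comap ι''
  have hQ''mem : ∀ z : P, algebraMap P P' z ∈ Q''.comap π'.toRingHom ↔ z ∈ q := fun z => by
    show ι'' (π'₀ (algebraMap P P' z)) ∈ maximalIdeal N ↔ ι (π z) ∈ maximalIdeal N
    rw [hπ'e, hι'']
  haveI : Algebra.Etale (MvPolynomial (Fin 2) R) P' := inferInstance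
  refine ⟨P', inferInstance, inferInstance, inferInstance, inferInstance, inferInstance, B'',
    inferInstance, inferInstance, inferInstance, inferInstance, inferInstance, π', algebraMap P P' F,
    Q'', Ideal.IsPrime.comap _, hπ's, hker', ?_, ?_, ?_, ?_, algebraMap P P' ∘ w, ?_,
    algebraMap P P' ((t' * t : q.primeCompl) : P), ?_, ?_⟩
  · rw [Ideal.comap_comap]
    congr 1
    refine RingHom.ext fun z => ?_
    show ι'' (algebraMap B B'' z) = _
    rw [IsScalarTower.algebraMap_apply B B' B'', hι'', hι]
  · rw [IsScalarTower.algebraMap_apply (MvPolynomial (Fin 2) R) P P', hQ''mem]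
    exact ha
  · rw [IsScalarTower.algebraMap_apply (MvPolynomial (Fin 2) R) P P', hQ''mem]
    exact hb
  · rw [IsScalarTower.algebraMap_eq R P P', ← Ideal.map_map, Ideal.map_le_iff_le_comap]
    exact fun z hz => (hQ''mem z).2 (hpq hz)
  · rw [← map_disc, hQ''mem]
    exact hdw
  · rw [hQ''mem]
    exact (t' * t).2
  · rw [IsScalarTower.algebraMap_apply (MvPolynomial (Fin 2) R) P P',
      IsScalarTower.algebraMap_apply (MvPolynomial (Fin 2) R) P P', ← map_quad, ← map_sub, ← map_mul]
    have h1 := Ideal.mem_map_of_mem (algebraMap P P') hcong'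
    rw [Ideal.map_sup, Ideal.map_pow, Ideal.map_map, ← IsScalarTower.algebraMap_eq R P P'] at h1
    have h2 : q.map (algebraMap P P') ≤ Q''.comap π'.toRingHom :=
      Ideal.map_le_iff_le_comap.2 fun z hz => (hQ''mem z).2 hz
    obtain ⟨u₁, hu₁, u₂, hu₂, hsum⟩ := Submodule.mem_sup.1 h1
    rw [← hsum]
    exact add_mem (Ideal.mem_sup_left (Ideal.pow_right_mono h2 3 hu₁)) (Ideal.mem_sup_right hu₂)

end Groth.Agent.H25.Morse.Hypersurface
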