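import Groth.Agent.H25.Morse.NodeOpen
import Groth.Agent.S7912

/-!
The nodal locus: fibrewise description, base change, largest open.
-/

set_option autoImplicit false
set_option linter.style.haveILetI false
universe u

open CategoryTheory CategoryTheory.Limits AlgebraicGeometry IsLocalRing

attribute [local instance] Curv2.stalkAlgebra

namespace Groth.Agent.H25.Morse.Locus

open NodeOpen

variable {X S : Scheme.{u}} (f : X ⟶ S)

/-- Pure curves with at worst nodes. -/
def Good (k : Type u) [Field k] (Y : Scheme.{u}) (p : Y ⟶ Spec (CommRingCat.of k)) : Prop :=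
  (∀ Z ∈ irreducibleComponents (Y : Type u), topologicalKrullDim Z = 1) ∧ @Curv2.AtWorstNodal k _ Y ⟨p⟩

theorem Good.etale {k : Type u} [Field k] {Y Z : Scheme.{u}} {p : Y ⟶ Spec (CommRingCat.of k)}
    [LocallyOfFiniteType p] (h : Good k Y p) (q : Z ⟶ Y) [Etale q] {r : Z ⟶ Spec (CommRingCat.of k)}
    (hr : q ≫ p = r) : Good k Z r := by
  letI : Y.Over (Spec (CommRingCat.of k)) := ⟨p⟩
  haveI : LocallyOfFiniteType (Y ↘ Spec (CommRingCat.of k)) := ‹LocallyOfFiniteType p›
  letI : Z.Over (Spec (CommRingCat.of k)) := ⟨r⟩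
  exact Node.Invariance.etale k Y h.1 h.2 q hr

/-- The relative dimension near a smooth point. -/
theorem exists_relDim [LocallyOfFinitePresentation f] {x : X} (hx : x ∈ f.smoothLocus) :
    ∃ (n : ℕ) (W : X.Opens), x ∈ W ∧ SmoothOfRelativeDimension n (W.ι ≫ f) := by
  haveI : Smooth (f.smoothLocus.ι ≫ f) := by
    rw [← Scheme.Hom.smoothLocus_eq_top_iff, ← Scheme.Hom.preimage_smoothLocus_eq,
      Scheme.Opens.ι_preimage_self]
  obtain ⟨U, hU, V, hV, hxV, e, hst⟩ := Smooth.exists_isStandardSmooth (f.smoothLocus.ι ≫ f) ⟨x, hx⟩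
  algebraize [((f.smoothLocus.ι ≫ f).appLE U V e).hom]
  obtain ⟨ι, σ, _, _, ⟨P⟩⟩ := Algebra.IsStandardSmooth.out (R := Γ(S, U)) (S := Γ(f.smoothLocus, V))
  haveI hn : Algebra.IsStandardSmoothOfRelativeDimension P.dimension Γ(S, U) Γ(f.smoothLocus, V) :=
    ⟨⟨ι, σ, ‹_›, ‹_›, P, rfl⟩⟩
  set n := P.dimension
  haveI : SmoothOfRelativeDimension n (Spec.map ((f.smoothLocus.ι ≫ f).appLE U V e)) := by
    rw [HasRingHomProperty.Spec_iff (P := @SmoothOfRelativeDimension n)]
    exact RingHom.locally_of RingHom.isStandardSmoothOfRelativeDimension_respectsIso _ hn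
  haveI hV' : SmoothOfRelativeDimension n (V.ι ≫ f.smoothLocus.ι ≫ f) := by
    rw [show V.ι ≫ f.smoothLocus.ι ≫ f =
        hV.isoSpec.hom ≫ Spec.map ((f.smoothLocus.ι ≫ f).appLE U V e) ≫ hU.fromSpec by
      rw [hU.SpecMap_appLE_fromSpec (f.smoothLocus.ι ≫ f) hV e, hV.isoSpec_hom_fromSpec_assoc]]
    have := smoothOfRelativeDimension_comp 0 (n + 0) hV.isoSpec.hom
      (Spec.map ((f.smoothLocus.ι ≫ f).appLE U V e) ≫ hU.fromSpec)
    simpa using this
  let j := V.ι ≫ f.smoothLocus.ι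
  refine ⟨n, j.opensRange, ⟨⟨⟨x, hx⟩, hxV⟩, rfl⟩, ?_⟩
  rw [← Scheme.Hom.isoOpensRange_inv_comp j, Category.assoc, Category.assoc]
  have := smoothOfRelativeDimension_comp 0 n j.isoOpensRange.inv (V.ι ≫ f.smoothLocus.ι ≫ f)
  simpa using this

/-- Opens of the fibre come from opens of the total space. -/
theorem exists_open (s : S) (O : (f.fiber s).Opens) : ∃ W : X.Opens, (f.fiberι s) ⁻¹ᵁ W = O := by
  obtain ⟨W, hW, e⟩ := (f.fiberι s).isEmbedding.isInducing.isOpen_iff.1 O.2
  exact ⟨⟨W, hW⟩, TopologicalSpace.Opens.ext e⟩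

instance lfp_fibre [LocallyOfFinitePresentation f] (s : S) :
    LocallyOfFinitePresentation (f.fiberToSpecResidueField s) :=
  inferInstanceAs (LocallyOfFinitePresentation (pullback.snd f (S.fromSpecResidueField s)))

/-- A flat map is smooth at the smooth points of its fibres. -/
theorem mem_smoothLocus [Flat f] [LocallyOfFinitePresentation f] (x : X)
    (h : f.asFiber x ∈ (f.fiberToSpecResidueField (f x)).smoothLocus) : x ∈ f.smoothLocus := by
  obtain ⟨W, hW⟩ := exists_open f (f x) (f.fiberToSpecResidueField (f x)).smoothLocus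
  have hxW : x ∈ W := by
    have h2 : f.fiberι (f x) (f.asFiber x) ∈ W := by
      show f.asFiber x ∈ (f.fiberι (f x)) ⁻¹ᵁ W
      rw [hW]; exact h
    rwa [f.fiberι_asFiber] at h2
  obtain ⟨e, he⟩ := exists_fiberIso f W (f x)
  have hsmooth : Smooth ((W.ι ≫ f).fiberToSpecResidueField (f x)) := by
    rw [← he]
    haveI : Smooth (((f.fiberι (f x)) ⁻¹ᵁ W).ι ≫ f.fiberToSpecResidueField (f x)) := by
      rw [← Scheme.Hom.smoothLocus_eq_top_iff, ← Scheme.Hom.preimage_smoothLocus_eq, eq_top_iff]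
      rintro ⟨y, hy⟩ -
      rw [hW] at hy
      exact hy
    infer_instance
  have h1 := Lib.Flat55.SmoothAt.mem_smoothLocus_of_fibre (W.ι ≫ f) ⟨x, hxW⟩
    (Flat.stalkMap _ _) (f x) rfl hsmooth
  rw [← Scheme.Hom.preimage_smoothLocus_eq] at h1
  exact h1

/-- The fibrewise smooth points are the smooth points. -/
theorem asFiber_mem [LocallyOfFinitePresentation f] (x : X) (hx : x ∈ f.smoothLocus) :
    f.asFiber x ∈ (f.fiberToSpecResidueField (f x)).smoothLocus := by
  haveI : Smooth (f.smoothLocus.ι ≫ f) := by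
    rw [← Scheme.Hom.smoothLocus_eq_top_iff, ← Scheme.Hom.preimage_smoothLocus_eq,
      Scheme.Opens.ι_preimage_self]
  obtain ⟨e, he⟩ := exists_fiberIso f f.smoothLocus (f x)
  let O := (f.fiberι (f x)) ⁻¹ᵁ f.smoothLocus
  have hO : Smooth (O.ι ≫ f.fiberToSpecResidueField (f x)) := by
    haveI : Smooth ((f.smoothLocus.ι ≫ f).fiberToSpecResidueField (f x)) :=
      inferInstanceAs (Smooth (pullback.snd (f.smoothLocus.ι ≫ f) (S.fromSpecResidueField (f x))))
    rw [show O.ι ≫ f.fiberToSpecResidueField (f x) =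
      e.inv ≫ (f.smoothLocus.ι ≫ f).fiberToSpecResidueField (f x) by rw [← he]; simp [O]]
    infer_instance
  have hmem : f.asFiber x ∈ O := by
    show f.fiberι (f x) (f.asFiber x) ∈ f.smoothLocus
    rwa [f.fiberι_asFiber]
  have h1 : (⟨f.asFiber x, hmem⟩ : (O : Scheme.{u})) ∈
      O.ι ⁻¹ᵁ (f.fiberToSpecResidueField (f x)).smoothLocus := by
    rw [Scheme.Hom.preimage_smoothLocus_eq, Scheme.Hom.smoothLocus_eq_top]
    trivial
  exact h1

/-- Nodal families restrict to good opens of fibres. -/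
theorem good_of_isNodalFamily (W : X.Opens) (h : Curv2.IsNodalFamily (W.ι ≫ f)) (s : S) :
    Good (S.residueField s) ((f.fiberι s) ⁻¹ᵁ W : Scheme.{u})
      (((f.fiberι s) ⁻¹ᵁ W).ι ≫ f.fiberToSpecResidueField s) := by
  obtain ⟨e, he⟩ := exists_fiberIso f W s
  haveI := h.2.1
  haveI : LocallyOfFiniteType ((W.ι ≫ f).fiberToSpecResidueField s) :=
    inferInstanceAs (LocallyOfFiniteType (pullback.snd (W.ι ≫ f) (S.fromSpecResidueField s)))
  exact Good.etale (h.2.2 s) e.inv (by rw [← he]; simp)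

/-- **Fibrewise criterion.** -/
theorem of_good [Flat f] [LocallyOfFinitePresentation f] (x : X) (O : (f.fiber (f x)).Opens)
    (hxO : f.asFiber x ∈ O)
    (hO : Good (S.residueField (f x)) (O : Scheme.{u}) (O.ι ≫ f.fiberToSpecResidueField (f x))) :
    IsNodalAt f x := by
  let s := f x
  let F := f.fiber s
  letI : F.Over (Spec (CommRingCat.of (S.residueField s))) := ⟨f.fiberToSpecResidueField s⟩
  haveI : LocallyOfFiniteType (F ↘ Spec (CommRingCat.of (S.residueField s))) :=
    inferInstanceAs (LocallyOfFiniteType (pullback.snd f (S.fromSpecResidueField s)))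
  haveI : LocallyOfFinitePresentation (f.fiberToSpecResidueField s) :=
    inferInstanceAs (LocallyOfFinitePresentation (pullback.snd f (S.fromSpecResidueField s)))
  letI : (O : Scheme.{u}).Over (Spec (CommRingCat.of (S.residueField s))) :=
    ⟨O.ι ≫ f.fiberToSpecResidueField s⟩
  haveI : LocallyOfFiniteType ((O : Scheme.{u}) ↘ Spec (CommRingCat.of (S.residueField s))) :=
    inferInstanceAs (LocallyOfFiniteType (O.ι ≫ f.fiberToSpecResidueField s))
  rcases Node.AtWorst.smooth_or_node (S.residueField s) (O : Scheme.{u})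
    (Node.AtWorst.dim_le_one (O : Scheme.{u}) hO.1) hO.2 ⟨f.asFiber x, hxO⟩ with hsm | hnode
  swap
  · exact of_node f x ((isNode_open_iff (S.residueField s) F O.ι rfl ⟨f.asFiber x, hxO⟩).1 hnode)
  have hxsm : x ∈ f.smoothLocus := by
    refine mem_smoothLocus f x ?_
    have h1 : (⟨f.asFiber x, hxO⟩ : (O : Scheme.{u})) ∈ O.ι ⁻¹ᵁ (f.fiberToSpecResidueField s).smoothLocus := by
      rw [Scheme.Hom.preimage_smoothLocus_eq]
      exact hsm
    exact h1
  obtain ⟨n, W₁, hxW₁, hn⟩ := exists_relDim f hxsm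
  obtain ⟨W', hW'⟩ := exists_open f s O
  let W₂ := W₁ ⊓ W'
  have hxW₂ : x ∈ W₂ := ⟨hxW₁, by
    have h1 : f.asFiber x ∈ (f.fiberι s) ⁻¹ᵁ W' := by rw [hW']; exact hxO
    have h2 : f.fiberι s (f.asFiber x) ∈ W' := h1
    rwa [f.fiberι_asFiber] at h2⟩
  haveI hn₂ : SmoothOfRelativeDimension n (W₂.ι ≫ f) := by
    haveI := hn
    have h1 := smoothOfRelativeDimension_comp 0 n (X.homOfLE (inf_le_left : W₂ ≤ W₁)) (W₁.ι ≫ f)
    rw [Scheme.homOfLE_ι_assoc] at h1
    simpa using h1
  obtain ⟨e₂, he₂⟩ := exists_fiberIso f W₂ s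
  let O₂ := (f.fiberι s) ⁻¹ᵁ W₂
  have hle : O₂ ≤ O := fun y hy => hW' ▸ hy.2
  have hgood : Good (S.residueField s) ((W₂.ι ≫ f).fiber s) ((W₂.ι ≫ f).fiberToSpecResidueField s) := by
    refine Good.etale hO (e₂.hom ≫ (f.fiber s).homOfLE hle) ?_
    rw [Category.assoc, Scheme.homOfLE_ι_assoc]
    exact he₂
  haveI : SmoothOfRelativeDimension n ((W₂.ι ≫ f).fiberToSpecResidueField s) :=
    (smoothOfRelativeDimension_isStableUnderBaseChange n).of_isPullback
      (IsPullback.of_hasPullback (W₂.ι ≫ f) (S.fromSpecResidueField s)) hn₂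
  obtain rfl : n = 1 := RelDim.eq_one (S.residueField s) _ ((W₂.ι ≫ f).fiberToSpecResidueField s) n hgood.1
    (e₂.inv ⟨f.asFiber x, show f.fiberι s (f.asFiber x) ∈ W₂ by rw [f.fiberι_asFiber]; exact hxW₂⟩)
  exact ⟨W₂, hxW₂, RelDim.isNodalFamily _⟩

/-- A smooth point of a flat family of pure curves is a nodal point. -/
theorem of_smooth [Flat f] [LocallyOfFinitePresentation f] (x : X) (hx : x ∈ f.smoothLocus)
    (hd : ∀ Z ∈ irreducibleComponents (f.fiber (f x) : Type u), topologicalKrullDim Z = 1) :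
    IsNodalAt f x := by
  haveI : JacobsonSpace (f.fiber (f x) : Type u) := by
    haveI : LocallyOfFiniteType (f.fiberToSpecResidueField (f x)) :=
      inferInstanceAs (LocallyOfFiniteType (pullback.snd f (S.fromSpecResidueField (f x))))
    exact LocallyOfFiniteType.jacobsonSpace (f.fiberToSpecResidueField (f x))
  let O := (f.fiberToSpecResidueField (f x)).smoothLocus
  refine of_good f x O (asFiber_mem f x hx) ⟨Node.Dim.comps_one_of_map O.ι hd fun y hy => ?_, fun y _ => ?_⟩
  · have h1 : y ∈ O.ι ⁻¹' closedPoints (f.fiber (f x) : Type u) := by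
      rw [O.ι.isOpenEmbedding.preimage_closedPoints]
      exact hy
    exact h1
  · refine Or.inl ⟨⊤, trivial, ?_⟩
    haveI : Smooth (O.ι ≫ f.fiberToSpecResidueField (f x)) := by
      rw [← Scheme.Hom.smoothLocus_eq_top_iff, ← Scheme.Hom.preimage_smoothLocus_eq,
        Scheme.Opens.ι_preimage_self]
    exact (inferInstance : Smooth ((⊤ : (O : Scheme.{u}).Opens).ι ≫ O.ι ≫ f.fiberToSpecResidueField (f x)))

/-- Points of a nodal piece are smooth points or nodes. -/
theorem smooth_or_node [Flat f] [LocallyOfFinitePresentation f] (x : X) (h : IsNodalAt f x) :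
    x ∈ f.smoothLocus ∨ @Curv2.IsNode (S.residueField (f x)) _ (f.fiber (f x))
      ⟨f.fiberToSpecResidueField (f x)⟩ (f.asFiber x) := by
  obtain ⟨W, hxW, hW⟩ := h
  let O := (f.fiberι (f x)) ⁻¹ᵁ W
  have hxO : f.asFiber x ∈ O := by
    show f.fiberι (f x) (f.asFiber x) ∈ W
    rwa [f.fiberι_asFiber]
  have hO := good_of_isNodalFamily f W hW (f x)
  letI : (f.fiber (f x)).Over (Spec (CommRingCat.of (S.residueField (f x)))) :=
    ⟨f.fiberToSpecResidueField (f x)⟩
  haveI : LocallyOfFiniteType ((f.fiber (f x)) ↘ Spec (CommRingCat.of (S.residueField (f x)))) :=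
    inferInstanceAs (LocallyOfFiniteType (pullback.snd f (S.fromSpecResidueField (f x))))
  letI : (O : Scheme.{u}).Over (Spec (CommRingCat.of (S.residueField (f x)))) :=
    ⟨O.ι ≫ f.fiberToSpecResidueField (f x)⟩
  haveI : LocallyOfFiniteType ((O : Scheme.{u}) ↘ Spec (CommRingCat.of (S.residueField (f x)))) :=
    inferInstanceAs (LocallyOfFiniteType (O.ι ≫ f.fiberToSpecResidueField (f x)))
  rcases Node.AtWorst.smooth_or_node (S.residueField (f x)) (O : Scheme.{u})
    (Node.AtWorst.dim_le_one (O : Scheme.{u}) hO.1) hO.2 ⟨f.asFiber x, hxO⟩ with hsm | hnode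
  · refine Or.inl (mem_smoothLocus f x ?_)
    have h1 : (⟨f.asFiber x, hxO⟩ : (O : Scheme.{u})) ∈
        O.ι ⁻¹ᵁ (f.fiberToSpecResidueField (f x)).smoothLocus := by
      rw [Scheme.Hom.preimage_smoothLocus_eq]
      exact hsm
    exact h1
  · exact Or.inr ((isNode_open_iff (S.residueField (f x)) (f.fiber (f x)) O.ι rfl ⟨f.asFiber x, hxO⟩).1 hnode)

/-- The nodal locus. -/
noncomputable def nodalLocus : X.Opens :=
  ⟨{x | IsNodalAt f x}, isOpen_iff_forall_mem_open.2 fun _ ⟨W, hxW, hW⟩ =>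
    ⟨W, fun _ hy => ⟨W, hy, hW⟩, W.2, hxW⟩⟩

theorem le_nodalLocus {V : X.Opens} (hV : Curv2.IsNodalFamily (V.ι ≫ f)) : V ≤ nodalLocus f :=
  fun _ hy => ⟨V, hy, hV⟩

theorem isNodalFamily_nodalLocus : Curv2.IsNodalFamily ((nodalLocus f).ι ≫ f) := by
  refine S1593.result _ {W : X.Opens // Curv2.IsNodalFamily (W.ι ≫ f)} (fun W => (W.1 : Scheme.{u}))
    (fun W => X.homOfLE (le_nodalLocus f W.2)) ?_ fun W => ?_
  · rintro ⟨x, W, hxW, hW⟩
    refine ⟨⟨W, hW⟩, ⟨x, hxW⟩, ?_⟩
    exact (nodalLocus f).ι.isOpenEmbedding.injective (by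
      show ((X.homOfLE (le_nodalLocus f hW)) ≫ (nodalLocus f).ι) _ = _
      rw [Scheme.homOfLE_ι]
      rfl)
  · rw [Scheme.homOfLE_ι_assoc]
    exact W.2

variable {S' : Scheme.{u}} (g : S' ⟶ S)

/-- Pullback of an open nodal piece. -/
theorem isNodalFamily_preimage (U : X.Opens) (h : Curv2.IsNodalFamily (U.ι ≫ f)) :
    Curv2.IsNodalFamily ((pullback.fst f g ⁻¹ᵁ U).ι ≫ pullback.snd f g) := by
  have hpb : IsPullback ((pullback.fst f g) ∣_ U) ((pullback.fst f g ⁻¹ᵁ U).ι ≫ pullback.snd f g)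
      (U.ι ≫ f) g :=
    ((isPullback_morphismRestrict (pullback.fst f g) U).flip.paste_horiz
      (IsPullback.of_hasPullback f g).flip).flip
  have h1 := S1592.result _ (S7912.result _ h g) hpb.isoPullback.hom
  rwa [hpb.isoPullback_hom_snd] at h1

/-- Nodal points upstairs lie over nodal points. -/
theorem of_baseChange [Flat f] [LocallyOfFinitePresentation f] (y : (pullback f g : Scheme.{u}))
    (hy : IsNodalAt (pullback.snd f g) y) : IsNodalAt f (pullback.fst f g y) := by
  obtain ⟨W, hyW, hW⟩ := hy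
  set f' := pullback.snd f g with hf'
  set s' := f' y with hs'
  set x := pullback.fst f g y with hx
  have hxs : f x = g s' := by
    show (pullback.fst f g ≫ f) y = (pullback.snd f g ≫ g) y
    rw [pullback.condition]
  have h := isPullback_fiberToSpecResidueField_of_isPullback (IsPullback.of_hasPullback f g) s'
  set Φ := pullback.map f' (S'.fromSpecResidueField s') f (S.fromSpecResidueField (g s'))
    (pullback.fst f g) (Spec.map (g.residueFieldMap s')) g (IsPullback.of_hasPullback f g).w.symm (by simp) with hΦ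
  letI : (f.fiber (g s')).Over (Spec (CommRingCat.of (S.residueField (g s')))) :=
    ⟨f.fiberToSpecResidueField (g s')⟩
  haveI : LocallyOfFiniteType ((f.fiber (g s')) ↘ Spec (CommRingCat.of (S.residueField (g s')))) :=
    inferInstanceAs (LocallyOfFiniteType (pullback.snd f (S.fromSpecResidueField (g s'))))
  letI : Algebra (S.residueField (g s')) (S'.residueField s') := (g.residueFieldMap s').hom.toAlgebra
  let k : Type u := S.residueField (g s')
  let K : Type u := S'.residueField s'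
  let B := Curv2.bc (S.residueField (g s')) (f.fiber (g s')) (S'.residueField s')
  let e : f'.fiber s' ≅ B := h.isoPullback
  let O' := (f'.fiberι s') ⁻¹ᵁ W
  let j₀ : (O' : Scheme.{u}) ⟶ B := O'.ι ≫ e.hom
  haveI : IsOpenImmersion j₀ := inferInstanceAs (IsOpenImmersion (O'.ι ≫ e.hom))
  let Ofst := Curv2.bcFst (S.residueField (g s')) (f.fiber (g s')) (S'.residueField s')
  haveI : IsIntegral (Spec (CommRingCat.of (S.residueField (g s')))) := inferInstance
  haveI : UniversallyOpen Ofst := inferInstanceAs (UniversallyOpen (pullback.fst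
    ((f.fiber (g s')) ↘ Spec (CommRingCat.of (S.residueField (g s'))))
    (Spec.map (CommRingCat.ofHom (algebraMap (S.residueField (g s')) (S'.residueField s'))))))
  let O : (f.fiber (g s')).Opens :=
    ⟨Set.range (j₀ ≫ Ofst), (j₀ ≫ Ofst).isOpenMap.isOpen_range⟩
  letI : (O : Scheme.{u}).Over (Spec (CommRingCat.of (S.residueField (g s')))) :=
    ⟨O.ι ≫ f.fiberToSpecResidueField (g s')⟩
  haveI : LocallyOfFiniteType ((O : Scheme.{u}) ↘ Spec (CommRingCat.of (S.residueField (g s')))) :=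
    show LocallyOfFiniteType (O.ι ≫ f.fiberToSpecResidueField (g s')) from
      haveI : LocallyOfFiniteType (f.fiberToSpecResidueField (g s')) :=
        inferInstanceAs (LocallyOfFiniteType (pullback.snd f (S.fromSpecResidueField (g s'))))
      inferInstance
  let c : (O' : Scheme.{u}) ⟶ (O : Scheme.{u}) :=
    IsOpenImmersion.lift O.ι (j₀ ≫ Ofst) (by rw [Scheme.Opens.range_ι]; exact le_rfl)
  have hc : c ≫ O.ι = j₀ ≫ Ofst := IsOpenImmersion.lift_fac _ _ _
  let bO := Curv2.bc (S.residueField (g s')) (O : Scheme.{u}) (S'.residueField s')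
  let j : (O' : Scheme.{u}) ⟶ bO := pullback.lift c (j₀ ≫ Curv2.bcSnd _ _ _) (by
    show c ≫ O.ι ≫ f.fiberToSpecResidueField (g s') = _
    rw [← Category.assoc, hc, Category.assoc, Category.assoc]
    exact congrArg (j₀ ≫ ·) pullback.condition)
  let mO : bO ⟶ B := pullback.map _ _ _ _ O.ι (𝟙 _) (𝟙 _)
    ((Category.comp_id _).trans rfl) ((Category.comp_id _).trans (Category.id_comp _).symm)
  have hjm : j ≫ mO = j₀ := by
    apply pullback.hom_ext
    · rw [Category.assoc, pullback.lift_fst, pullback.lift_fst_assoc, hc]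
    · rw [Category.assoc, pullback.lift_snd, pullback.lift_snd_assoc, Category.comp_id]
  haveI : IsOpenImmersion (j ≫ mO) := hjm ▸ inferInstance
  haveI : IsOpenImmersion mO := inferInstance
  haveI : IsOpenImmersion j := IsOpenImmersion.of_comp j mO
  letI : (O' : Scheme.{u}).Over (Spec (CommRingCat.of (S'.residueField s'))) :=
    ⟨O'.ι ≫ f'.fiberToSpecResidueField s'⟩
  have hgood := good_of_isNodalFamily f' W hW s'
  have hres := of_bc_open (S.residueField (g s')) (O : Scheme.{u}) (S'.residueField s')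
    (O' : Scheme.{u}) j (by
      rw [show j ≫ Curv2.bcSnd _ _ _ = j₀ ≫ Curv2.bcSnd _ _ _ from pullback.lift_snd _ _ _]
      show (O'.ι ≫ e.hom) ≫ _ = _
      rw [Category.assoc]
      exact congrArg (O'.ι ≫ ·) h.isoPullback_hom_snd)
    (fun o => by
      obtain ⟨z, hz⟩ := o.2
      refine ⟨z, O.ι.isOpenEmbedding.injective ?_⟩
      show ((j ≫ Curv2.bcFst _ _ _) ≫ O.ι) z = _
      rw [show j ≫ Curv2.bcFst _ _ _ = c from pullback.lift_fst _ _ _, hc]
      exact hz) hgood.1 hgood.2
  -- the point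
  have hy' : f'.asFiber y ∈ O' := by
    show f'.fiberι s' (f'.asFiber y) ∈ W
    rw [f'.fiberι_asFiber]
    exact hyW
  have hmem : ∃ z : f.fiber (g s'), z ∈ O ∧ f.fiberι (g s') z = x := by
    refine ⟨(j₀ ≫ Ofst) ⟨f'.asFiber y, hy'⟩, ⟨_, rfl⟩, ?_⟩
    show (e.hom ≫ Ofst ≫ f.fiberι (g s')) (f'.asFiber y) = x
    have h1 : e.hom ≫ Ofst ≫ f.fiberι (g s') = f'.fiberι s' ≫ pullback.fst f g :=
      (Category.assoc _ _ _).symm.trans ((congrArg (fun q : f'.fiber s' ⟶ f.fiber (g s') => q ≫ f.fiberι (g s'))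
        h.isoPullback_hom_fst).trans (pullback.lift_fst _ _ _))
    rw [h1]
    show pullback.fst f g (f'.fiberι s' (f'.asFiber y)) = x
    rw [f'.fiberι_asFiber]
  exact transfer f x (g s') hxs O hmem ⟨hres.1, hres.2⟩
where
  transfer {X S : Scheme.{u}} (f : X ⟶ S) [Flat f] [LocallyOfFinitePresentation f] (x : X) (s : S)
      (hs : f x = s) (O : (f.fiber s).Opens) (hm : ∃ z, z ∈ O ∧ f.fiberι s z = x)
      (hO : Good (S.residueField s) (O : Scheme.{u}) (O.ι ≫ f.fiberToSpecResidueField s)) :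
      IsNodalAt f x := by
    subst hs
    obtain ⟨z, hz, hzx⟩ := hm
    refine of_good f x O ?_ hO
    rwa [(f.fiberι (f x)).isEmbedding.injective ((f.fiberι_asFiber x).trans hzx.symm)]

end Groth.Agent.H25.Morse.Locus
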