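import Groth.Agent.H25.Node.Model
import Mathlib.RingTheory.Smooth.Basic
import Mathlib.RingTheory.Etale.Basic
import Mathlib.RingTheory.AdjoinRoot
import Mathlib.RingTheory.Localization.AtPrime.Basic
import Mathlib.RingTheory.Localization.Away.Basic
import Mathlib.FieldTheory.Separable

/-!
The algebra of `C[u,v]/(uv - h)`: free over `C[u+v]`, smooth where `u` or `v` is a unit,
a node at `u = v = 0` over a field.
-/

set_option autoImplicit false
set_option linter.style.haveILetI false
universe u

namespace Groth.Agent.H25.Morse.ModelAlg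

open IsLocalRing

variable {C : Type u} [CommRing C] (h : C)

/-- `C[u,v]/(uv - h)`. -/
abbrev M : Type u := MvPolynomial (Fin 2) C ⧸
  Ideal.span {(MvPolynomial.X 0 * MvPolynomial.X 1 - MvPolynomial.C h : MvPolynomial (Fin 2) C)}

/-- The coordinates. -/
noncomputable def gen (i : Fin 2) : M h := Ideal.Quotient.mk _ (MvPolynomial.X i)

theorem gen_mul : gen h 0 * gen h 1 = algebraMap C (M h) h := by
  show Ideal.Quotient.mk _ (MvPolynomial.X 0) * Ideal.Quotient.mk _ (MvPolynomial.X 1) =
    Ideal.Quotient.mk _ (MvPolynomial.C h)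
  rw [← map_mul]
  exact Ideal.Quotient.eq.2 (Ideal.mem_span_singleton_self _)

theorem hom_ext {T : Type*} [CommRing T] {f g : M h →+* T}
    (hC : ∀ r, f (algebraMap C _ r) = g (algebraMap C _ r)) (hX : ∀ i, f (gen h i) = g (gen h i)) :
    f = g :=
  Ideal.Quotient.ringHom_ext (MvPolynomial.ringHom_ext hC hX)

/-- Maps out of `C[u,v]/(uv - h)`. -/
noncomputable def lift {T : Type*} [CommRing T] (φ : C →+* T) (a b : T) (hab : a * b = φ h) :
    M h →+* T :=
  Ideal.Quotient.lift _ (MvPolynomial.eval₂Hom φ ![a, b]) fun z hz => by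
    obtain ⟨w, rfl⟩ := Ideal.mem_span_singleton'.1 hz
    rw [map_mul]
    exact mul_eq_zero_of_right _ (by simp [hab])

section

variable {T : Type*} [CommRing T] (φ : C →+* T) (a b : T) (hab : a * b = φ h)

@[simp]
theorem lift_gen (i : Fin 2) : lift h φ a b hab (gen h i) = ![a, b] i :=
  (Ideal.Quotient.lift_mk _ _ _).trans (MvPolynomial.eval₂Hom_X' _ _ i)

@[simp]
theorem lift_const (r : C) : lift h φ a b hab (algebraMap C _ r) = φ r :=
  (Ideal.Quotient.lift_mk _ _ _).trans (MvPolynomial.eval₂Hom_C _ _ r)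

end

section Finite

open Polynomial

/-- `u + v`. -/
noncomputable def φ : C[X] →ₐ[C] M h := Polynomial.aeval (gen h 0 + gen h 1)

/-- The equation of `u` over `C[u+v]`. -/
noncomputable def eqn : C[X][X] :=
  Polynomial.X ^ 2 - Polynomial.C Polynomial.X * Polynomial.X + Polynomial.C (Polynomial.C h)

theorem monic_eqn [Nontrivial C] : (eqn h).Monic := by
  unfold eqn; monicity!

theorem eval₂_eqn : (eqn h).eval₂ (φ h).toRingHom (gen h 0) = 0 := by
  simp only [eqn, eval₂_add, eval₂_sub, eval₂_pow, eval₂_mul, eval₂_X, eval₂_C]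
  simp only [φ, AlgHom.toRingHom_eq_coe, RingHom.coe_coe, aeval_X, aeval_C]
  rw [← gen_mul h]
  ring

theorem root_rel : AdjoinRoot.root (eqn h) * (AdjoinRoot.of (eqn h) Polynomial.X - AdjoinRoot.root (eqn h)) =
    ((AdjoinRoot.of (eqn h)).comp Polynomial.C) h := by
  have := AdjoinRoot.mk_self (f := eqn h)
  conv_lhs at this => arg 2; unfold eqn
  rw [map_add, map_sub, map_pow, map_mul, AdjoinRoot.mk_X, AdjoinRoot.mk_C, AdjoinRoot.mk_C] at this
  simp only [RingHom.comp_apply]
  linear_combination -this

/-- `C[u,v]/(uv-h) = C[w][u]/(u² - wu + h)`. -/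
noncomputable def adjoinEquiv : AdjoinRoot (eqn h) ≃+* M h :=
  RingEquiv.ofRingHom (AdjoinRoot.lift (φ h).toRingHom (gen h 0) (eval₂_eqn h))
    (lift h ((AdjoinRoot.of (eqn h)).comp Polynomial.C)
      (AdjoinRoot.root (eqn h)) (AdjoinRoot.of (eqn h) Polynomial.X - AdjoinRoot.root (eqn h))
      (root_rel h))
    (hom_ext h (fun r => by simp [φ]) (fun i => by fin_cases i <;> simp [φ]))
    (by
      refine RingHom.ext fun z => ?_
      induction z using AdjoinRoot.induction_on with
      | _ p =>
        induction p using Polynomial.induction_on' with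
        | add p q hp hq => simp only [map_add, hp, hq, RingHom.id_apply] at hp hq ⊢
        | monomial n a =>
          induction a using Polynomial.induction_on' with
          | add p q hp hq => simp only [map_add, hp, hq, RingHom.id_apply] at hp hq ⊢
          | monomial m r =>
            simp [← Polynomial.C_mul_X_pow_eq_monomial, φ, AdjoinRoot.mk_C, AdjoinRoot.mk_X])

theorem adjoinEquiv_of (p : C[X]) : adjoinEquiv h (AdjoinRoot.of (eqn h) p) = φ h p :=
  AdjoinRoot.lift_of (eval₂_eqn h)

theorem free_finite : letI := (φ h).toRingHom.toAlgebra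
    Module.Free C[X] (M h) ∧ Module.Finite C[X] (M h) := by
  letI := (φ h).toRingHom.toAlgebra
  rcases subsingleton_or_nontrivial C with hC | hC
  · haveI : Subsingleton (M h) := Module.subsingleton C _
    exact ⟨inferInstance, inferInstance⟩
  let e : AdjoinRoot (eqn h) ≃ₐ[C[X]] M h := AlgEquiv.ofRingEquiv (f := adjoinEquiv h) fun p => by
    rw [AdjoinRoot.algebraMap_eq]
    exact adjoinEquiv_of h p
  exact ⟨Module.Free.of_equiv (monic_eqn h).free_adjoinRoot.chooseBasis.repr.symm |>.of_equiv e.toLinearEquiv,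
    haveI := (monic_eqn h).finite_adjoinRoot; Module.Finite.equiv e.toLinearEquiv⟩

theorem flat : Module.Flat C (M h) := by
  letI := (φ h).toRingHom.toAlgebra
  haveI : IsScalarTower C C[X] (M h) := IsScalarTower.of_algHom (φ h)
  haveI := (free_finite h).1
  exact Module.Flat.trans C C[X] (M h)

theorem finitePresentation : Algebra.FinitePresentation C (M h) :=
  Algebra.FinitePresentation.quotient (Submodule.fg_span_singleton _)

end Finite

section FieldCase

variable {K : Type u} [Field K] (c : K)

/-- The open set where a coordinate is a unit is a punctured line. -/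
theorem smooth_away (i : Fin 2) : Algebra.Smooth K (Localization.Away (gen c i)) := by
  let x : Polynomial K := Polynomial.X
  let L := Localization.Away x
  let xi : L := IsLocalization.Away.invSelf x
  have hxi : algebraMap (Polynomial K) L x * xi = 1 := IsLocalization.Away.mul_invSelf x
  let t : Fin 2 → L := fun k => if k = i then algebraMap (Polynomial K) L x else algebraMap K L c * xi
  have ht : t 0 * t 1 = algebraMap K L c := by
    have : ∀ j : Fin 2, j = 0 ∨ j = 1 := by decide
    rcases this i with rfl | rfl <;> simp only [t, ↓reduceIte, Fin.reduceEq] <;>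
      linear_combination (algebraMap K L c) * hxi
  let f : M c →+* L := lift c (algebraMap K L) (t 0) (t 1) ht
  have hfgen : ∀ k, f (gen c k) = t k := fun k => by
    refine (lift_gen _ _ _ _ _ k).trans ?_
    fin_cases k <;> rfl
  have hfC : ∀ r, f (algebraMap K _ r) = algebraMap K L r := lift_const _ _ _ _ _
  have hf : IsUnit (f (gen c i)) := by
    rw [hfgen]
    simp only [t, if_pos]
    exact IsLocalization.map_units L ⟨x, Submonoid.mem_powers x⟩
  let N := Localization.Away (gen c i)
  let fwd : N →+* L := IsLocalization.Away.lift (gen c i) hf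
  let g₀ : Polynomial K →+* N := (Polynomial.aeval (algebraMap (M c) N (gen c i))).toRingHom
  have hg₀ : IsUnit (g₀ x) := by
    simp only [g₀, x, AlgHom.toRingHom_eq_coe, RingHom.coe_coe, Polynomial.aeval_X]
    exact IsLocalization.map_units N ⟨gen c i, Submonoid.mem_powers _⟩
  let bwd : L →+* N := IsLocalization.Away.lift x hg₀
  have hfwd : ∀ z, fwd (algebraMap (M c) N z) = f z := fun z => IsLocalization.Away.lift_eq _ hf z
  have hbwd : ∀ z, bwd (algebraMap (Polynomial K) L z) = g₀ z := fun z => IsLocalization.Away.lift_eq _ hg₀ z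
  have hK : ∀ r, fwd (algebraMap K N r) = algebraMap K L r := fun r => by
    rw [IsScalarTower.algebraMap_apply K (M c) N, hfwd]
    exact hfC r
  have hK' : ∀ r, bwd (algebraMap K L r) = algebraMap K N r := fun r => by
    rw [IsScalarTower.algebraMap_apply K (Polynomial K) L, hbwd]
    exact Polynomial.aeval_C _ r
  have hbxi : bwd xi * algebraMap (M c) N (gen c i) = 1 := by
    have h1 := congrArg bwd hxi
    rw [map_mul, map_one, hbwd] at h1
    rw [show g₀ x = algebraMap (M c) N (gen c i) from Polynomial.aeval_X _, mul_comm] at h1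
    exact h1
  have h1 : bwd.comp fwd = RingHom.id N := by
    refine IsLocalization.ringHom_ext (Submonoid.powers (gen c i)) (hom_ext c (fun r => ?_) fun k => ?_)
    · simp only [RingHom.comp_apply, RingHom.id_apply, hfwd, hfC]
      rw [hK' r, IsScalarTower.algebraMap_apply K (M c) N]
    · simp only [RingHom.comp_apply, RingHom.id_apply, hfwd, hfgen, t]
      by_cases hk : k = i
      · subst hk
        rw [if_pos rfl, hbwd]
        simp [g₀, x]
      · rw [if_neg hk, map_mul, hK']
        have h2 : algebraMap (M c) N (gen c i) * algebraMap (M c) N (gen c k) = algebraMap K N c := by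
          rw [IsScalarTower.algebraMap_apply K (M c) N, ← gen_mul c, ← map_mul]
          congr 1
          have : ∀ j : Fin 2, j = 0 ∨ j = 1 := by decide
          rcases this i with rfl | rfl <;> rcases this k with rfl | rfl <;>
            first | (exact absurd rfl hk) | rfl | exact mul_comm _ _
        rw [← h2]
        linear_combination (algebraMap (M c) N (gen c k)) * hbxi
  have h2 : fwd.comp bwd = RingHom.id L := by
    refine IsLocalization.ringHom_ext (Submonoid.powers x) (Polynomial.ringHom_ext (fun r => ?_) ?_)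
    · simp [hbwd, g₀, hK]
      rfl
    · simp [hbwd, g₀, hfwd, hfgen, t, x]
  let e : L ≃ₐ[K] N := AlgEquiv.ofRingEquiv (f := RingEquiv.ofRingHom bwd fwd h1 h2) hK'
  haveI : Algebra.Smooth K (Polynomial K) := ⟨inferInstance, inferInstance⟩
  haveI : Algebra.Etale (Polynomial K) L := Algebra.Etale.of_isLocalizationAway x
  haveI : Algebra.Smooth K L := Algebra.Smooth.comp K (Polynomial K) L
  exact Algebra.Smooth.of_equiv e

/-- Every element is a constant modulo the coordinates. -/
theorem exists_const (z : M c) : ∃ k : K, z - algebraMap K _ k ∈ Ideal.span {gen c 0, gen c 1} := by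
  obtain ⟨p, rfl⟩ := Ideal.Quotient.mk_surjective z
  induction p using MvPolynomial.induction_on with
  | C a =>
    refine ⟨a, ?_⟩
    show Ideal.Quotient.mk _ (MvPolynomial.C a) - Ideal.Quotient.mk _ (MvPolynomial.C a) ∈ _
    rw [sub_self]
    exact zero_mem _
  | add p q hp hq =>
    obtain ⟨a, ha⟩ := hp
    obtain ⟨b, hb⟩ := hq
    exact ⟨a + b, by convert add_mem ha hb using 1; simp only [map_add]; ring⟩
  | mul_X p i _ =>
    refine ⟨0, ?_⟩
    rw [map_zero, sub_zero, map_mul]
    refine Ideal.mul_mem_left _ _ (Ideal.subset_span ?_)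
    fin_cases i <;> simp [gen]

/-- The point `u = v = 0`. -/
theorem singular_point (P : Ideal (M c)) [P.IsPrime] (h0 : gen c 0 ∈ P) (h1 : gen c 1 ∈ P) :
    c = 0 ∧ P = Ideal.span {gen c 0, gen c 1} := by
  have hle : Ideal.span {gen c 0, gen c 1} ≤ P := Ideal.span_le.2 (by rintro _ (rfl | rfl) <;> assumption)
  have hk : ∀ k : K, algebraMap K (M c) k ∈ P → k = 0 := fun k hk => by
    by_contra hne
    exact Ideal.IsPrime.ne_top ‹_› (Ideal.eq_top_of_isUnit_mem _ hk ((Ne.isUnit hne).map _))
  refine ⟨hk c (gen_mul c ▸ P.mul_mem_right _ h0), le_antisymm (fun z hz => ?_) hle⟩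
  obtain ⟨k, hkz⟩ := exists_const c z
  have : algebraMap K (M c) k ∈ P := by simpa using P.sub_mem hz (hle hkz)
  rw [hk k this, map_zero, sub_zero] at hkz
  exact hkz

/-- The local ring at `u = v = 0` is nodal. -/
theorem node_local (P : Ideal (M c)) [P.IsPrime] (h0 : gen c 0 ∈ P) (h1 : gen c 1 ∈ P)
    (A : Type u) [CommRing A] [IsLocalRing A] [Algebra (M c) A] [IsLocalization.AtPrime A P]
    [Algebra K A] [IsScalarTower K (M c) A] :
    Algebra.IsSeparable K (ResidueField A) ∧ Node.IsNodal A := by
  obtain ⟨hc, hP⟩ := singular_point c P h0 h1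
  set a := algebraMap (M c) A
  have hmax : maximalIdeal A = Ideal.span {a (gen c 0), a (gen c 1)} := by
    rw [← IsLocalization.AtPrime.map_eq_maximalIdeal P A, hP, Ideal.map_span, Set.image_pair]
  have hres : ∀ z : M c, ∃ k : K, residue A (a z) = algebraMap K (ResidueField A) k := by
    intro z
    obtain ⟨k, hk⟩ := exists_const c z
    refine ⟨k, ?_⟩
    have h2 := Ideal.mem_map_of_mem a hk
    rw [Ideal.map_span, Set.image_pair, ← hmax, map_sub] at h2
    rw [← sub_eq_zero, IsScalarTower.algebraMap_apply K A (ResidueField A),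
      IsScalarTower.algebraMap_apply K (M c) A]
    show residue A (a z) - residue A (a _) = 0
    rw [← map_sub, residue_eq_zero_iff]
    exact h2
  have hsurj : Function.Surjective (algebraMap K (ResidueField A)) := fun w => by
    obtain ⟨w, rfl⟩ := residue_surjective w
    obtain ⟨z, s, rfl⟩ := IsLocalization.exists_mk'_eq P.primeCompl w
    obtain ⟨k, hk⟩ := hres z
    obtain ⟨l, hl⟩ := hres (s : M c)
    have hs : residue A (a s) ≠ 0 := fun e => by
      rw [residue_eq_zero_iff] at e
      exact (mem_maximalIdeal _).1 e (IsLocalization.map_units A s)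
    refine ⟨k / l, ?_⟩
    rw [map_div₀, ← hk, ← hl, div_eq_iff hs, ← map_mul]
    exact congrArg _ (IsLocalization.mk'_spec A z s).symm
  refine ⟨⟨fun w => by obtain ⟨k, rfl⟩ := hsurj w; exact isSeparable_algebraMap k⟩, ?_⟩
  let v : Fin 3 → K := ![0, 1, 0]
  let N := Node.Model.Model K v
  have hmul : (Ideal.Quotient.mk (Ideal.span {Node.Model.form K v}) (MvPowerSeries.X 0) : N) *
      Ideal.Quotient.mk _ (MvPowerSeries.X 1) = algebraMap K N c := by
    rw [hc, map_zero, ← map_mul, Ideal.Quotient.eq_zero_iff_mem]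
    exact Ideal.mem_span_singleton.2 (by simp [Node.Model.form, Node.quad, v])
  let ψ : M c →+* N := lift c (algebraMap K N)
    (Ideal.Quotient.mk _ (MvPowerSeries.X 0)) (Ideal.Quotient.mk _ (MvPowerSeries.X 1)) hmul
  have hψ0 : ψ (gen c 0) = Ideal.Quotient.mk _ (MvPowerSeries.X 0) := lift_gen _ _ _ _ _ 0
  have hψ1 : ψ (gen c 1) = Ideal.Quotient.mk _ (MvPowerSeries.X 1) := lift_gen _ _ _ _ _ 1
  have hψC : ∀ k, ψ (algebraMap K _ k) = algebraMap K N k := lift_const _ _ _ _ _
  have hψP : ∀ z ∈ P, ψ z ∈ maximalIdeal N := fun z hz => by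
    rw [hP] at hz
    have := Ideal.mem_map_of_mem ψ hz
    rw [Ideal.map_span, Set.image_pair] at this
    rw [hψ0, hψ1, Node.Model.span_xy] at this
    exact this
  have hψu : ∀ s : P.primeCompl, IsUnit (ψ s) := fun s => by
    obtain ⟨k, hk⟩ := exists_const c (s : M c)
    have hk' : (s : M c) - algebraMap K (M c) k ∈ P := hP ▸ hk
    have hk0 : k ≠ 0 := fun e => s.2 (by simpa [e] using hk')
    have h3 := hψP _ hk'
    rw [map_sub] at h3
    by_contra hu
    have h4 := sub_mem ((mem_maximalIdeal _).2 hu) h3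
    rw [sub_sub_cancel, hψC] at h4
    exact (mem_maximalIdeal _).1 h4 ((Ne.isUnit hk0).map _)
  let Ψ : A →+* N := IsLocalization.lift hψu
  have hΨ : ∀ z, Ψ (a z) = ψ z := IsLocalization.lift_eq hψu
  have hxy : Ψ (a (gen c 0)) = Ideal.Quotient.mk _ (MvPowerSeries.X 0) ∧
      Ψ (a (gen c 1)) = Ideal.Quotient.mk _ (MvPowerSeries.X 1) := by
    exact ⟨(hΨ _).trans hψ0, (hΨ _).trans hψ1⟩
  have happrox : ∀ (j : ℕ) (z : N), ∃ r : A, z - Ψ r ∈ maximalIdeal N ^ j := by
    intro j
    induction j with
    | zero => exact fun z => ⟨0, by simp⟩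
    | succ j ih =>
      intro z
      obtain ⟨k, hk⟩ := Node.Model.residue_surjective K v (residue N z)
      have h3 : z - algebraMap K N k ∈ maximalIdeal N := by
        rw [← residue_eq_zero_iff, map_sub, ← hk]
        exact sub_self _
      rw [← Node.Model.span_xy K v, Ideal.mem_span_pair] at h3
      obtain ⟨p, q, hpq⟩ := h3
      obtain ⟨rp, hrp⟩ := ih p
      obtain ⟨rq, hrq⟩ := ih q
      refine ⟨algebraMap K A k + rp * a (gen c 0) + rq * a (gen c 1), ?_⟩
      have e : z - Ψ (algebraMap K A k + rp * a (gen c 0) + rq * a (gen c 1)) =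
          (p - Ψ rp) * Ψ (a (gen c 0)) + (q - Ψ rq) * Ψ (a (gen c 1)) := by
        rw [map_add, map_add, map_mul, map_mul, IsScalarTower.algebraMap_apply K (M c) A, hΨ (algebraMap K _ k),
          hψC, hxy.1, hxy.2]
        linear_combination -hpq
      rw [e, pow_succ, hxy.1, hxy.2]
      refine add_mem (Ideal.mul_mem_mul hrp ?_) (Ideal.mul_mem_mul hrq ?_) <;>
        rw [← Node.Model.span_xy K v] <;> exact Ideal.subset_span (by simp)
  have hm : (maximalIdeal A).map Ψ ≤ maximalIdeal N := by
    rw [hmax, Ideal.map_span, Set.image_pair, hxy.1, hxy.2, Node.Model.span_xy]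
  have hv : Node.disc v ≠ 0 := by simp [Node.disc, v]
  refine Node.IsNodal.of_le (x := a (gen c 0)) (y := a (gen c 1)) hmax.symm (v := ![0, 1, 0]) ?_ ?_ fun n => ?_
  · suffices h2 : Node.quad ![0, 1, 0] (a (gen c 0)) (a (gen c 1)) = 0 by rw [h2]; exact zero_mem _
    simp [Node.quad, ← map_mul, gen_mul, hc]
  · simp [Node.disc]
  · rw [← (Node.Model.isNodal (K := K) (v := v) hv).length n]
    let Q := N ⧸ maximalIdeal N ^ (n + 1)
    let f : A →+* Q := (Ideal.Quotient.mk _).comp Ψ
    letI : Algebra A Q := RingHom.toAlgebra (S := Q) f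
    have hfs : Function.Surjective (algebraMap A Q) := fun q => by
      obtain ⟨z, rfl⟩ := Ideal.Quotient.mk_surjective q
      obtain ⟨r, hr⟩ := happrox (n + 1) z
      exact ⟨r, (Ideal.Quotient.eq.2 hr).symm⟩
    have hker : maximalIdeal A ^ (n + 1) ≤ RingHom.ker f := fun r hr => by
      have h5 : Ψ r ∈ maximalIdeal N ^ (n + 1) :=
        Ideal.pow_right_mono hm _ (Ideal.map_pow Ψ (maximalIdeal A) (n + 1) ▸ Ideal.mem_map_of_mem Ψ hr)
      exact Ideal.Quotient.eq_zero_iff_mem.2 h5
    let L : (A ⧸ maximalIdeal A ^ (n + 1)) →ₗ[A] Q :=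
      (Ideal.Quotient.liftₐ (maximalIdeal A ^ (n + 1)) (Algebra.ofId A Q) hker).toLinearMap
    have hL : Function.Surjective L := fun q => by
      obtain ⟨r, rfl⟩ := hfs q
      exact ⟨Ideal.Quotient.mk _ r, rfl⟩
    calc Module.length N Q = Module.length Q Q :=
          Module.length_eq_of_surjective Ideal.Quotient.mk_surjective
      _ = Module.length A Q := (Module.length_eq_of_surjective hfs).symm
      _ ≤ _ := Module.length_le_of_surjective L hL

end FieldCase

end Groth.Agent.H25.Morse.ModelAlg
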