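import Groth.Agent.H25.Morse.EtaleLocal
import Groth.Agent.H25.Node.FibreStalk
import Groth.Agent.H25.Node.Scheme
import Mathlib.AlgebraicGeometry.Morphisms.Etale
import Mathlib.AlgebraicGeometry.Pullbacks

/-!
Étale local structure of a nodal family at a node: scheme form.
-/

set_option autoImplicit false
set_option linter.style.haveILetI false
universe u

open CategoryTheory CategoryTheory.Limits AlgebraicGeometry IsLocalRing

namespace Groth.Agent.H25.Morse.SchemeLocal

theorem hom_ext_int {T : Type u} [CommRing T] (f g : ULift.{u} ℤ →+* T) : f = g := by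
  refine RingHom.ext fun n => ?_
  have h := RingHom.congr_fun (RingHom.ext_int (f.comp ULift.ringEquiv.symm.toRingHom)
    (g.comp ULift.ringEquiv.symm.toRingHom)) n.down
  exact h

theorem hom_ext_poly {σ : Type} {T : Type u} [CommRing T] (f g : MvPolynomial σ (ULift.{u} ℤ) →+* T)
    (h : ∀ i, f (MvPolynomial.X i) = g (MvPolynomial.X i)) : f = g :=
  MvPolynomial.ringHom_ext
    (fun r => RingHom.congr_fun (hom_ext_int (f.comp MvPolynomial.C) (g.comp MvPolynomial.C)) r) h

/-- The fibre local ring at a node, with what the algebra needs. -/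
theorem exists_etaleLocal {X S : Scheme.{u}} (f : X ⟶ S) [Flat f] [LocallyOfFinitePresentation f] (x : X)
    (hx : @Curv2.IsNode (S.residueField (f x)) _ (f.fiber (f x))
      ⟨f.fiberToSpecResidueField (f x)⟩ (f.asFiber x))
    {V : S.Opens} (hV : IsAffineOpen V) {U : X.Opens} (hU : IsAffineOpen U) (e : U ≤ f ⁻¹ᵁ V)
    (hxU : x ∈ U) :
    ∃ (C : Type u) (_ : CommRing C) (iRC : Algebra Γ(S, V) C) (_ : @Algebra.Etale Γ(S, V) C _ _ iRC) (h : C)
      (T : Type u) (_ : CommRing T) (g : Γ(X, U) →+* T)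
      (ε : (MvPolynomial (Fin 2) C ⧸ Ideal.span
        {(MvPolynomial.X 0 * MvPolynomial.X 1 - MvPolynomial.C h : MvPolynomial (Fin 2) C)}) →+* T)
      (Q : Ideal T) (_ : Q.IsPrime),
      g.Etale ∧ ε.Etale ∧ Q.comap g = (hU.primeIdealOf ⟨x, hxU⟩).asIdeal ∧
      ∀ r, g ((f.appLE V U e).hom r) = ε (Ideal.Quotient.mk _ (MvPolynomial.C (@algebraMap _ C _ _ iRC r))) := by
  letI : (f.fiber (f x)).Over (Spec (CommRingCat.of (S.residueField (f x)))) :=
    ⟨f.fiberToSpecResidueField (f x)⟩
  letI := Curv2.stalkAlgebra (S.residueField (f x)) (f.fiber (f x)) (f.asFiber x)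
  haveI : LocallyOfFiniteType (f.fiber (f x) ↘ Spec (CommRingCat.of (S.residueField (f x)))) :=
    show LocallyOfFiniteType (pullback.snd f (S.fromSpecResidueField (f x))) from inferInstance
  obtain ⟨hcl, hsep, hnod⟩ := (Node.Sch.isNode_iff _ _ _).1 hx
  obtain ⟨φ, hφ, hkerφ, hφr⟩ :=
    Node.FibreStalk.exists_stalkHom f (f x) (f.asFiber x) x (f.fiberι_asFiber x) rfl
  let N := (f.fiber (f x)).presheaf.stalk (f.asFiber x)
  let gX : Γ(X, U) →+* X.presheaf.stalk x := (X.presheaf.germ U x hxU).hom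
  let gS : Γ(S, V) →+* S.presheaf.stalk (f x) := (S.presheaf.germ V (f x) (e hxU)).hom
  have hgerm : ∀ r, gX ((f.appLE V U e).hom r) = (f.stalkMap x).hom (gS r) := by
    intro r
    show (f.appLE V U e ≫ X.presheaf.germ U x hxU).hom r = (S.presheaf.germ V (f x) (e hxU) ≫ f.stalkMap x).hom r
    rw [Scheme.Hom.germ_stalkMap, Scheme.Hom.appLE, Category.assoc, X.presheaf.germ_res]
  letI : Algebra Γ(X, U) (X.presheaf.stalk x) := gX.toAlgebra
  letI : Algebra Γ(S, V) (S.presheaf.stalk (f x)) := gS.toAlgebra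
  set q := (hU.primeIdealOf ⟨x, hxU⟩).asIdeal
  set p := (hV.primeIdealOf ⟨f x, e hxU⟩).asIdeal
  haveI : IsLocalization.AtPrime (X.presheaf.stalk x) q := hU.isLocalization_stalk ⟨x, hxU⟩
  haveI : IsLocalization.AtPrime (S.presheaf.stalk (f x)) p := hV.isLocalization_stalk ⟨f x, e hxU⟩
  letI : Algebra Γ(S, V) Γ(X, U) := (f.appLE V U e).hom.toAlgebra
  haveI : Algebra.FinitePresentation Γ(S, V) Γ(X, U) := f.finitePresentation_appLE hV hU e
  haveI : Module.Flat Γ(S, V) Γ(X, U) := f.flat_appLE hV hU e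
  letI : Algebra Γ(X, U) N := (φ.comp gX).toAlgebra
  letI : Algebra Γ(S, V) N := ((φ.comp gX).comp (f.appLE V U e).hom).toAlgebra
  haveI : IsScalarTower Γ(S, V) Γ(X, U) N := IsScalarTower.of_algebraMap_eq fun _ => rfl
  have hκ : ∀ r : Γ(S, V), algebraMap Γ(S, V) N r =
      Curv2.stalkMap (S.residueField (f x)) (f.fiber (f x)) (f.asFiber x) ((S.residue (f x)).hom (gS r)) := by
    intro r
    rw [hφr, TopCat.Presheaf.stalkSpecializes_refl]
    show φ (gX ((f.appLE V U e).hom r)) = φ ((f.stalkMap x).hom (gS r))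
    rw [hgerm]
  -- the residue field of `p`
  let res : Γ(S, V) →+* S.residueField (f x) := (S.residue (f x)).hom.comp gS
  have hresp : ∀ r, res r = 0 ↔ r ∈ p := fun r => by
    show IsLocalRing.residue (S.presheaf.stalk (f x)) (algebraMap Γ(S, V) (S.presheaf.stalk (f x)) r) = 0 ↔ _
    rw [residue_eq_zero_iff]
    exact SetLike.ext_iff.1 (IsLocalization.AtPrime.comap_maximalIdeal (S.presheaf.stalk (f x)) p) r
  let j : p.ResidueField →+* S.residueField (f x) := Ideal.ResidueField.lift p res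
    (fun r hr => (hresp r).2 hr) (fun r hr => Ne.isUnit fun h => hr ((hresp r).1 h))
  have hj : ∀ r, j (algebraMap Γ(S, V) p.ResidueField r) = res r :=
    fun r => Ideal.ResidueField.lift_algebraMap (I := p) res _ _ r
  have hjs : Function.Surjective j := fun c => by
    obtain ⟨c, rfl⟩ := IsLocalRing.residue_surjective (R := S.presheaf.stalk (f x)) c
    obtain ⟨r, s, rfl⟩ := IsLocalization.exists_mk'_eq p.primeCompl c
    have hs : res s ≠ 0 := fun h => s.2 ((hresp _).1 h)
    refine ⟨algebraMap _ _ r / algebraMap _ _ (s : Γ(S, V)), ?_⟩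
    rw [map_div₀, hj, hj, div_eq_iff hs]
    show (S.residue (f x)).hom (gS r) = (S.residue (f x)).hom _ * (S.residue (f x)).hom (gS s)
    rw [← map_mul]
    exact congrArg _ (IsLocalization.mk'_spec _ r s).symm
  letI : Algebra p.ResidueField N :=
    ((Curv2.stalkMap (S.residueField (f x)) (f.fiber (f x)) (f.asFiber x)).comp j).toAlgebra
  haveI : IsScalarTower Γ(S, V) p.ResidueField N := IsScalarTower.of_algebraMap_eq fun r => by
    rw [hκ]
    show _ = Curv2.stalkMap (S.residueField (f x)) (f.fiber (f x)) (f.asFiber x) (j _)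
    rw [hj]
    rfl
  haveI : Algebra.IsSeparable p.ResidueField (ResidueField N) := by
    haveI := hsep
    exact Algebra.IsSeparable.of_equiv_equiv (RingEquiv.ofBijective j ⟨j.injective, hjs⟩).symm
      (RingEquiv.refl (ResidueField N)) (RingHom.ext fun c => by
        show residue N (Curv2.stalkMap (S.residueField (f x)) (f.fiber (f x)) (f.asFiber x)
          (j ((RingEquiv.ofBijective j ⟨j.injective, hjs⟩).symm c))) = residue N (Curv2.stalkMap _ _ _ c)
        rw [show j ((RingEquiv.ofBijective j ⟨j.injective, hjs⟩).symm c) = c from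
          (RingEquiv.ofBijective j ⟨j.injective, hjs⟩).apply_symm_apply c])
  haveI : IsLocalHom φ := IsLocalHom.of_surjective φ hφ
  have hcomap : (maximalIdeal N).comap (algebraMap Γ(X, U) N) = q := by
    show (maximalIdeal N).comap (φ.comp gX) = q
    rw [← Ideal.comap_comap, IsLocalRing.maximalIdeal_comap φ]
    exact IsLocalization.AtPrime.comap_maximalIdeal (X.presheaf.stalk x) q
  have hsurj : ∀ z : N, ∃ b t : Γ(X, U), IsUnit (algebraMap Γ(X, U) N t) ∧
      z * algebraMap Γ(X, U) N t = algebraMap Γ(X, U) N b := by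
    intro z
    obtain ⟨z, rfl⟩ := hφ z
    obtain ⟨⟨b, t⟩, h⟩ := IsLocalization.surj q.primeCompl z
    refine ⟨b, t, (IsLocalization.map_units (X.presheaf.stalk x) t).map φ, ?_⟩
    show φ z * φ (gX t) = φ (gX b)
    rw [← map_mul]
    exact congrArg φ h
  have hker : ∀ b : Γ(X, U), algebraMap Γ(X, U) N b = 0 → ∃ t : Γ(X, U),
      IsUnit (algebraMap Γ(X, U) N t) ∧ t * b ∈ p.map (algebraMap Γ(S, V) Γ(X, U)) := by
    intro b hb
    have h1 : gX b ∈ (p.map (algebraMap Γ(S, V) Γ(X, U))).map (algebraMap Γ(X, U) (X.presheaf.stalk x)) := by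
      have h0 : gX b ∈ RingHom.ker φ := hb
      rw [hkerφ, ← IsLocalization.AtPrime.map_eq_maximalIdeal p (S.presheaf.stalk (f x)), Ideal.map_map] at h0
      rw [Ideal.map_map]
      have he : (f.stalkMap x).hom.comp (algebraMap Γ(S, V) (S.presheaf.stalk (f x))) =
          (algebraMap Γ(X, U) (X.presheaf.stalk x)).comp (algebraMap Γ(S, V) Γ(X, U)) :=
        RingHom.ext fun r => (hgerm r).symm
      rwa [he] at h0
    obtain ⟨⟨⟨y, hy⟩, s⟩, hs⟩ := (IsLocalization.mem_map_algebraMap_iff q.primeCompl _).1 h1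
    obtain ⟨s', hs'⟩ := (IsLocalization.eq_iff_exists q.primeCompl (X.presheaf.stalk x)).1
      (show algebraMap Γ(X, U) (X.presheaf.stalk x) (b * s) = algebraMap _ _ y by rw [map_mul]; exact hs)
    refine ⟨(s' * s : q.primeCompl), (IsLocalization.map_units (X.presheaf.stalk x) (s' * s)).map φ, ?_⟩
    convert Ideal.mul_mem_left _ (s' : Γ(X, U)) hy using 1
    rw [← hs', Submonoid.coe_mul]
    ring
  obtain ⟨C, iC, iRC, hC, h, T, iT, g, ε, Q, hQ, hg, hε, hQg, hr⟩ :=
    EtaleLocal.exists_etaleLocal p hsurj hker hnod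
  exact ⟨C, iC, iRC, hC, h, T, iT, g, ε, Q, hQ, hg, hε, hQg.trans hcomap, hr⟩

/-- The coordinate ring of the universal node. -/
abbrev UNode : Type u := MvPolynomial (Fin 3) (ULift.{u} ℤ) ⧸
  Ideal.span {(MvPolynomial.X 0 * MvPolynomial.X 1 - MvPolynomial.X 2 : MvPolynomial (Fin 3) (ULift.{u} ℤ))}

/-- The map from the universal node to `uv = h`. -/
noncomputable def nodeHom {C : Type u} [CommRing C] (h : C) :
    UNode.{u} →+* MvPolynomial (Fin 2) C ⧸ Ideal.span
      {(MvPolynomial.X 0 * MvPolynomial.X 1 - MvPolynomial.C h : MvPolynomial (Fin 2) C)} :=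
  Ideal.Quotient.lift _
    (MvPolynomial.eval₂Hom ((Int.castRingHom _).comp ULift.ringEquiv.toRingHom)
      ![Ideal.Quotient.mk _ (MvPolynomial.X 0), Ideal.Quotient.mk _ (MvPolynomial.X 1),
        Ideal.Quotient.mk _ (MvPolynomial.C h)])
    (fun a ha => by
      obtain ⟨w, rfl⟩ := Ideal.mem_span_singleton'.1 ha
      have : Ideal.Quotient.mk (Ideal.span {(MvPolynomial.X 0 * MvPolynomial.X 1 - MvPolynomial.C h :
          MvPolynomial (Fin 2) C)}) (MvPolynomial.X 0 * MvPolynomial.X 1 - MvPolynomial.C h) = 0 :=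
        Ideal.Quotient.eq_zero_iff_mem.2 (Ideal.mem_span_singleton_self _)
      rw [map_sub, map_mul] at this
      rw [map_mul]
      refine mul_eq_zero_of_right _ ?_
      simpa using this)

@[simp]
theorem nodeHom_mk_X {C : Type u} [CommRing C] (h : C) (i : Fin 3) :
    nodeHom h (Ideal.Quotient.mk _ (MvPolynomial.X i)) =
      ![Ideal.Quotient.mk _ (MvPolynomial.X 0), Ideal.Quotient.mk _ (MvPolynomial.X 1),
        Ideal.Quotient.mk _ (MvPolynomial.C h)] i :=
  (Ideal.Quotient.lift_mk _ _ _).trans (MvPolynomial.eval₂Hom_X' _ _ i)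

/-- The universal node pulls back to `uv = h`. -/
theorem isPushout_node {C : Type u} [CommRing C] (h : C) :
    IsPushout (CommRingCat.ofHom ((Ideal.Quotient.mk (Ideal.span
          {(MvPolynomial.X 0 * MvPolynomial.X 1 - MvPolynomial.X 2 : MvPolynomial (Fin 3) (ULift.{u} ℤ))})).comp
        (MvPolynomial.aeval (fun _ : Fin 1 => (MvPolynomial.X 2 : MvPolynomial (Fin 3) (ULift.{u} ℤ)))).toRingHom))
      (CommRingCat.ofHom (MvPolynomial.eval₂Hom ((Int.castRingHom C).comp ULift.ringEquiv.toRingHom) (fun _ : Fin 1 => h)))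
      (CommRingCat.ofHom (R := UNode.{u}) (nodeHom h))
      (CommRingCat.ofHom ((Ideal.Quotient.mk (Ideal.span
        {(MvPolynomial.X 0 * MvPolynomial.X 1 - MvPolynomial.C h : MvPolynomial (Fin 2) C)})).comp MvPolynomial.C)) := by
  refine IsPushout.of_isColimit' ⟨?_⟩ (PushoutCocone.IsColimit.mk _
    (fun s => CommRingCat.ofHom (Ideal.Quotient.lift _
      (MvPolynomial.eval₂Hom s.inr.hom
        ![s.inl.hom (Ideal.Quotient.mk _ (MvPolynomial.X 0)), s.inl.hom (Ideal.Quotient.mk _ (MvPolynomial.X 1))])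
      ?_)) ?_ ?_ ?_)
  · apply CommRingCat.hom_ext
    refine hom_ext_poly _ _ fun i => ?_
    simp
  · intro a ha
    obtain ⟨w, rfl⟩ := Ideal.mem_span_singleton'.1 ha
    have h1 := RingHom.congr_fun (congrArg CommRingCat.Hom.hom s.condition) (MvPolynomial.X 0)
    have h2 : Ideal.Quotient.mk (Ideal.span {(MvPolynomial.X 0 * MvPolynomial.X 1 - MvPolynomial.X 2 :
        MvPolynomial (Fin 3) (ULift.{u} ℤ))}) (MvPolynomial.X 2) =
        Ideal.Quotient.mk _ (MvPolynomial.X 0) * Ideal.Quotient.mk _ (MvPolynomial.X 1) := by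
      rw [← map_mul]
      exact (Ideal.Quotient.eq.2 (Ideal.mem_span_singleton_self _)).symm
    simp [h2] at h1
    simp [h1]
  · intro s
    apply CommRingCat.hom_ext
    refine Ideal.Quotient.ringHom_ext (hom_ext_poly _ _ fun i => ?_)
    fin_cases i
    · simp
    · simp
    · have h1 := RingHom.congr_fun (congrArg CommRingCat.Hom.hom s.condition) (MvPolynomial.X 0)
      simp at h1
      simp [h1]
  · intro s
    apply CommRingCat.hom_ext
    refine RingHom.ext fun c => ?_
    simp
  · intro s m h1 h2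
    apply CommRingCat.hom_ext
    refine Ideal.Quotient.ringHom_ext (MvPolynomial.ringHom_ext (fun c => ?_) fun i => ?_)
    · have := RingHom.congr_fun (congrArg CommRingCat.Hom.hom h2) c
      simp at this
      simp [this]
    · fin_cases i
      · have := RingHom.congr_fun (congrArg CommRingCat.Hom.hom h1) (Ideal.Quotient.mk _ (MvPolynomial.X 0))
        simp at this
        simp [this]
      · have := RingHom.congr_fun (congrArg CommRingCat.Hom.hom h1) (Ideal.Quotient.mk _ (MvPolynomial.X 1))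
        simp at this
        simp [this]

end Groth.Agent.H25.Morse.SchemeLocal
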