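import Groth.Agent.H25.Morse.ModelAlg
import Groth.Agent.H25.Morse.SchemeLocal
import Groth.Agent.H25.Node.Invariance
import Groth.Agent.H25.Node.Dim
import Mathlib.RingTheory.KrullDimension.Polynomial

/-!
`Spec C[u,v]/(uv - h) ⟶ Spec C` is a nodal family.
-/

set_option autoImplicit false
set_option linter.style.haveILetI false
universe u

open CategoryTheory CategoryTheory.Limits AlgebraicGeometry IsLocalRing

attribute [local instance] Curv2.stalkAlgebra

namespace Groth.Agent.H25.Morse.ModelCurve

open ModelAlg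

variable {C : Type u} [CommRing C] (h : C)

/-- The structure map. -/
noncomputable abbrev str : Spec (CommRingCat.of (M h)) ⟶ Spec (CommRingCat.of C) :=
  Spec.map (CommRingCat.ofHom (algebraMap C (M h)))

instance flat_str : Flat (str h) := by
  rw [Flat.SpecMap_iff]
  exact RingHom.flat_algebraMap_iff.2 (ModelAlg.flat h)

instance lfp_str : LocallyOfFinitePresentation (str h) := by
  rw [HasRingHomProperty.Spec_iff (P := @LocallyOfFinitePresentation)]
  exact RingHom.finitePresentation_algebraMap.2 (ModelAlg.finitePresentation h)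

theorem comps_line (K : Type u) [Field K] :
    ∀ Z ∈ irreducibleComponents (Spec (CommRingCat.of (Polynomial K)) : Type u),
      topologicalKrullDim Z = 1 := by
  intro Z hZ
  rw [irreducibleComponents_eq_singleton] at hZ
  subst hZ
  rw [IsHomeomorph.topologicalKrullDim_eq _ (Homeomorph.Set.univ _).isHomeomorph]
  show topologicalKrullDim (PrimeSpectrum (Polynomial K)) = 1
  rw [PrimeSpectrum.topologicalKrullDim_eq_ringKrullDim, Polynomial.ringKrullDim_of_isNoetherianRing,
    ringKrullDim_eq_zero_of_field]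
  rfl

theorem germ_specMap {R S : CommRingCat.{u}} (g : R ⟶ S) (P : Spec S)
    (e : (⊤ : (Spec S).Opens) ≤ (Spec.map g) ⁻¹ᵁ ⊤) :
    (Scheme.ΓSpecIso R).inv ≫ (Spec.map g).appLE ⊤ ⊤ e ≫ (Spec S).presheaf.germ ⊤ P trivial =
      g ≫ (Scheme.ΓSpecIso S).inv ≫ (Spec S).presheaf.germ ⊤ P trivial := by
  simp only [Scheme.Hom.appLE, Category.assoc]
  erw [TopCat.Presheaf.germ_res]
  rw [← Category.assoc g, Scheme.ΓSpecIso_inv_naturality, Category.assoc]
  rfl

variable {K : Type u} [Field K] (c : K)

theorem comps_one :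
    ∀ Z ∈ irreducibleComponents (Spec (CommRingCat.of (M c)) : Type u), topologicalKrullDim Z = 1 := by
  let π : Spec (CommRingCat.of (M c)) ⟶ Spec (CommRingCat.of (Polynomial K)) :=
    Spec.map (CommRingCat.ofHom (φ c).toRingHom)
  letI := (φ c).toRingHom.toAlgebra
  obtain ⟨hfree, hfin⟩ := free_finite c
  haveI := hfree
  haveI : IsFinite π := (IsFinite.SpecMap_iff _).2 (RingHom.finite_algebraMap.2 hfin)
  haveI : Flat π := Flat.SpecMap_iff.2 (RingHom.flat_algebraMap_iff.2 inferInstance)
  refine Node.Dim.comps_one_of_map π (comps_line K) fun y hy => ?_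
  have := π.isClosedMap _ hy
  rwa [Set.image_singleton] at this

theorem atWorstNodal :
    @Curv2.AtWorstNodal K _ (Spec (CommRingCat.of (M c))) ⟨str c⟩ := by
  letI : (Spec (CommRingCat.of (M c))).Over (Spec (CommRingCat.of K)) := ⟨str c⟩
  haveI : LocallyOfFiniteType ((Spec (CommRingCat.of (M c))) ↘ Spec (CommRingCat.of K)) :=
    inferInstanceAs (LocallyOfFiniteType (str c))
  intro P hP
  by_cases hsm : ∃ i, gen c i ∉ P.asIdeal
  · obtain ⟨i, hi⟩ := hsm
    left
    let j : Spec (CommRingCat.of (Localization.Away (gen c i))) ⟶ Spec (CommRingCat.of (M c)) :=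
      Spec.map (CommRingCat.ofHom (algebraMap (M c) (Localization.Away (gen c i))))
    haveI : IsOpenImmersion j := IsOpenImmersion.of_isLocalization (gen c i)
    refine ⟨j.opensRange, ?_, ?_⟩
    · show P ∈ Set.range (PrimeSpectrum.comap (algebraMap (M c) (Localization.Away (gen c i))))
      rw [PrimeSpectrum.localization_away_comap_range (Localization.Away (gen c i)) (gen c i)]
      exact hi
    · rw [← Scheme.Hom.isoOpensRange_inv_comp j, Category.assoc]
      haveI : Smooth (j ≫ str c) := by
        rw [← Spec.map_comp, ← CommRingCat.ofHom_comp, ← IsScalarTower.algebraMap_eq,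
          HasRingHomProperty.Spec_iff (P := @Smooth)]
        exact RingHom.smooth_algebraMap.2 (smooth_away c i)
      exact (inferInstance : Smooth (j.isoOpensRange.inv ≫ j ≫ str c))
  · push Not at hsm
    right
    haveI : (PrimeSpectrum.asIdeal (R := M c) P).IsPrime := PrimeSpectrum.isPrime (R := M c) P
    letI : Algebra (M c) ((Spec (CommRingCat.of (M c))).presheaf.stalk P) :=
      (StructureSheaf.toStalk (M c) P).hom.toAlgebra
    haveI : IsLocalization.AtPrime ((Spec (CommRingCat.of (M c))).presheaf.stalk P)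
        (PrimeSpectrum.asIdeal (R := M c) P) :=
      StructureSheaf.IsLocalization.to_stalk (M c) P
    haveI : IsScalarTower K (M c) ((Spec (CommRingCat.of (M c))).presheaf.stalk P) := by
      refine IsScalarTower.of_algebraMap_eq (R := K) (S := M c)
        (A := (Spec (CommRingCat.of (M c))).presheaf.stalk P) fun r => ?_
      show Curv2.stalkMap K (Spec (CommRingCat.of (M c))) P r =
        StructureSheaf.toStalk (M c) P (algebraMap K (M c) r)
      rw [Node.SmoothPoint.stalkMap_eq]
      exact congrArg (fun g => CommRingCat.Hom.hom g r)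
        (germ_specMap (CommRingCat.ofHom (algebraMap K (M c))) P le_top)
    exact (Node.Sch.isNode_iff _ _ _).2 ⟨hP,
      node_local c (PrimeSpectrum.asIdeal (R := M c) P) (hsm 0) (hsm 1) ((Spec (CommRingCat.of (M c))).presheaf.stalk P)⟩

/-- The map induced by a map of base rings. -/
noncomputable def mapHom {C' : Type u} [CommRing C'] (ρ : C →+* C') : M h →+* M (ρ h) :=
  lift h ((algebraMap C' (M (ρ h))).comp ρ) (gen _ 0) (gen _ 1) (gen_mul _)

/-- Base change of `uv = h`. -/
theorem isPushout_map {C' : Type u} [CommRing C'] (ρ : C →+* C') :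
    IsPushout (CommRingCat.ofHom ρ) (CommRingCat.ofHom (algebraMap C (M h)))
      (CommRingCat.ofHom (algebraMap C' (M (ρ h)))) (CommRingCat.ofHom (mapHom h ρ)) := by
  have e1 : CommRingCat.ofHom (MvPolynomial.eval₂Hom ((Int.castRingHom C').comp ULift.ringEquiv.toRingHom)
        (fun _ : Fin 1 => ρ h)) = CommRingCat.ofHom (MvPolynomial.eval₂Hom
          ((Int.castRingHom C).comp ULift.ringEquiv.toRingHom) (fun _ : Fin 1 => h)) ≫ CommRingCat.ofHom ρ := by
    rw [← CommRingCat.ofHom_comp]
    exact congrArg CommRingCat.ofHom (SchemeLocal.hom_ext_poly _ _ fun i => by simp)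
  have e2 : CommRingCat.ofHom (R := SchemeLocal.UNode.{u}) (SchemeLocal.nodeHom (ρ h)) =
      CommRingCat.ofHom (R := SchemeLocal.UNode.{u}) (SchemeLocal.nodeHom h) ≫ CommRingCat.ofHom (mapHom h ρ) := by
    rw [← CommRingCat.ofHom_comp]
    refine congrArg CommRingCat.ofHom (Ideal.Quotient.ringHom_ext (SchemeLocal.hom_ext_poly _ _ fun i => ?_))
    simp only [RingHom.comp_apply, SchemeLocal.nodeHom_mk_X]
    fin_cases i
    · exact (lift_gen _ _ _ _ _ 0).symm
    · exact (lift_gen _ _ _ _ _ 1).symm
    · exact (lift_const h ((algebraMap C' (M (ρ h))).comp ρ) (gen _ 0) (gen _ 1) (gen_mul _) h).symm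
  have big := (SchemeLocal.isPushout_node (ρ h)).flip
  rw [e1, e2] at big
  refine IsPushout.of_left big ?_ (SchemeLocal.isPushout_node h).flip
  apply CommRingCat.hom_ext
  refine RingHom.ext fun r => ?_
  exact (lift_const h ((algebraMap C' (M (ρ h))).comp ρ) (gen _ 0) (gen _ 1) (gen_mul _) r).symm

/-- `uv = h` is a nodal family. -/
theorem isNodalFamily : Curv2.IsNodalFamily (str h) := by
  refine ⟨inferInstance, inferInstance, fun s => ?_⟩
  let L : Type u := (Spec (CommRingCat.of C)).residueField s
  let ρ : C →+* L := (Spec.preimage ((Spec (CommRingCat.of C)).fromSpecResidueField s)).hom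
  have hρ : Spec.map (CommRingCat.ofHom ρ) = (Spec (CommRingCat.of C)).fromSpecResidueField s :=
    Spec.map_preimage _
  have hpb := isPullback_SpecMap_of_isPushout _ _ _ _ (isPushout_map h ρ)
  rw [hρ] at hpb
  have hf : IsPullback ((str h).fiberToSpecResidueField s) ((str h).fiberι s)
      ((Spec (CommRingCat.of C)).fromSpecResidueField s) (str h) :=
    (IsPullback.of_hasPullback _ _).flip
  let e : (str h).fiber s ≅ Spec (CommRingCat.of (M (ρ h))) := hf.isoIsPullback _ _ hpb
  letI : (Spec (CommRingCat.of (M (ρ h)))).Over (Spec (CommRingCat.of L)) := ⟨str (ρ h)⟩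
  haveI : LocallyOfFiniteType ((Spec (CommRingCat.of (M (ρ h)))) ↘ Spec (CommRingCat.of L)) :=
    inferInstanceAs (LocallyOfFiniteType (str (ρ h)))
  letI : ((str h).fiber s).Over (Spec (CommRingCat.of L)) := ⟨(str h).fiberToSpecResidueField s⟩
  exact Node.Invariance.etale L (Spec (CommRingCat.of (M (ρ h)))) (comps_one (ρ h)) (atWorstNodal (ρ h))
    e.hom (hf.isoIsPullback_hom_fst _ _ hpb)

end Groth.Agent.H25.Morse.ModelCurve
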