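import Groth.Agent.H25.Morse.RelDim
import Groth.Agent.H25.Node.Descent
import Groth.Agent.Lib.Flat55.SmoothAt

/-!
Openness of the nodal locus: around a node the map is a nodal family; fibrewise criterion.
-/

set_option autoImplicit false
set_option linter.style.haveILetI false
universe u

open CategoryTheory CategoryTheory.Limits AlgebraicGeometry IsLocalRing

attribute [local instance] Curv2.stalkAlgebra

namespace Groth.Agent.H25.Morse.NodeOpen

variable {X S : Scheme.{u}} (f : X ⟶ S)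

/-- `f` is a nodal family near `x`. -/
def IsNodalAt (x : X) : Prop := ∃ W : X.Opens, x ∈ W ∧ Curv2.IsNodalFamily (W.ι ≫ f)

/-- A nodal family seen from an étale neighbourhood. -/
theorem isNodalAt_of_etale {Z : Scheme.{u}} (g : Z ⟶ X) [Etale g]
    (h : Curv2.IsNodalFamily (g ≫ f)) (z : Z) : IsNodalAt f (g z) := by
  let W : X.Opens := ⟨Set.range g, g.isOpenMap.isOpen_range⟩
  refine ⟨W, ⟨z, rfl⟩, S1593.result (W.ι ≫ f) PUnit.{u+1} (fun _ => (g ⁻¹ᵁ W : Scheme.{u}))
    (fun _ => g ∣_ W) (fun w => ?_) fun _ => ?_⟩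
  · obtain ⟨z, hz⟩ := w.2
    refine ⟨PUnit.unit, ⟨z, show g z ∈ W from ⟨z, rfl⟩⟩, W.ι.isOpenEmbedding.injective ?_⟩
    show ((g ∣_ W) ≫ W.ι) _ = _
    rw [morphismRestrict_ι]
    exact hz
  · rw [morphismRestrict_ι_assoc]
    exact S1592.result _ h (g ⁻¹ᵁ W).ι

/-- Near a node a flat family is nodal. -/
theorem of_node [Flat f] [LocallyOfFinitePresentation f] (x : X)
    (hx : @Curv2.IsNode (S.residueField (f x)) _ (f.fiber (f x))
      ⟨f.fiberToSpecResidueField (f x)⟩ (f.asFiber x)) : IsNodalAt f x := by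
  obtain ⟨V, hV, hxV, -⟩ := exists_isAffineOpen_mem_and_subset (X := S) (x := f x) (U := ⊤) trivial
  obtain ⟨U, hU, hxU, hUV⟩ := exists_isAffineOpen_mem_and_subset (X := X) (x := x) (U := f ⁻¹ᵁ V) hxV
  obtain ⟨C, iC, iRC, hC, h, T, iT, g, ε, Q, hQ, hg, hε, hQg, hr⟩ :=
    SchemeLocal.exists_etaleLocal f x hx hV hU hUV hxU
  haveI : Etale (Spec.map (CommRingCat.ofHom g)) := by
    rwa [HasRingHomProperty.Spec_iff (P := @Etale)]
  haveI : Etale (Spec.map (CommRingCat.ofHom (R := ModelAlg.M h) ε)) := by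
    rwa [HasRingHomProperty.Spec_iff (P := @Etale)]
  haveI : Etale (Spec.map (CommRingCat.ofHom (algebraMap Γ(S, V) C))) := by
    rw [HasRingHomProperty.Spec_iff (P := @Etale)]
    exact RingHom.etale_algebraMap.2 hC
  have h1 := S1595.result (Spec.map (CommRingCat.ofHom (algebraMap Γ(S, V) C)) ≫ hV.fromSpec) _
    (ModelCurve.isNodalFamily h)
  have h2 := S1592.result _ h1 (Spec.map (CommRingCat.ofHom (R := ModelAlg.M h) ε))
  let gU : Spec (CommRingCat.of T) ⟶ X := Spec.map (CommRingCat.ofHom g) ≫ hU.fromSpec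
  have hcomp : gU ≫ f = Spec.map (CommRingCat.ofHom (R := ModelAlg.M h) ε) ≫
      Spec.map (CommRingCat.ofHom (algebraMap C (ModelAlg.M h))) ≫
      Spec.map (CommRingCat.ofHom (algebraMap Γ(S, V) C)) ≫ hV.fromSpec := by
    simp only [gU, Category.assoc, ← hV.SpecMap_appLE_fromSpec f hU hUV]
    simp only [← Spec.map_comp_assoc]
    congr 2
    exact CommRingCat.hom_ext (RingHom.ext hr)
  rw [← hcomp] at h2
  have hz : gU ⟨Q, hQ⟩ = x := by
    show hU.fromSpec (Spec.map (CommRingCat.ofHom g) ⟨Q, hQ⟩) = x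
    rw [show Spec.map (CommRingCat.ofHom g) ⟨Q, hQ⟩ = hU.primeIdealOf ⟨x, hxU⟩ from
      PrimeSpectrum.ext hQg]
    exact hU.fromSpec_primeIdealOf ⟨x, hxU⟩
  exact hz ▸ isNodalAt_of_etale f gU h2 ⟨Q, hQ⟩

/-- Fibres of an open subscheme. -/
theorem exists_fiberIso (W : X.Opens) (s : S) :
    ∃ e : (W.ι ≫ f).fiber s ≅ ((f.fiberι s) ⁻¹ᵁ W : Scheme.{u}),
      e.hom ≫ ((f.fiberι s) ⁻¹ᵁ W).ι ≫ f.fiberToSpecResidueField s =
        (W.ι ≫ f).fiberToSpecResidueField s := by
  have hpb : IsPullback ((f.fiberι s) ∣_ W) (((f.fiberι s) ⁻¹ᵁ W).ι ≫ f.fiberToSpecResidueField s)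
      (W.ι ≫ f) (S.fromSpecResidueField s) :=
    ((isPullback_morphismRestrict (f.fiberι s) W).flip.paste_horiz
      (IsPullback.of_hasPullback f (S.fromSpecResidueField s)).flip).flip
  exact ⟨(IsPullback.of_hasPullback (W.ι ≫ f) (S.fromSpecResidueField s)).isoIsPullback _ _ hpb,
    IsPullback.isoIsPullback_hom_snd _ _ _ _⟩

/-- A node of an open subscheme is a node. -/
theorem isNode_open_iff (k : Type u) [Field k] (Y : Scheme.{u}) [Y.Over (Spec (CommRingCat.of k))]
    [LocallyOfFiniteType (Y ↘ Spec (CommRingCat.of k))] {Z : Scheme.{u}}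
    [oZ : Z.Over (Spec (CommRingCat.of k))] (j : Z ⟶ Y) [IsOpenImmersion j]
    (hj : j ≫ (Y ↘ Spec (CommRingCat.of k)) = Z ↘ Spec (CommRingCat.of k)) (z : Z) :
    Curv2.IsNode k Z z ↔ Curv2.IsNode k Y (j z) := by
  have : (⟨j ≫ (Y ↘ Spec (CommRingCat.of k))⟩ : Z.Over (Spec (CommRingCat.of k))) = oZ := by
    cases oZ with
    | ofHom hom => exact congrArg (fun h => (⟨h⟩ : Z.Over (Spec (CommRingCat.of k)))) hj
  subst this
  letI : Z.Over (Spec (CommRingCat.of k)) := ⟨j ≫ (Y ↘ Spec (CommRingCat.of k))⟩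
  haveI : LocallyOfFiniteType (Z ↘ Spec (CommRingCat.of k)) :=
    inferInstanceAs (LocallyOfFiniteType (j ≫ (Y ↘ Spec (CommRingCat.of k))))
  haveI : IsLocallyNoetherian Y := LocallyOfFiniteType.isLocallyNoetherian (Y ↘ Spec (CommRingCat.of k))
  haveI : IsLocallyNoetherian Z := LocallyOfFiniteType.isLocallyNoetherian (Z ↘ Spec (CommRingCat.of k))
  let e : Y.presheaf.stalk (j z) ≃ₐ[k] Z.presheaf.stalk z :=
    AlgEquiv.ofRingEquiv (f := (asIso (j.stalkMap z)).commRingCatIsoToRingEquiv) fun c => by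
      show (j.stalkMap z).hom (Curv2.stalkMap k Y (j z) c) = Curv2.stalkMap k Z z c
      rw [Node.Change.stalkMap_hom k j z]
      rfl
  rw [Node.Sch.isNode_iff k Z z, Node.Sch.isNode_iff k Y (j z),
    Node.Sch.iff_copy k (Y.presheaf.stalk (j z)) (Z.presheaf.stalk z) e]
  refine and_congr_left fun _ => ?_
  rw [Node.Sch.isClosed_iff k Z z, Node.Sch.isClosed_iff k Y (j z)]
  haveI : IsLocalHom e.toRingEquiv.toRingHom := IsLocalHom.of_surjective _ e.surjective
  have hh : Curv2.resMap k Z z =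
      (ResidueField.map e.toRingEquiv.toRingHom).comp (Curv2.resMap k Y (j z)) := by
    refine RingHom.ext fun c => ?_
    show residue _ (Curv2.stalkMap k Z z c) = ResidueField.map e.toRingEquiv.toRingHom (residue _ _)
    rw [ResidueField.map_residue]
    exact congrArg _ (e.commutes c).symm
  have hb : Function.Bijective (ResidueField.map e.toRingEquiv.toRingHom) :=
    ⟨RingHom.injective _, fun w => by
      obtain ⟨w, rfl⟩ := residue_surjective w
      obtain ⟨v, rfl⟩ := e.surjective w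
      exact ⟨residue _ v, ResidueField.map_residue _ _⟩⟩
  rw [hh]
  let E := RingEquiv.ofBijective _ hb
  constructor
  · intro hfin
    have h2 : Curv2.resMap k Y (j z) = E.symm.toRingHom.comp
        ((ResidueField.map e.toRingEquiv.toRingHom).comp (Curv2.resMap k Y (j z))) :=
      RingHom.ext fun c => (E.symm_apply_apply _).symm
    rw [h2]
    exact (RingHom.Finite.of_surjective _ E.symm.surjective).comp hfin
  · exact fun hfin => (RingHom.Finite.of_surjective _ hb.2).comp hfin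

/-- The dimension does not go up along flat surjections. -/
theorem dim_le_one {Y Z : Scheme.{u}} (j : Z ⟶ Y) [Flat j] (hs : Function.Surjective j)
    (hZ : topologicalKrullDim Z ≤ 1) : topologicalKrullDim Y ≤ 1 := by
  refine iSup_le fun s => ?_
  by_contra hlen
  have hlen' : 2 ≤ s.length := by
    by_contra hc
    exact hlen (by exact_mod_cast (Nat.lt_succ_iff.1 (not_le.1 hc)))
  have hgp : ∀ S : TopologicalSpace.IrreducibleCloseds Y,
      IsGenericPoint S.isIrreducible.genericPoint (S : Set Y) :=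
    fun S => S.isIrreducible.isGenericPoint_genericPoint S.isClosed
  let a : Fin (s.length + 1) → Y := fun i => (s i).isIrreducible.genericPoint
  have hsp : ∀ i l, i ≤ l → a l ⤳ a i := fun i l hil =>
    (hgp (s l)).specializes ((s.monotone hil) (hgp (s i)).mem)
  have hne : ∀ i l, i < l → a i ≠ a l := fun i l hil e => (s.strictMono hil).ne
    (TopologicalSpace.IrreducibleCloseds.ext (by
      rw [← (hgp (s i)).def, ← (hgp (s l)).def]; exact congrArg (fun p => closure {p}) e))
  let i₁ : Fin (s.length + 1) := ⟨1, by omega⟩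
  let i₂ : Fin (s.length + 1) := ⟨2, by omega⟩
  have h01 : (0 : Fin (s.length + 1)) < i₁ := by simp [i₁, Fin.lt_def]
  have h12 : i₁ < i₂ := by simp [i₁, i₂, Fin.lt_def]
  obtain ⟨z₀, hz₀⟩ := hs (a 0)
  obtain ⟨z₁, hz1, hz₁⟩ := Flat.generalizingMap j (show a i₁ ⤳ j z₀ by
    rw [hz₀]; exact hsp _ _ h01.le)
  obtain ⟨z₂, hz2, hz₂⟩ := Flat.generalizingMap j (show a i₂ ⤳ j z₁ by
    rw [hz₁]; exact hsp _ _ h12.le)
  let C : Z → TopologicalSpace.IrreducibleCloseds Z := fun c =>
    ⟨closure {c}, isIrreducible_singleton.closure, isClosed_closure⟩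
  have hlt : ∀ p q : Z, q ⤳ p → j q ≠ j p → C p < C q := fun p q hsz hd => by
    refine lt_of_le_of_ne (closure_minimal (Set.singleton_subset_iff.2
      (specializes_iff_mem_closure.1 hsz)) isClosed_closure) fun e => hd ?_
    have hba : p ⤳ q := specializes_iff_mem_closure.2
      ((congrArg (fun c : TopologicalSpace.IrreducibleCloseds Z => (c : Set Z)) e).ge
        (subset_closure rfl))
    rw [(hba.antisymm hsz).eq]
  let t : LTSeries (TopologicalSpace.IrreducibleCloseds Z) :=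
    LTSeries.mk 2 ![C z₀, C z₁, C z₂] (Fin.strictMono_iff_lt_succ.2 fun i => by
      fin_cases i
      · exact hlt _ _ hz1 (by rw [hz₁, hz₀]; exact (hne _ _ h01).symm)
      · exact hlt _ _ hz2 (by rw [hz₂, hz₁]; exact (hne _ _ h12).symm))
  have h4 : (2 : WithBot ℕ∞) ≤ 1 := (Order.LTSeries.length_le_krullDim t).trans hZ
  exact absurd h4 (by decide)

theorem smoothLocus_congr {P Q : X ⟶ S} [LocallyOfFinitePresentation P] [LocallyOfFinitePresentation Q]
    (h : P = Q) : P.smoothLocus = Q.smoothLocus := by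
  subst h; rfl

/-- No proper specializations over a closed point. -/
theorem eq_over_closed (k : Type u) [Field k] (Y : Scheme.{u}) [Y.Over (Spec (CommRingCat.of k))]
    [LocallyOfFiniteType (Y ↘ Spec (CommRingCat.of k))] (K : Type u) [Field K] [Algebra k K]
    (v w : Curv2.bc k Y K) (hvw : v ⤳ w) (he : Curv2.bcFst k Y K v = Curv2.bcFst k Y K w)
    (h : IsClosed ({Curv2.bcFst k Y K w} : Set Y)) : v = w := by
  set c := Y.fromSpecResidueField (Curv2.bcFst k Y K w)
  haveI : IsClosedImmersion c := isClosed_singleton_iff_isClosedImmersion.1 h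
  haveI : LocallyQuasiFinite (c ≫ (Y ↘ Spec (CommRingCat.of k))) :=
    LocallyQuasiFinite.of_injective (fun a b _ => Subsingleton.elim a b)
  let q := pullback.fst (Curv2.bcFst k Y K) c
  have hpb : IsPullback (q ≫ Curv2.bcSnd k Y K) (pullback.snd (Curv2.bcFst k Y K) c)
      (Spec.map (CommRingCat.ofHom (algebraMap k K))) (c ≫ (Y ↘ Spec (CommRingCat.of k))) :=
    (IsPullback.of_hasPullback (Curv2.bcFst k Y K) c).paste_horiz
      (show IsPullback (Curv2.bcSnd k Y K) (Curv2.bcFst k Y K) _ _ from (IsPullback.of_hasPullback _ _).flip)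
  haveI : LocallyQuasiFinite (q ≫ Curv2.bcSnd k Y K) :=
    MorphismProperty.of_isPullback (P := @LocallyQuasiFinite) hpb.flip ‹_›
  have hq : Set.range q = Curv2.bcFst k Y K ⁻¹' {Curv2.bcFst k Y K w} := by
    rw [Scheme.Pullback.range_fst, Scheme.range_fromSpecResidueField]
  obtain ⟨a, ha⟩ : v ∈ Set.range q := hq ▸ he
  obtain ⟨b, hb⟩ : w ∈ Set.range q := hq ▸ rfl
  have hab : a ⤳ b := q.isClosedEmbedding.isInducing.specializes_iff.1 (by rw [ha, hb]; exact hvw)
  exact ha.symm.trans ((congrArg q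
    (Node.Dim.eq_of_specializes (q ≫ Curv2.bcSnd k Y K) hab (Subsingleton.elim _ _))).trans hb)

/-- Descent from an open piece of an extension of the base field. -/
theorem of_bc_open (k : Type u) [Field k] (Y : Scheme.{u}) [Y.Over (Spec (CommRingCat.of k))]
    [LocallyOfFiniteType (Y ↘ Spec (CommRingCat.of k))] (K : Type u) [Field K] [Algebra k K]
    (Z : Scheme.{u}) [Z.Over (Spec (CommRingCat.of K))] (j : Z ⟶ Curv2.bc k Y K) [IsOpenImmersion j]
    (hj : j ≫ Curv2.bcSnd k Y K = Z ↘ Spec (CommRingCat.of K))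
    (hs : Function.Surjective (j ≫ Curv2.bcFst k Y K))
    (hd : ∀ C ∈ irreducibleComponents (Z : Type u), topologicalKrullDim C = 1)
    (hn : Curv2.AtWorstNodal K Z) :
    (∀ C ∈ irreducibleComponents (Y : Type u), topologicalKrullDim C = 1) ∧
      Curv2.AtWorstNodal k Y := by
  letI : (Curv2.bc k Y K).Over (Spec (CommRingCat.of K)) := ⟨Curv2.bcSnd k Y K⟩
  haveI : LocallyOfFiniteType ((Curv2.bc k Y K) ↘ Spec (CommRingCat.of K)) :=
    inferInstanceAs (LocallyOfFiniteType (Curv2.bcSnd k Y K))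
  haveI : Flat (Spec.map (CommRingCat.ofHom (algebraMap k K))) := by
    rw [HasRingHomProperty.Spec_iff (P := @Flat)]
    exact RingHom.flat_algebraMap_iff.2 inferInstance
  haveI : Flat (Curv2.bcFst k Y K) := inferInstanceAs
    (Flat (pullback.fst (Y ↘ Spec (CommRingCat.of k)) (Spec.map (CommRingCat.ofHom (algebraMap k K)))))
  haveI : LocallyOfFiniteType (Z ↘ Spec (CommRingCat.of K)) := hj ▸ inferInstance
  haveI : JacobsonSpace Z := LocallyOfFiniteType.jacobsonSpace (Z ↘ Spec (CommRingCat.of K))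
  set π := j ≫ Curv2.bcFst k Y K with hπ
  have hle : topologicalKrullDim Y ≤ 1 := dim_le_one π hs (Node.AtWorst.dim_le_one Z hd)
  have lift : ∀ y : Y, IsClosed ({y} : Set Y) → ∃ z : Z, π z = y ∧ IsClosed ({z} : Set Z) := fun y hy => by
    obtain ⟨z₀, hz₀⟩ := hs y
    obtain ⟨z, (hz : π z = y), hzc⟩ := nonempty_inter_closedPoints (Z := π ⁻¹' {y}) ⟨z₀, hz₀⟩
      (hy.preimage π.continuous).isLocallyClosed
    exact ⟨z, hz, hzc⟩
  have hcomp : ∀ C ∈ irreducibleComponents (Y : Type u), topologicalKrullDim C = 1 := by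
    refine Node.Dim.comps_one hle fun y hy => ?_
    obtain ⟨z, hz, hzc⟩ := lift y hy
    obtain ⟨w, hw, hne⟩ := Node.Dim.exists_generization hd z hzc
    refine ⟨π w, hz ▸ hw.map π.continuous, fun e => hne ?_⟩
    have e' : Curv2.bcFst k Y K (j w) = Curv2.bcFst k Y K (j z) := e.trans hz.symm
    exact j.isOpenEmbedding.injective (eq_over_closed k Y K (j w) (j z) (hw.map j.continuous) e'
      (by rw [show Curv2.bcFst k Y K (j z) = y from hz]; exact hy))
  refine ⟨hcomp, fun y hy => ?_⟩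
  obtain ⟨z, hz, hzc⟩ := lift y hy
  rcases hn z hzc with hsm | hnode
  · refine Or.inl ((Node.AtWorst.exists_smooth_iff k Y _).2 ?_)
    haveI : LocallyOfFinitePresentation (Curv2.bcSnd k Y K) :=
      Node.AtWorst.lfp K (Curv2.bc k Y K)
    have h1 : z ∈ (j ≫ Curv2.bcSnd k Y K).smoothLocus := by
      rw [smoothLocus_congr hj]; exact (Node.AtWorst.exists_smooth_iff K Z z).1 hsm
    haveI : LocallyOfFinitePresentation (Curv2.bcSnd k Y K) :=
      Node.AtWorst.lfp K (Curv2.bc k Y K)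
    have h2 : j z ∈ (Curv2.bcSnd k Y K).smoothLocus := by
      rw [← Scheme.Hom.preimage_smoothLocus_eq] at h1
      exact h1
    have h3 := S2155.result (Y ↘ Spec (CommRingCat.of k))
      (Spec.map (CommRingCat.ofHom (algebraMap k K))) (Curv2.bcSnd k Y K) (Curv2.bcFst k Y K)
      (IsPullback.of_hasPullback _ _) (Or.inr inferInstance)
    rw [h3] at h2
    rw [← hz]
    exact h2
  · refine Or.inr ?_
    rw [← hz]
    exact (Node.FieldExt.isNode_iff_bc k Y hle K (j z)).2 ((isNode_open_iff K (Curv2.bc k Y K) j hj z).1 hnode)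

end Groth.Agent.H25.Morse.NodeOpen
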