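import Groth.Agent.H25.Node.FibreStalk
import Groth.Agent.H25.Node.AtWorst
import Groth.Agent.S11549
import Groth.Agent.Lib.DescAlg.SmoothNormal
import Mathlib.RingTheory.DedekindDomain.Dvr
import Mathlib.RingTheory.Localization.BaseChange

/-!
Normality of flat schemes over Dedekind bases with normal generic and reduced special fibres.
-/

set_option autoImplicit false
set_option linter.style.haveILetI false
universe u

open CategoryTheory CategoryTheory.Limits AlgebraicGeometry IsLocalRing
open scoped TensorProduct

namespace Groth.Agent.H25.Morse.NormalFibre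

attribute [local instance] Algebra.TensorProduct.rightAlgebra

/-- Local criterion over a DVR. -/
theorem normal_of_flat (R : Type u) [CommRing R] [IsDomain R] [IsDiscreteValuationRing R]
    (A : Type u) [CommRing A] [IsLocalRing A] [IsNoetherianRing A] [Algebra R A] [Module.Flat R A]
    {ϖ : R} (hϖ : Irreducible ϖ)
    (hred : _root_.IsReduced (A ⧸ (maximalIdeal R).map (algebraMap R A)))
    (hgen : ∀ (P : Ideal A) [P.IsPrime], algebraMap R A ϖ ∉ P →
      IsDomain (Localization.AtPrime P) ∧ IsIntegrallyClosed (Localization.AtPrime P)) :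
    IsDomain A ∧ IsIntegrallyClosed A := by
  let K := FractionRing R
  haveI : IsLocalization.Away ϖ K := by
    refine (IsLocalization.iff_of_le_of_exists_dvd (Submonoid.powers ϖ) (nonZeroDivisors R) ?_ ?_).2
      (inferInstanceAs (IsFractionRing R K))
    · exact Submonoid.powers_le.2 (mem_nonZeroDivisors_of_ne_zero hϖ.ne_zero)
    · intro n hn
      obtain ⟨k, v, rfl⟩ := IsDiscreteValuationRing.eq_unit_mul_pow_irreducible (nonZeroDivisors.ne_zero hn) hϖ
      exact ⟨ϖ ^ k, ⟨k, rfl⟩, Units.mul_left_dvd.2 dvd_rfl⟩
  set c := algebraMap R A ϖ with hc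
  let L := K ⊗[R] A
  haveI hloc : IsLocalization.Away c L := IsLocalization.Away.tensorRight ϖ K
  have hcreg : ∀ a : A, c * a = 0 → a = 0 := fun a ha => by
    have h1 : IsSMulRegular A ϖ :=
      Module.Flat.isSMulRegular_of_nonZeroDivisors (mem_nonZeroDivisors_of_ne_zero hϖ.ne_zero)
    exact h1 (by simpa [Algebra.smul_def] using ha)
  have hcn : ∀ (k : ℕ) (a : A), c ^ k * a = 0 → a = 0 := by
    intro k
    induction k with
    | zero => simp
    | succ k ih => exact fun a h => hcreg a (ih _ (by rwa [← mul_assoc, ← pow_succ]))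
  have hsq : ∀ a : A, a * a ∈ (maximalIdeal R).map (algebraMap R A) →
      a ∈ (maximalIdeal R).map (algebraMap R A) := fun a ha => by
    rw [← Ideal.Quotient.eq_zero_iff_mem] at ha ⊢
    haveI := hred
    exact IsReduced.eq_zero _ ⟨2, by rw [pow_two, ← map_mul]; exact ha⟩
  have hmap : (maximalIdeal R).map (algebraMap R A) = Ideal.span {c} := by
    rw [hϖ.maximalIdeal_eq, Ideal.map_span, Set.image_singleton]
  have hinj : Function.Injective (algebraMap A L) := by
    rw [injective_iff_map_eq_zero]
    intro a ha
    obtain ⟨⟨_, k, rfl⟩, hk⟩ := (IsLocalization.map_eq_zero_iff (Submonoid.powers c) L a).1 ha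
    exact hcn k a hk
  haveI : Nontrivial L := hinj.nontrivial
  have hidem : ∀ e : L, IsIdempotentElem e → e = 0 ∨ e = 1 := by
    intro e he
    obtain ⟨k, a, hka⟩ : ∃ (k : ℕ) (a : A), e * algebraMap A L c ^ k = algebraMap A L a := by
      obtain ⟨⟨a, ⟨_, k, rfl⟩⟩, h⟩ := IsLocalization.surj (Submonoid.powers c) e
      exact ⟨k, a, by simpa using h⟩
    induction k generalizing a with
    | zero =>
      rw [pow_zero, mul_one] at hka
      subst hka
      have h1 : a * a = a := hinj (by rw [map_mul]; exact he)
      rcases IsLocalRing.isUnit_or_isUnit_one_sub_self a with hu | hu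
      · right
        rw [hu.mul_left_inj.1 (h1.trans (one_mul a).symm), map_one]
      · left
        have h2 : (1 - a) * a = 0 := by rw [sub_mul, one_mul, h1, sub_self]
        rw [hu.mul_right_eq_zero.1 h2, map_zero]
    | succ k ih =>
      have h1 : a * a = c ^ (k + 1) * a := hinj (by
        rw [map_mul, map_mul, map_pow, ← hka]
        have he' : e * e = e := he
        linear_combination (algebraMap A L c ^ (k + 1)) ^ 2 * he')
      have h2 : a ∈ Ideal.span {c} := hmap ▸ hsq a (by
        rw [hmap, h1, pow_succ']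
        exact Ideal.mul_mem_right _ _ (Ideal.mul_mem_right _ _ (Ideal.mem_span_singleton_self c)))
      obtain ⟨a', rfl⟩ := Ideal.mem_span_singleton'.1 h2
      refine ih a' ((IsLocalization.map_units L (⟨c, Submonoid.mem_powers c⟩ : Submonoid.powers c)).mul_left_inj.1 ?_)
      rw [mul_assoc, ← pow_succ, hka, map_mul]
  have hn : EGA4.IsNormalRing L := fun P _ => by
    haveI : (P.comap (algebraMap A L)).IsPrime := inferInstance
    obtain ⟨h1, h2⟩ := hgen (P.comap (algebraMap A L)) fun hmem =>
      Ideal.IsPrime.ne_top ‹P.IsPrime› (Ideal.eq_top_of_isUnit_mem P (Ideal.mem_comap.1 hmem)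
        (IsLocalization.map_units L (⟨c, Submonoid.mem_powers c⟩ : Submonoid.powers c)))
    haveI : IsLocalization.AtPrime (Localization.AtPrime P) (P.comap (algebraMap A L)) :=
      IsLocalization.isLocalization_isLocalization_atPrime_isLocalization (Submonoid.powers c) _ P
    let e : Localization.AtPrime (P.comap (algebraMap A L)) ≃+* Localization.AtPrime P :=
      (IsLocalization.algEquiv (P.comap (algebraMap A L)).primeCompl _ _).toRingEquiv
    haveI := h1
    haveI := h2
    haveI : IsDomain (Localization.AtPrime P) := e.symm.toMulEquiv.isDomain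
    exact ⟨inferInstance, IsIntegrallyClosed.of_equiv e⟩
  haveI : IsNoetherianRing L := IsLocalization.isNoetherianRing (Submonoid.powers c) L inferInstance
  haveI hdom : IsDomain L := Lib.DescAlg.SmoothNormal.isDomain_of_normal_of_connected hn hidem
  haveI : IsIntegrallyClosed L := IsIntegrallyClosed.of_localization_maximal fun m _ _ => (hn m).2
  exact S11549.result R A hred

/-- **Normality from the fibres.** -/
theorem normal_stalk {R : Type u} [CommRing R] [IsDedekindDomain R] {X : Scheme.{u}}
    (f : X ⟶ Spec (CommRingCat.of R)) [Flat f] [LocallyOfFiniteType f] (x : X)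
    (hm : (f x).asIdeal ≠ ⊥) (hred : AlgebraicGeometry.IsReduced (f.fiber (f x)))
    (hgen : ∀ y : X, (f y).asIdeal = ⊥ →
      IsDomain (X.presheaf.stalk y) ∧ IsIntegrallyClosed (X.presheaf.stalk y)) :
    IsDomain (X.presheaf.stalk x) ∧ IsIntegrallyClosed (X.presheaf.stalk x) := by
  let S := Spec (CommRingCat.of R)
  haveI : IsNoetherianRing R := IsDedekindDomain.toIsDedekindRing.toIsNoetherian
  haveI : IsLocallyNoetherian X := LocallyOfFiniteType.isLocallyNoetherian f
  set m : Ideal R := (f x).asIdeal
  haveI : m.IsPrime := PrimeSpectrum.isPrime (R := R) (f x)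
  let R' := S.presheaf.stalk (f x)
  letI : Algebra R R' := (StructureSheaf.toStalk R (f x)).hom.toAlgebra
  haveI : IsLocalization.AtPrime R' m := StructureSheaf.IsLocalization.to_stalk R (f x)
  haveI : IsDomain R' :=
    IsLocalization.isDomain_of_le_nonZeroDivisors (R := R) (S := R') (M := m.primeCompl)
      (Ideal.primeCompl_le_nonZeroDivisors m)
  haveI : IsDiscreteValuationRing R' :=
    IsLocalization.AtPrime.isDiscreteValuationRing_of_dedekind_domain R hm R'
  obtain ⟨ϖ, hϖ⟩ := IsDiscreteValuationRing.exists_irreducible R'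
  let A := X.presheaf.stalk x
  letI : Algebra R' A := (f.stalkMap x).hom.toAlgebra
  haveI : Module.Flat R' A := RingHom.flat_algebraMap_iff.1 (Flat.stalkMap f x)
  refine normal_of_flat R' A hϖ ?_ ?_
  · obtain ⟨φ, hφ, hker, -⟩ := Node.FibreStalk.exists_stalkHom f (f x) (f.asFiber x) x (f.fiberι_asFiber x) rfl
    haveI := hred
    haveI : _root_.IsReduced ((f.fiber (f x)).presheaf.stalk (f.asFiber x)) := inferInstance
    rw [show (maximalIdeal R').map (algebraMap R' A) = RingHom.ker φ from hker.symm]
    exact isReduced_of_injective (RingHom.kerLift φ) (RingHom.kerLift_injective φ)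
  · intro P _ hP
    obtain ⟨U, hU, hxU, -⟩ := exists_isAffineOpen_mem_and_subset (X := X) (x := x) (U := ⊤) trivial
    let B := Γ(X, U)
    set q := (hU.primeIdealOf ⟨x, hxU⟩).asIdeal
    letI : Algebra B A := X.presheaf.algebra_section_stalk ⟨x, hxU⟩
    haveI : IsLocalization.AtPrime A q := hU.isLocalization_stalk ⟨x, hxU⟩
    let P' : PrimeSpectrum B := ⟨P.comap (algebraMap B A), inferInstance⟩
    let y : X := hU.fromSpec P'
    have hyU : y ∈ U := hU.range_fromSpec.le (Set.mem_range_self (f := hU.fromSpec) P')
    have hyP : hU.primeIdealOf ⟨y, hyU⟩ = P' :=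
      hU.fromSpec.isOpenEmbedding.injective (hU.fromSpec_primeIdealOf ⟨y, hyU⟩)
    have hbot : P.comap (algebraMap R' A) = ⊥ := by
      by_contra hne
      have h1 := (inferInstance : (P.comap (algebraMap R' A)).IsPrime).isMaximal hne
      refine hP (Ideal.mem_comap.1 ?_)
      rw [IsLocalRing.eq_maximalIdeal h1, hϖ.maximalIdeal_eq]
      exact Ideal.mem_span_singleton_self ϖ
    have hfy : (f y).asIdeal = ⊥ := by
      have eU : U ≤ f ⁻¹ᵁ ⊤ := fun _ _ => trivial
      have h1 : f y = Spec.map ((Scheme.ΓSpecIso (CommRingCat.of R)).inv ≫ f.appLE ⊤ U eU) P' := by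
        show (hU.fromSpec ≫ f) P' = _
        rw [← (isAffineOpen_top S).SpecMap_appLE_fromSpec f hU eU,
          IsAffineOpen.fromSpec_top, Scheme.isoSpec_Spec_inv, ← Spec.map_comp]
      rw [h1, eq_bot_iff]
      intro r hr
      have h2 : algebraMap B A (((Scheme.ΓSpecIso (CommRingCat.of R)).inv ≫ f.appLE ⊤ U eU).hom r) =
          algebraMap R' A (algebraMap R R' r) := by
        show ((Scheme.ΓSpecIso (CommRingCat.of R)).inv ≫ f.appLE ⊤ U eU ≫ X.presheaf.germ U x hxU).hom r =
          ((Scheme.ΓSpecIso (CommRingCat.of R)).inv ≫ S.presheaf.germ ⊤ (f x) (eU hxU) ≫ f.stalkMap x).hom r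
        erw [Scheme.Hom.germ_stalkMap]
        rw [Scheme.Hom.appLE, Category.assoc, X.presheaf.germ_res]
      have h3 : algebraMap R R' r ∈ P.comap (algebraMap R' A) := by
        rw [Ideal.mem_comap, ← h2]
        exact hr
      rw [hbot, Ideal.mem_bot] at h3
      exact (IsLocalization.injective R' (Ideal.primeCompl_le_nonZeroDivisors m))
        (h3.trans (map_zero _).symm)
    obtain ⟨h4, h5⟩ := hgen y hfy
    letI : Algebra B (X.presheaf.stalk y) := X.presheaf.algebra_section_stalk ⟨y, hyU⟩
    haveI : IsLocalization.AtPrime (X.presheaf.stalk y) P'.asIdeal := by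
      have := hU.isLocalization_stalk ⟨y, hyU⟩
      rwa [hyP] at this
    haveI : IsLocalization.AtPrime (Localization.AtPrime P) P'.asIdeal :=
      IsLocalization.isLocalization_isLocalization_atPrime_isLocalization q.primeCompl _ P
    let e1 : Localization.AtPrime P ≃+* Localization.AtPrime P'.asIdeal :=
      (IsLocalization.algEquiv P'.asIdeal.primeCompl _ _).toRingEquiv
    let e2 : Localization.AtPrime P'.asIdeal ≃+* X.presheaf.stalk y :=
      (IsLocalization.algEquiv P'.asIdeal.primeCompl _ _).toRingEquiv
    haveI := h4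
    haveI := h5
    haveI : IsDomain (Localization.AtPrime P) := (e1.trans e2).toMulEquiv.isDomain
    exact ⟨inferInstance, IsIntegrallyClosed.of_equiv (e1.trans e2).symm⟩

end Groth.Agent.H25.Morse.NormalFibre
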