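import Groth.Agent.H25.Morse.Delta
import Groth.Agent.H25.Node.Basic
import Mathlib.RingTheory.Etale.Kaehler
import Mathlib.RingTheory.Kaehler.Polynomial
import Mathlib.RingTheory.RingHom.Etale
import Groth.Agent.Lib.JacCrit.EtaleBasis
import Mathlib.FieldTheory.Separable
import Mathlib.LinearAlgebra.Matrix.NonsingularInverse

/-!
Near a node of the fibre the family sits in a family of smooth surfaces with étale coordinates.
-/

set_option autoImplicit false
set_option linter.style.haveILetI false
universe u

open IsLocalRing KaehlerDifferential TensorProduct Groth.Agent.H25.Node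

namespace Groth.Agent.H25.Morse.Presentation

/-- Clearing denominators of a polynomial. -/
theorem exists_integer_poly {R k : Type u} [CommRing R] [Field k] [Algebra R k]
    (hk : ∀ x : k, ∃ r s : R, algebraMap R k s ≠ 0 ∧ x * algebraMap R k s = algebraMap R k r)
    (f : Polynomial k) : ∃ (s : R) (F : Polynomial R), algebraMap R k s ≠ 0 ∧
      F.map (algebraMap R k) = Polynomial.C (algebraMap R k s) * f := by
  induction f using Polynomial.induction_on' with
  | add p q hp hq =>
    obtain ⟨s, F, hs, hF⟩ := hp
    obtain ⟨t, G, ht, hG⟩ := hq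
    refine ⟨s * t, Polynomial.C t * F + Polynomial.C s * G, by rw [map_mul]; exact mul_ne_zero hs ht, ?_⟩
    simp only [Polynomial.map_add, Polynomial.map_mul, Polynomial.map_C, hF, hG, map_mul]
    ring
  | monomial i x =>
    obtain ⟨r, s, hs, hx⟩ := hk x
    refine ⟨s, Polynomial.monomial i r, hs, ?_⟩
    rw [Polynomial.map_monomial, Polynomial.C_mul_monomial, ← hx, mul_comm]

/-- `n` functions with a basis of differentials are étale coordinates. -/
theorem etale_aeval {R E : Type u} [CommRing R] [CommRing E] [Algebra R E] [Algebra.FormallySmooth R E]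
    [Algebra.FinitePresentation R E] {n : ℕ} (L : Fin n → E)
    (h : LinearIndependent E (fun i => D R E (L i)) ∧
      Submodule.span E (Set.range fun i => D R E (L i)) = ⊤) :
    ((MvPolynomial.aeval (R := R) L).toRingHom).Etale := by
  letI alg : Algebra (MvPolynomial (Fin n) R) E := (MvPolynomial.aeval L).toRingHom.toAlgebra
  haveI : IsScalarTower R (MvPolynomial (Fin n) R) E :=
    IsScalarTower.of_algebraMap_eq fun r => (MvPolynomial.aeval_C L r).symm
  have hX : ∀ i, algebraMap (MvPolynomial (Fin n) R) E (MvPolynomial.X i) = L i :=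
    fun i => MvPolynomial.aeval_X L i
  haveI : Algebra.FormallyEtale (MvPolynomial (Fin n) R) E := by
    rw [Lib.JacCrit.EtaleBasis.formallyEtale_iff_bijective R, Lib.JacCrit.EtaleBasis.bijective_iff]
    simp only [hX]
    exact h
  exact RingHom.etale_algebraMap.2
    { finitePresentation :=
        Algebra.FinitePresentation.of_restrict_scalars_finitePresentation R (MvPolynomial (Fin n) R) E }

/-- Killing some of the coordinates. -/
theorem exists_kill {R E B' : Type u} [CommRing R] [CommRing E] [CommRing B'] [Algebra R E]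
    [Algebra R B'] {n : ℕ} (φE : MvPolynomial (Fin n) R →ₐ[R] E) (hφE : φE.toRingHom.Etale)
    (ρE : E →ₐ[R] B') (hρE : Function.Surjective ρE)
    (kill : MvPolynomial (Fin n) R →ₐ[R] MvPolynomial (Fin 2) R)
    (gB : MvPolynomial (Fin 2) R →ₐ[R] B') (hgk : gB.comp kill = ρE.comp φE) :
    ∃ (P : Type u) (_ : CommRing P) (_ : Algebra R P) (_ : Algebra (MvPolynomial (Fin 2) R) P)
      (_ : IsScalarTower R (MvPolynomial (Fin 2) R) P) (_ : Algebra.Etale (MvPolynomial (Fin 2) R) P)
      (π : P →ₐ[R] B'), Function.Surjective π ∧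
        ∀ p, π (algebraMap (MvPolynomial (Fin 2) R) P p) = gB p := by
  letI : Algebra (MvPolynomial (Fin n) R) (MvPolynomial (Fin 2) R) := kill.toRingHom.toAlgebra
  haveI : IsScalarTower R (MvPolynomial (Fin n) R) (MvPolynomial (Fin 2) R) :=
    IsScalarTower.of_algebraMap_eq fun r => (kill.commutes r).symm
  letI : Algebra (MvPolynomial (Fin n) R) E := φE.toRingHom.toAlgebra
  haveI : Algebra.Etale (MvPolynomial (Fin n) R) E := RingHom.etale_algebraMap.1 hφE
  letI : Algebra (MvPolynomial (Fin n) R) B' := (ρE.comp φE).toRingHom.toAlgebra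
  let fE : E →ₐ[MvPolynomial (Fin n) R] B' := { ρE.toRingHom with commutes' := fun p => rfl }
  let f2 : MvPolynomial (Fin 2) R →ₐ[MvPolynomial (Fin n) R] B' :=
    { gB.toRingHom with commutes' := fun p => AlgHom.congr_fun hgk p }
  let π₀ : (MvPolynomial (Fin 2) R ⊗[MvPolynomial (Fin n) R] E) →ₐ[MvPolynomial (Fin n) R] B' :=
    Algebra.TensorProduct.lift f2 fE (fun _ _ => Commute.all _ _)
  let π : (MvPolynomial (Fin 2) R ⊗[MvPolynomial (Fin n) R] E) →ₐ[R] B' :=
    { π₀.toRingHom with
      commutes' := fun r => by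
        show π₀ (algebraMap R (MvPolynomial (Fin 2) R) r ⊗ₜ (1 : E)) = _
        rw [Algebra.TensorProduct.lift_tmul, map_one, mul_one]
        exact gB.commutes r }
  refine ⟨_, inferInstance, inferInstance, inferInstance, inferInstance, inferInstance, π,
    fun b => ?_, fun p => ?_⟩
  · obtain ⟨z, rfl⟩ := hρE b
    refine ⟨1 ⊗ₜ z, ?_⟩
    show π₀ (1 ⊗ₜ z) = _
    rw [Algebra.TensorProduct.lift_tmul, map_one, one_mul]
    rfl
  · show π₀ (p ⊗ₜ (1 : E)) = _
    rw [Algebra.TensorProduct.lift_tmul, map_one, mul_one]
    rfl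

section

variable (k : Type u) [Field k] {R B N : Type u} [CommRing R] [CommRing B] [CommRing N] [IsLocalRing N]
  [Algebra R B] [Algebra R k] [Algebra R N] [Algebra B N] [IsScalarTower R B N] [Algebra k N]
  [IsScalarTower R k N]

theorem exists_coords [Algebra.FinitePresentation R B]
    [Algebra.IsSeparable k (ResidueField N)]
    (hk : ∀ x : k, ∃ r s : R, algebraMap R k s ≠ 0 ∧ x * algebraMap R k s = algebraMap R k r)
    (hsurj : ∀ z : N, ∃ b t : B, IsUnit (algebraMap B N t) ∧ z * algebraMap B N t = algebraMap B N b)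
    (hker : ∀ b : B, algebraMap B N b = 0 → ∃ t : B, IsUnit (algebraMap B N t) ∧
      t * b ∈ (RingHom.ker (algebraMap R k)).map (algebraMap R B))
    (hN : IsNodal N) :
    ∃ (P : Type u) (_ : CommRing P) (_ : Algebra R P) (_ : Algebra (MvPolynomial (Fin 2) R) P)
      (_ : IsScalarTower R (MvPolynomial (Fin 2) R) P) (_ : Algebra.Etale (MvPolynomial (Fin 2) R) P)
      (B' : Type u) (_ : CommRing B') (_ : Algebra R B') (_ : Algebra B B') (_ : IsScalarTower R B B')
      (_ : Algebra.Etale B B') (π : P →ₐ[R] B') (ι : B' →ₐ[R] N),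
      Function.Surjective π ∧ (∀ b, ι (algebraMap B B' b) = algebraMap B N b) ∧
      Module.Flat B B' ∧
      (∀ b', ι b' = 0 → ∃ t, IsUnit (ι t) ∧
        t * b' ∈ (RingHom.ker (algebraMap R k)).map (algebraMap R B')) ∧
      Ideal.span {ι (π (algebraMap (MvPolynomial (Fin 2) R) P (MvPolynomial.X 0))),
        ι (π (algebraMap (MvPolynomial (Fin 2) R) P (MvPolynomial.X 1)))} = maximalIdeal N ∧
      ∃ v : Fin 3 → N, IsUnit (disc v) ∧
        quad v (ι (π (algebraMap (MvPolynomial (Fin 2) R) P (MvPolynomial.X 0))))
          (ι (π (algebraMap (MvPolynomial (Fin 2) R) P (MvPolynomial.X 1)))) ∈ maximalIdeal N ^ 3 := by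
  classical
  obtain ⟨n, ρ, hρ, -⟩ := Algebra.FinitePresentation.out (R := R) (A := B)
  let A := MvPolynomial (Fin n) R
  let ψ : A →ₐ[R] N := (IsScalarTower.toAlgHom R B N).comp ρ
  let K := ResidueField N
  let res : A →+* K := (residue N).comp ψ.toRingHom
  -- a pair of generators
  obtain ⟨x, y, hxy, v, hv, hdv⟩ := hN.exists_rel
  obtain ⟨bx, tx, htx, hbx⟩ := hsurj x
  obtain ⟨by', ty, hty, hby⟩ := hsurj y
  obtain ⟨a₀, ha₀⟩ := hρ (bx * ty)
  obtain ⟨a₁, ha₁⟩ := hρ (by' * tx)
  let s₀ := algebraMap B N tx * algebraMap B N ty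
  have hs₀ : IsUnit s₀ := htx.mul hty
  have hψ₀ : ψ a₀ = s₀ * x := by
    show algebraMap B N (ρ a₀) = _
    rw [ha₀, map_mul, ← hbx]
    ring
  have hψ₁ : ψ a₁ = s₀ * y := by
    show algebraMap B N (ρ a₁) = _
    rw [ha₁, map_mul, ← hby]
    ring
  have hspan : Ideal.span {ψ a₀, ψ a₁} = maximalIdeal N := by
    rw [hψ₀, hψ₁, ← hxy, Ideal.span_insert, Ideal.span_insert,
      Ideal.span_singleton_mul_left_unit hs₀, Ideal.span_singleton_mul_left_unit hs₀]
  have hquad : quad v (ψ a₀) (ψ a₁) ∈ maximalIdeal N ^ 3 := by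
    rw [hψ₀, hψ₁, show quad v (s₀ * x) (s₀ * y) = s₀ ^ 2 * quad v x y by simp only [quad]; ring]
    exact Ideal.mul_mem_left _ _ hv
  -- the differential
  let τ : A → (Fin n → K) := fun z i => res (MvPolynomial.pderiv i z)
  have τ_add : ∀ z w, τ (z + w) = τ z + τ w := fun z w => by ext i; simp [τ]
  have τ_sub : ∀ z w, τ (z - w) = τ z - τ w := fun z w => by ext i; simp [τ]
  have τ_mul : ∀ z w, τ (z * w) = res z • τ w + res w • τ z := fun z w => by
    ext i; simp [τ, MvPolynomial.pderiv_mul]
  have τ_C : ∀ r, τ (MvPolynomial.C r) = 0 := fun r => by ext i; simp [τ]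
  have τ_X : ∀ j, τ (MvPolynomial.X j) = Pi.single j 1 := fun j => by
    ext i
    by_cases h : i = j
    · subst h; simp [τ]
    · simp [τ, MvPolynomial.pderiv_X_of_ne (Ne.symm h), h]
  -- the comparison with the cotangent space
  obtain ⟨δ, hδ⟩ := Delta.exists_delta k N
  let δ' : N → CotangentSpace N := δ
  have hKsmul : ∀ (z : N) (c : CotangentSpace N), residue N z • c = z • c :=
    fun z c => algebraMap_smul K z c
  let l : (Fin n → K) →ₗ[K] CotangentSpace N :=
    Fintype.linearCombination K fun i => δ' (ψ (MvPolynomial.X i))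
  have hl : ∀ z, l (τ z) = δ' (ψ z) := by
    intro z
    induction z using MvPolynomial.induction_on with
    | C r =>
      rw [τ_C, map_zero]
      show (0 : CotangentSpace N) = δ (ψ (algebraMap R A r))
      rw [AlgHom.commutes, IsScalarTower.algebraMap_apply R k N, Derivation.map_algebraMap]
    | add p q hp hq =>
      rw [τ_add, map_add, hp, hq, map_add]
      exact (map_add δ _ _).symm
    | mul_X p j hp =>
      rw [τ_mul, map_add, map_smul, map_smul, hp, τ_X, Fintype.linearCombination_apply_single, one_smul]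
      show residue N (ψ p) • δ' (ψ (MvPolynomial.X j)) + residue N (ψ (MvPolynomial.X j)) • δ' (ψ p) = _
      rw [hKsmul, hKsmul, map_mul]
      exact (δ.leibniz _ _).symm
  have hl₀ : l (τ a₀) = (maximalIdeal N).toCotangent ⟨ψ a₀, mem_left hspan⟩ :=
    (hl _).trans (hδ _ _)
  have hl₁ : l (τ a₁) = (maximalIdeal N).toCotangent ⟨ψ a₁, mem_right hspan⟩ :=
    (hl _).trans (hδ _ _)
  let pair : Fin 2 → (Fin n → K) := ![τ a₀, τ a₁]
  have hpair : LinearIndependent K (l ∘ pair) := by
    rw [Fintype.linearIndependent_iff]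
    intro c hc
    obtain ⟨α, hα⟩ := residue_surjective (c 0)
    obtain ⟨β, hβ⟩ := residue_surjective (c 1)
    rw [Fin.sum_univ_two] at hc
    simp only [Function.comp_apply, pair, Matrix.cons_val_zero, Matrix.cons_val_one, hl₀, hl₁] at hc
    rw [← hα, ← hβ, hKsmul, hKsmul, ← map_smul, ← map_smul, ← map_add,
      Ideal.toCotangent_eq_zero] at hc
    obtain ⟨hα', hβ'⟩ := HasLengths.coeff_mem hN.length hspan (α := α) (β := β) (by simpa using hc)
    intro i
    fin_cases i
    · show c 0 = 0
      rw [← hα, residue_eq_zero_iff]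
      exact hα'
    · show c 1 = 0
      rw [← hβ, residue_eq_zero_iff]
      exact hβ'
  -- the kernel
  let S₀ : Set (Fin n → K) := τ '' {z | ρ z = 0}
  let W := Submodule.span K S₀
  have hWl : W ≤ LinearMap.ker l := by
    rw [Submodule.span_le]
    rintro _ ⟨z, hz, rfl⟩
    rw [SetLike.mem_coe, LinearMap.mem_ker, hl]
    have : ψ z = 0 := by
      show algebraMap B N (ρ z) = 0
      rw [show ρ z = 0 from hz, map_zero]
    rw [this]
    exact map_zero δ
  -- spanning
  have htop : W ⊔ Submodule.span K (Set.range pair) = ⊤ := by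
    set V := W ⊔ Submodule.span K (Set.range pair)
    let d : A → (Fin n → K) ⧸ V := fun z => Submodule.Quotient.mk (τ z)
    have d_sub : ∀ z w, d (z - w) = d z - d w := fun z w => by simp [d, τ_sub]
    have d_mul : ∀ z w, d (z * w) = res z • d w + res w • d z := fun z w => by simp [d, τ_mul]
    have d_ker : ∀ z, ρ z = 0 → d z = 0 := fun z hz =>
      (Submodule.Quotient.mk_eq_zero V).2 (Submodule.mem_sup_left (Submodule.subset_span ⟨z, hz, rfl⟩))
    have d_a₀ : d a₀ = 0 :=
      (Submodule.Quotient.mk_eq_zero V).2 (Submodule.mem_sup_right (Submodule.subset_span ⟨0, rfl⟩))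
    have d_a₁ : d a₁ = 0 :=
      (Submodule.Quotient.mk_eq_zero V).2 (Submodule.mem_sup_right (Submodule.subset_span ⟨1, rfl⟩))
    have res_unit : ∀ z, IsUnit (ψ z) → res z ≠ 0 := fun z hz => (hz.map (residue N)).ne_zero
    have hI : ∀ w : A, w ∈ (RingHom.ker (algebraMap R k)).map (algebraMap R A) → res w = 0 ∧ τ w = 0 := by
      intro w hw
      induction hw using Submodule.span_induction with
      | mem w hw =>
        obtain ⟨r, hr, rfl⟩ := hw
        refine ⟨?_, τ_C r⟩
        show residue N (ψ (algebraMap R A r)) = 0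
        rw [AlgHom.commutes, IsScalarTower.algebraMap_apply R k N, RingHom.mem_ker.1 hr, map_zero,
          map_zero]
      | zero => exact ⟨map_zero _, by ext i; simp [τ]⟩
      | add w₁ w₂ _ _ h₁ h₂ =>
        exact ⟨by rw [map_add, h₁.1, h₂.1, add_zero], by rw [τ_add, h₁.2, h₂.2, add_zero]⟩
      | smul c w _ h =>
        refine ⟨by rw [smul_eq_mul, map_mul, h.1, mul_zero], ?_⟩
        rw [smul_eq_mul, τ_mul, h.1, h.2, smul_zero, zero_smul, add_zero]
    have d_ψ : ∀ z, ψ z = 0 → d z = 0 := by
      intro z hz
      obtain ⟨t, ht, htz⟩ := hker (ρ z) hz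
      obtain ⟨t, rfl⟩ := hρ t
      have hmap : (RingHom.ker (algebraMap R k)).map (algebraMap R B) =
          ((RingHom.ker (algebraMap R k)).map (algebraMap R A)).map ρ.toRingHom := by
        rw [Ideal.map_map, ρ.toRingHom_eq_coe, ρ.comp_algebraMap]
      rw [← map_mul, hmap] at htz
      obtain ⟨w, hw, hwz⟩ := (Ideal.mem_map_iff_of_surjective ρ.toRingHom hρ).1 htz
      have h1 : d (t * z) = 0 := by
        have := d_ker (t * z - w) (by
          rw [map_sub, sub_eq_zero]
          exact hwz.symm)
        rw [d_sub, sub_eq_zero] at this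
        rw [this]
        show Submodule.Quotient.mk (τ w) = 0
        rw [(hI w hw).2, Submodule.Quotient.mk_zero]
      have hz' : res z = 0 := by
        show residue N (ψ z) = 0
        rw [hz, map_zero]
      rw [d_mul, hz', zero_smul, add_zero] at h1
      exact (smul_eq_zero.1 h1).resolve_left (res_unit t ht)
    have d_max : ∀ z, res z = 0 → d z = 0 := by
      intro z hz
      have hzm : ψ z ∈ Ideal.span {ψ a₀, ψ a₁} := by
        rw [hspan]
        exact (residue_eq_zero_iff _).1 hz
      obtain ⟨α, β, hαβ⟩ := Ideal.mem_span_pair.1 hzm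
      obtain ⟨c, t, ht, hc⟩ := hsurj α
      obtain ⟨e, t', ht', he⟩ := hsurj β
      obtain ⟨c, rfl⟩ := hρ c
      obtain ⟨e, rfl⟩ := hρ e
      obtain ⟨t, rfl⟩ := hρ t
      obtain ⟨t', rfl⟩ := hρ t'
      have hψ' : ψ (t * t' * z - (c * t' * a₀ + e * t * a₁)) = 0 := by
        have hc' : α * ψ t = ψ c := hc
        have he' : β * ψ t' = ψ e := he
        simp only [map_sub, map_add, map_mul]
        linear_combination (-(ψ t * ψ t')) * hαβ + (ψ t' * ψ a₀) * hc' + (ψ t * ψ a₁) * he'
      have h1 := d_ψ _ hψ'
      have hr₀ : res a₀ = 0 := (residue_eq_zero_iff _).2 (mem_left hspan)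
      have hr₁ : res a₁ = 0 := (residue_eq_zero_iff _).2 (mem_right hspan)
      have h2 : d (c * t' * a₀ + e * t * a₁) = 0 := by
        show Submodule.Quotient.mk (τ _) = 0
        rw [τ_add, Submodule.Quotient.mk_add]
        show d (c * t' * a₀) + d (e * t * a₁) = 0
        rw [d_mul (c * t') a₀, d_mul (e * t) a₁, d_a₀, d_a₁, hr₀, hr₁]
        simp
      rw [d_sub, h2, sub_zero, d_mul, hz, zero_smul, add_zero] at h1
      refine (smul_eq_zero.1 h1).resolve_left ?_
      rw [map_mul]
      exact mul_ne_zero (res_unit _ ht) (res_unit _ ht')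
    have d_all : ∀ z, d z = 0 := by
      intro z
      have hint : IsIntegral k (res z) := Algebra.IsIntegral.isIntegral _
      obtain ⟨s, F, hs, hF⟩ := exists_integer_poly hk (minpoly k (res z))
      have hsep : (minpoly k (res z)).Separable := Algebra.IsSeparable.isSeparable k (res z)
      have hresC : ∀ r : R, res (MvPolynomial.C r) = algebraMap k K (algebraMap R k r) := fun r => by
        show residue N (ψ (algebraMap R A r)) = _
        rw [AlgHom.commutes, IsScalarTower.algebraMap_apply R k N]
        rfl
      have heval : ∀ G : Polynomial R, res (Polynomial.aeval z G) =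
          Polynomial.aeval (res z) (G.map (algebraMap R k)) := by
        intro G
        induction G using Polynomial.induction_on' with
        | add p q hp hq => simp only [map_add, Polynomial.map_add, hp, hq]
        | monomial i r =>
          rw [Polynomial.aeval_monomial, Polynomial.map_monomial, Polynomial.aeval_monomial, map_mul,
            map_pow]
          exact congrArg (· * _) (hresC r)
      have hderiv : ∀ G : Polynomial R, d (Polynomial.aeval z G) =
          res (Polynomial.aeval z (Polynomial.derivative G)) • d z := by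
        intro G
        induction G using Polynomial.induction_on with
        | C r =>
          rw [Polynomial.aeval_C, Polynomial.derivative_C, map_zero, map_zero, zero_smul]
          show Submodule.Quotient.mk (τ (MvPolynomial.C r)) = 0
          rw [τ_C, Submodule.Quotient.mk_zero]
        | add p q hp hq =>
          rw [map_add, Polynomial.derivative_add, map_add, map_add, add_smul, ← hp, ← hq]
          show Submodule.Quotient.mk (τ _) = _
          rw [τ_add, Submodule.Quotient.mk_add]
        | monomial i r hp =>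
          have e : Polynomial.C r * Polynomial.X ^ (i + 1) = Polynomial.C r * Polynomial.X ^ i * Polynomial.X := by
            ring
          rw [e, map_mul, Polynomial.aeval_X, d_mul, hp,
            Polynomial.derivative_mul (f := Polynomial.C r * Polynomial.X ^ i) (g := Polynomial.X),
            Polynomial.derivative_X, mul_one]
          simp only [map_add, map_mul, Polynomial.aeval_X, smul_smul, add_smul]
          rw [mul_comm (res z), add_comm]
      have h0 : res (Polynomial.aeval z F) = 0 := by
        rw [heval, hF, map_mul, minpoly.aeval, mul_zero]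
      have h1 : res (Polynomial.aeval z (Polynomial.derivative F)) ≠ 0 := by
        rw [heval, ← Polynomial.derivative_map, hF, Polynomial.derivative_mul, Polynomial.derivative_C,
          zero_mul, zero_add, map_mul, Polynomial.aeval_C]
        exact mul_ne_zero ((map_ne_zero_iff _ (RingHom.injective _)).2 hs)
          (hsep.aeval_derivative_ne_zero (minpoly.aeval k _))
      have h2 := d_max _ h0
      rw [hderiv] at h2
      exact (smul_eq_zero.1 h2).resolve_left h1
    rw [eq_top_iff]
    intro w _
    rw [pi_eq_sum_univ w]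
    refine Submodule.sum_mem _ fun j _ => Submodule.smul_mem _ _ ?_
    have := (Submodule.Quotient.mk_eq_zero V).1 (d_all (MvPolynomial.X j))
    rw [τ_X] at this
    convert this using 1
    ext i
    by_cases h : i = j
    · subst h; simp
    · simp [h, Ne.symm h]
  -- a basis from the relations and the pair
  obtain ⟨sel, hsel, hselspan, hselli⟩ := exists_linearIndependent K S₀
  have hli : LinearIndependent K (Sum.elim pair ((↑) : sel → (Fin n → K))) := by
    refine (hpair.of_comp l).sum_type hselli ?_
    rw [Subtype.range_coe, Submodule.disjoint_def]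
    intro w hw hw'
    rw [hselspan] at hw'
    obtain ⟨c, rfl⟩ := (Submodule.mem_span_range_iff_exists_fun K).1 hw
    have hz := hWl hw'
    rw [LinearMap.mem_ker, map_sum] at hz
    simp only [map_smul] at hz
    have hc := (Fintype.linearIndependent_iff.1 hpair) c hz
    simp [hc]
  have hsp : ⊤ ≤ Submodule.span K (Set.range (Sum.elim pair ((↑) : sel → (Fin n → K)))) := by
    rw [Set.Sum.elim_range, Submodule.span_union, Subtype.range_coe, hselspan, sup_comm]
    exact htop.ge
  let bas := Module.Basis.mk hli hsp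
  let e : (Fin 2 ⊕ sel) ≃ Fin n := bas.indexEquiv (Pi.basisFun K (Fin n))
  choose g hg hgτ using fun w : sel => hsel w.2
  let L : Fin n → A := fun j => Sum.elim ![a₀, a₁] g (e.symm j)
  have hL : (fun j => τ (L j)) = Sum.elim pair ((↑) : sel → (Fin n → K)) ∘ e.symm := by
    funext j
    show τ (Sum.elim ![a₀, a₁] g (e.symm j)) = _
    rcases h : e.symm j with i | w
    · simp only [Sum.elim_inl, Function.comp_apply, h, pair]
      fin_cases i <;> rfl
    · simp only [Sum.elim_inr, Function.comp_apply, h]
      exact hgτ w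
  let J : Matrix (Fin n) (Fin n) A := Matrix.of fun i j => MvPolynomial.pderiv j (L i)
  have hJ : res J.det ≠ 0 := by
    rw [RingHom.map_det]
    have h1 : IsUnit (res.mapMatrix J) := by
      rw [← Matrix.linearIndependent_rows_iff_isUnit]
      show LinearIndependent K fun j => τ (L j)
      rw [hL]
      exact hli.comp _ e.symm.injective
    exact ((Matrix.isUnit_iff_isUnit_det _).1 h1).ne_zero
  let E := Localization.Away J.det
  haveI : Algebra.FormallyEtale A E := Algebra.FormallyEtale.of_isLocalization (Submonoid.powers J.det)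
  let bE : Module.Basis (Fin n) E Ω[E⁄R] := ((mvPolynomialBasis R (Fin n)).baseChange E).map
    (tensorKaehlerEquivOfFormallyEtale R A E)
  have hbE : ∀ (z : A) j, bE.repr (D R E (algebraMap A E z)) j =
      algebraMap A E (MvPolynomial.pderiv j z) := by
    intro z j
    simp only [bE, Module.Basis.map_repr, LinearEquiv.trans_apply,
      tensorKaehlerEquivOfFormallyEtale_symm_D_algebraMap]
    erw [Module.Basis.baseChange_repr_tmul, mvPolynomialBasis_repr_apply]
    rw [Algebra.smul_def, mul_one]
  have hbas : IsUnit (bE.det fun i => D R E (algebraMap A E (L i))) := by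
    have hmat : bE.toMatrix (fun i => D R E (algebraMap A E (L i))) =
        ((algebraMap A E).mapMatrix J).transpose := by
      ext i j
      rw [Module.Basis.toMatrix_apply, hbE]
      rfl
    rw [Module.Basis.det_apply, hmat, Matrix.det_transpose, ← RingHom.map_det]
    exact IsLocalization.Away.algebraMap_isUnit J.det
  haveI : Algebra.FormallySmooth R E := Algebra.FormallySmooth.comp R A E
  haveI : Algebra.Etale A E := Algebra.Etale.of_isLocalizationAway J.det
  haveI : Algebra.FinitePresentation R E := Algebra.FinitePresentation.trans R A E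
  let φE : MvPolynomial (Fin n) R →ₐ[R] E := MvPolynomial.aeval fun i => algebraMap A E (L i)
  have hφE : φE.toRingHom.Etale := etale_aeval _ ((bE.is_basis_iff_det).2 hbas)
  -- kill the relations
  let B' := Localization.Away (ρ J.det)
  haveI : Algebra.Etale B B' := Algebra.Etale.of_isLocalizationAway (ρ J.det)
  have hρ' : IsUnit (algebraMap B B' (ρ J.det)) := IsLocalization.Away.algebraMap_isUnit _
  let ρE : E →+* B' := IsLocalization.Away.lift J.det (g := (algebraMap B B').comp ρ.toRingHom) hρ'
  have hρE : ∀ a : A, ρE (algebraMap A E a) = algebraMap B B' (ρ a) :=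
    fun a => IsLocalization.Away.lift_eq J.det _ a
  have hρR : ∀ r : R, ρE (φE (algebraMap R _ r)) = algebraMap R B' r := fun r => by
    rw [AlgHom.commutes, IsScalarTower.algebraMap_apply R A E, hρE, AlgHom.commutes,
      ← IsScalarTower.algebraMap_apply]
  have hEsurj : Function.Surjective ρE := fun b => by
    obtain ⟨⟨m, s⟩, h⟩ := IsLocalization.mk'_surjective (Submonoid.powers (ρ J.det)) b
    obtain ⟨i, hi⟩ := s.2
    obtain ⟨m', hm⟩ := hρ m
    refine ⟨IsLocalization.mk' (M := Submonoid.powers J.det) E m' ⟨J.det ^ i, i, rfl⟩, ?_⟩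
    rw [← h, IsLocalization.eq_mk'_iff_mul_eq, ← hm, ← hρE m',
      ← IsLocalization.mk'_spec (M := Submonoid.powers J.det) E m' ⟨J.det ^ i, i, rfl⟩, map_mul, hρE, map_pow,
      show ρ J.det ^ i = (s : B) from hi]
  let kill : MvPolynomial (Fin n) R →ₐ[R] MvPolynomial (Fin 2) R :=
    MvPolynomial.aeval fun j => Sum.elim (fun i => MvPolynomial.X i) (fun _ => 0) (e.symm j)
  have hkill : Function.Surjective kill := fun p => by
    refine ⟨MvPolynomial.rename (fun i => e (Sum.inl i)) p, ?_⟩
    rw [MvPolynomial.aeval_rename]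
    simp [Function.comp_def]
  let gB : MvPolynomial (Fin 2) R →ₐ[R] B' :=
    MvPolynomial.aeval ![algebraMap B B' (ρ a₀), algebraMap B B' (ρ a₁)]
  let ρEa : E →ₐ[R] B' :=
    { ρE with
      commutes' := fun r => by
        show ρE (algebraMap R E r) = _
        rw [← φE.commutes r]
        exact hρR r }
  have hgk : gB.comp kill = ρEa.comp φE := by
    refine MvPolynomial.algHom_ext fun j => ?_
    show gB (kill (MvPolynomial.X j)) = ρE (φE (MvPolynomial.X j))
    simp only [kill, φE, MvPolynomial.aeval_X, L]
    refine Eq.trans ?_ (hρE _).symm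
    rcases e.symm j with i | w
    · simp only [Sum.elim_inl, gB, MvPolynomial.aeval_X]
      fin_cases i <;> rfl
    · simp only [Sum.elim_inr, map_zero]
      rw [show ρ (g w) = 0 from hg w, map_zero]
  obtain ⟨P, iP, iRP, iXP, iT, iEt, π, hπs, hπX⟩ := exists_kill φE hφE ρEa hEsurj kill gB hgk
  have hu : IsUnit (algebraMap B N (ρ J.det)) := by
    by_contra h
    exact hJ ((residue_eq_zero_iff _).2 ((mem_maximalIdeal _).2 h))
  let ι₀ : B' →+* N := IsLocalization.Away.lift (ρ J.det) hu
  have hι : ∀ b, ι₀ (algebraMap B B' b) = algebraMap B N b := fun b =>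
    IsLocalization.Away.lift_eq (ρ J.det) hu b
  let ι : B' →ₐ[R] N :=
    { ι₀ with
      commutes' := fun r => by
        show ι₀ (algebraMap R B' r) = _
        rw [IsScalarTower.algebraMap_apply R B B', hι, ← IsScalarTower.algebraMap_apply] }
  have hιker : ∀ b', ι b' = 0 → ∃ t, IsUnit (ι t) ∧
      t * b' ∈ (RingHom.ker (algebraMap R k)).map (algebraMap R B') := by
    intro b' hb'
    obtain ⟨⟨m, s⟩, hm⟩ := IsLocalization.surj (Submonoid.powers (ρ J.det)) b'
    have h0 : algebraMap B N m = 0 := by
      rw [← hι, show algebraMap B B' m = b' * algebraMap B B' s from hm.symm]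
      show ι (b' * algebraMap B B' s) = 0
      rw [map_mul, hb', zero_mul]
    obtain ⟨t, ht, htm⟩ := hker m h0
    refine ⟨algebraMap B B' t * algebraMap B B' s, ?_, ?_⟩
    · rw [map_mul]
      exact ((hι t).symm ▸ ht).mul (((IsLocalization.map_units B' s).map ι))
    · rw [mul_assoc, mul_comm _ b', show b' * algebraMap B B' s = algebraMap B B' m from hm,
        ← map_mul, IsScalarTower.algebraMap_eq R B B', ← Ideal.map_map]
      exact Ideal.mem_map_of_mem _ htm
  have hcoord : ∀ i, ι (π (algebraMap (MvPolynomial (Fin 2) R) P (MvPolynomial.X i))) =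
      ![ψ a₀, ψ a₁] i := fun i => by
    rw [hπX]
    show ι₀ (gB (MvPolynomial.X i)) = _
    rw [MvPolynomial.aeval_X]
    fin_cases i
    · exact hι _
    · exact hι _
  refine ⟨P, iP, iRP, iXP, iT, iEt, B',
    inferInstance, inferInstance, inferInstance, inferInstance, inferInstance, π, ι, hπs, hι,
    IsLocalization.flat B' (Submonoid.powers (ρ J.det)), hιker, ?_,
    v, hdv, ?_⟩
  · rw [hcoord, hcoord]
    exact hspan
  · rw [hcoord, hcoord]
    exact hquad

end

end Groth.Agent.H25.Morse.Presentation
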