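import Groth.Agent.H25.Morse.ModelCurve
import Groth.Agent.Lib.CurveBundle.SmoothField
import Groth.Agent.S1592
import Groth.Agent.S1593
import Groth.Agent.S1595

/-!
Smooth morphisms of relative dimension one are nodal families; the relative dimension is read
off a fibre.
-/

set_option autoImplicit false
set_option linter.style.haveILetI false
universe u

open CategoryTheory CategoryTheory.Limits AlgebraicGeometry IsLocalRing

attribute [local instance] Curv2.stalkAlgebra

namespace Groth.Agent.H25.Morse.RelDim

/-- The affine line. -/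
theorem line (R : Type u) [CommRing R] :
    Curv2.IsNodalFamily (Spec.map (CommRingCat.ofHom (algebraMap R (Polynomial R)))) := by
  set f := Spec.map (CommRingCat.ofHom (algebraMap R (Polynomial R)))
  have hflat : Flat f := Flat.SpecMap_iff.2 (RingHom.flat_algebraMap_iff.2 inferInstance)
  have hfp : LocallyOfFinitePresentation f := by
    rw [HasRingHomProperty.Spec_iff (P := @LocallyOfFinitePresentation)]
    exact RingHom.finitePresentation_algebraMap.2 inferInstance
  refine ⟨hflat, hfp, fun s => ?_⟩
  let L : Type u := (Spec (CommRingCat.of R)).residueField s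
  let ρ : R →+* L := (Spec.preimage ((Spec (CommRingCat.of R)).fromSpecResidueField s)).hom
  letI : Algebra R L := ρ.toAlgebra
  have hρ : Spec.map (CommRingCat.ofHom (algebraMap R L)) = (Spec (CommRingCat.of R)).fromSpecResidueField s :=
    Spec.map_preimage _
  letI : Algebra (Polynomial R) (Polynomial L) := Polynomial.algebra R L
  have hpb := isPullback_SpecMap_of_isPushout _ _ _ _
    (CommRingCat.isPushout_of_isPushout R L (Polynomial R) (Polynomial L))
  rw [hρ] at hpb
  have hf : IsPullback (f.fiberToSpecResidueField s) (f.fiberι s)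
      ((Spec (CommRingCat.of R)).fromSpecResidueField s) f := (IsPullback.of_hasPullback _ _).flip
  let e : f.fiber s ≅ Spec (CommRingCat.of (Polynomial L)) := hf.isoIsPullback _ _ hpb
  letI : (Spec (CommRingCat.of (Polynomial L))).Over (Spec (CommRingCat.of L)) :=
    ⟨Spec.map (CommRingCat.ofHom (algebraMap L (Polynomial L)))⟩
  haveI hs : Smooth ((Spec (CommRingCat.of (Polynomial L))) ↘ Spec (CommRingCat.of L)) := by
    show Smooth (Spec.map (CommRingCat.ofHom (algebraMap L (Polynomial L))))
    rw [HasRingHomProperty.Spec_iff (P := @Smooth)]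
    exact RingHom.smooth_algebraMap.2 ⟨inferInstance, inferInstance⟩
  letI : (f.fiber s).Over (Spec (CommRingCat.of L)) := ⟨f.fiberToSpecResidueField s⟩
  refine Node.Invariance.etale L (Spec (CommRingCat.of (Polynomial L))) (ModelCurve.comps_line L) ?_
    e.hom (hf.isoIsPullback_hom_fst _ _ hpb)
  intro x _
  exact Or.inl ⟨⊤, trivial, inferInstance⟩

/-- Spec of a ring étale over `R[t]`. -/
theorem standard {R C : Type u} [CommRing R] [CommRing C] [Algebra R C]
    [Algebra.IsStandardSmoothOfRelativeDimension 1 R C] :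
    Curv2.IsNodalFamily (Spec.map (CommRingCat.ofHom (algebraMap R C))) := by
  obtain ⟨g, hg⟩ := Algebra.IsStandardSmoothOfRelativeDimension.exists_etale_mvPolynomial (n := 1) R C
  let E : MvPolynomial (Fin 1) R ≃ₐ[R] Polynomial R := MvPolynomial.uniqueAlgEquiv R (Fin 1)
  let g' : Polynomial R →ₐ[R] C := g.comp E.symm.toAlgHom
  have hg' : g'.toRingHom.Etale := RingHom.Etale.respectsIso.2 _ E.symm.toRingEquiv hg
  haveI : Etale (Spec.map (CommRingCat.ofHom g'.toRingHom)) := by
    rwa [HasRingHomProperty.Spec_iff (P := @Etale)]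
  have h := S1592.result _ (line R) (Spec.map (CommRingCat.ofHom g'.toRingHom))
  rw [← Spec.map_comp, ← CommRingCat.ofHom_comp] at h
  convert h using 4
  exact (RingHom.ext fun r => g'.commutes r).symm

/-- Smooth of relative dimension one gives a nodal family. -/
theorem isNodalFamily {X S : Scheme.{u}} (f : X ⟶ S) [SmoothOfRelativeDimension 1 f] :
    Curv2.IsNodalFamily f := by
  choose U hU V hV hxV e hst using
    SmoothOfRelativeDimension.exists_isStandardSmoothOfRelativeDimension (n := 1) (f := f)
  refine S1593.result f X (fun x => (V x : Scheme.{u})) (fun x => (V x).ι) (fun x => ⟨x, ⟨x, hxV x⟩, rfl⟩)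
    fun x => ?_
  letI := (f.appLE (U x) (V x) (e x)).hom.toAlgebra
  haveI : Algebra.IsStandardSmoothOfRelativeDimension 1 Γ(S, U x) Γ(X, V x) := hst x
  have h := S1595.result (hU x).fromSpec _ (standard (R := Γ(S, U x)) (C := Γ(X, V x)))
  have h' := S1592.result _ h (hV x).isoSpec.hom
  have e1 : (V x).ι ≫ f = (hV x).isoSpec.hom ≫ Spec.map (f.appLE (U x) (V x) (e x)) ≫ (hU x).fromSpec := by
    rw [(hU x).SpecMap_appLE_fromSpec f (hV x) (e x), (hV x).isoSpec_hom_fromSpec_assoc]
  rw [e1]
  exact h'

/-- The relative dimension of a smooth curve over a field is one. -/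
theorem eq_one (k : Type u) [Field k] (W : Scheme.{u}) (p : W ⟶ Spec (CommRingCat.of k)) (n : ℕ)
    [SmoothOfRelativeDimension n p]
    (hdim : ∀ Z ∈ irreducibleComponents (W : Type u), topologicalKrullDim Z = 1) (w : W) :
    n = 1 := by
  haveI := SmoothOfRelativeDimension.smooth n p
  haveI : JacobsonSpace W := LocallyOfFiniteType.jacobsonSpace p
  obtain ⟨x, -, hx⟩ := nonempty_inter_closedPoints (Z := (Set.univ : Set W)) ⟨w, trivial⟩
    isClosed_univ.isLocallyClosed
  rw [mem_closedPoints_iff] at hx
  obtain ⟨U, hU, V, hV, hxV, e, hst⟩ :=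
    SmoothOfRelativeDimension.exists_isStandardSmoothOfRelativeDimension (n := n) (f := p) x
  have hUtop : U = ⊤ := TopologicalSpace.Opens.ext (Set.eq_univ_of_forall fun y => by
    rw [Subsingleton.elim y (p x)]; exact e hxV)
  subst hUtop
  rcases Nat.lt_trichotomy n 1 with hn | hn | hn
  · exfalso
    obtain rfl : n = 0 := by omega
    haveI : Etale p := (Etale.iff_smoothOfRelativeDimension_zero p).2 inferInstance
    haveI : LocallyQuasiFinite p := Lib.Henselian.DescendSection.locallyQuasiFinite_of_etale p
    obtain ⟨z, hz, hne⟩ := Node.Dim.exists_generization hdim x hx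
    exact hne (Node.Dim.eq_of_specializes p hz (Subsingleton.elim _ _))
  · exact hn
  · exfalso
    let χ : CommRingCat.of k ⟶ Γ(W, V) := (Scheme.ΓSpecIso _).inv ≫ p.appLE ⊤ V e
    have hχ : χ.hom.IsStandardSmoothOfRelativeDimension n :=
      (RingHom.isStandardSmoothOfRelativeDimension_respectsIso (n := n)).2 _
        (Scheme.ΓSpecIso (CommRingCat.of k)).commRingCatIsoToRingEquiv.symm hst
    letI := χ.hom.toAlgebra
    haveI : Algebra.IsStandardSmoothOfRelativeDimension n k Γ(W, V) := hχ
    let q := (hV.primeIdealOf ⟨x, hxV⟩).asIdeal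
    haveI : q.IsMaximal := hV.primeIdealOf_isMaximal_of_isClosed ⟨x, hxV⟩ hx
    have h1 := Lib.CurveBundle.SmoothField.le_height k n q
    have h2 : ringKrullDim Γ(W, V) ≤ 1 := by
      rw [← PrimeSpectrum.topologicalKrullDim_eq_ringKrullDim]
      show topologicalKrullDim (Spec Γ(W, V)) ≤ 1
      rw [← IsHomeomorph.topologicalKrullDim_eq _ hV.isoSpec.hom.homeomorph.isHomeomorph]
      exact (topologicalKrullDim_subspace_le W (V : Set W)).trans (Node.AtWorst.dim_le_one W hdim)
    have h3 : (q.height : WithBot ℕ∞) ≤ 1 :=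
      (Ideal.height_le_ringKrullDim_of_ne_top (Ideal.IsPrime.ne_top inferInstance)).trans h2
    have h4 : (n : ℕ∞) ≤ 1 := h1.trans (WithBot.coe_le_coe.mp h3)
    have h5 : n ≤ 1 := by exact_mod_cast h4
    omega

end Groth.Agent.H25.Morse.RelDim
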