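import Groth.Agent.H25.Morse.ModelAlg
import Groth.Agent.H25.Fitting
import Mathlib.RingTheory.Etale.Kaehler
import Mathlib.RingTheory.Unramified.Locus
import Mathlib.RingTheory.Kaehler.TensorProduct
import Mathlib.Algebra.DualNumber

/-!
The first Fitting ideal of the differentials of a nodal algebra, and unramifiedness of its quotient.
-/

set_option autoImplicit false
set_option linter.style.haveILetI false
universe u

open scoped TensorProduct

namespace Groth.Agent.H25.Morse.SingAlg

open ModelAlg KaehlerDifferential

variable {C : Type u} [CommRing C] (h : C)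

/-- The ideal of the singular section. -/
noncomputable def J : Ideal (M h) := Ideal.span {gen h 0, gen h 1}

theorem d_rel : gen h 1 • D C (M h) (gen h 0) + gen h 0 • D C (M h) (gen h 1) = 0 := by
  have h1 := congrArg (D C (M h)) (gen_mul h)
  rw [Derivation.leibniz, Derivation.map_algebraMap] at h1
  rw [add_comm]
  exact h1

theorem span_d : Submodule.span (M h) (Set.range fun i => D C (M h) (gen h i)) = ⊤ := by
  rw [← top_le_iff, ← span_range_derivation C (M h), Submodule.span_le]
  rintro _ ⟨z, rfl⟩
  obtain ⟨p, rfl⟩ := Ideal.Quotient.mk_surjective z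
  induction p using MvPolynomial.induction_on with
  | C a =>
    show D C (M h) (algebraMap C (M h) a) ∈ _
    rw [Derivation.map_algebraMap]
    exact zero_mem _
  | add p q hp hq => simp only [map_add]; exact add_mem hp hq
  | mul_X p i hp =>
    rw [map_mul, Derivation.leibniz]
    exact add_mem (Submodule.smul_mem _ _ (Submodule.subset_span ⟨i, rfl⟩)) (Submodule.smul_mem _ _ hp)

theorem J_eq : J h = Ideal.span (Set.range (gen h)) := by
  unfold J
  congr 1
  ext z
  simp [Fin.exists_fin_two, eq_comm, or_comm]

/-- Derivations into rings where the coordinates vanish. -/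
theorem exists_derivation (E : Type u) [CommRing E] [Algebra C E] [Algebra (M h) E] [IsScalarTower C (M h) E]
    (hE : ∀ j, algebraMap (M h) E (gen h j) = 0) (i : Fin 2) :
    ∃ L : Ω[(M h)⁄C] →ₗ[M h] E, ∀ j, L (D C (M h) (gen h j)) = if j = i then 1 else 0 := by
  let a : Fin 2 → TrivSqZeroExt E E := fun j => TrivSqZeroExt.inr (if j = i then (1 : E) else 0)
  let ιC : C →+* TrivSqZeroExt E E := (TrivSqZeroExt.inlHom E E).comp (algebraMap C E)
  have ha : a 0 * a 1 = ιC h := by
    have h0 : algebraMap C E h = 0 := by
      rw [IsScalarTower.algebraMap_apply C (M h) E, ← gen_mul h, map_mul, hE, zero_mul]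
    simp [a, ιC, h0, TrivSqZeroExt.inr_mul_inr]
  let ψ : M h →+* TrivSqZeroExt E E := lift h ιC (a 0) (a 1) ha
  have hψC : ∀ r, ψ (algebraMap C _ r) = ιC r := lift_const _ _ _ _ _
  have hψX : ∀ j, ψ (gen h j) = a j := fun j => by
    refine (lift_gen _ _ _ _ _ j).trans ?_
    fin_cases j <;> rfl
  have hfst : ∀ z, TrivSqZeroExt.fst (ψ z) = algebraMap (M h) E z := by
    have : (TrivSqZeroExt.fstHom E E E).toRingHom.comp ψ = algebraMap (M h) E := by
      refine hom_ext h (fun r => ?_) fun j => ?_
      · show TrivSqZeroExt.fst (ψ (algebraMap C _ r)) = _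
        rw [hψC, ← IsScalarTower.algebraMap_apply C (M h) E]
        rfl
      · show TrivSqZeroExt.fst (ψ (gen h j)) = _
        rw [hψX, hE]
        exact TrivSqZeroExt.fst_inr E _
    exact fun z => RingHom.congr_fun this z
  let δ : Derivation C (M h) E := Derivation.mk'
    { toFun := fun z => TrivSqZeroExt.snd (ψ z)
      map_add' := fun x y => by simp [map_add]
      map_smul' := fun r z => by
        rw [RingHom.id_apply, Algebra.smul_def, map_mul, hψC]
        simp [ιC, Algebra.smul_def] }
    (fun x y => by
      show TrivSqZeroExt.snd (ψ (x * y)) = x • TrivSqZeroExt.snd (ψ y) + y • TrivSqZeroExt.snd (ψ x)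
      rw [map_mul, TrivSqZeroExt.snd_mul, hfst, hfst]
      simp [Algebra.smul_def]
      ring)
  refine ⟨δ.liftKaehlerDifferential, fun j => ?_⟩
  rw [Derivation.liftKaehlerDifferential_comp_D]
  show TrivSqZeroExt.snd (ψ (gen h j)) = _
  rw [hψX]
  rfl

/-- The first Fitting ideal of `uv = h`. -/
theorem fitt_model : Fitt.ideal (M h) Ω[(M h)⁄C] 1 = J h := by
  rw [H25.Fitting.ideal_eq (fun i => D C (M h) (gen h i)) (span_d h), H25.Fitting.Mn]
  refine le_antisymm (Ideal.span_le.2 ?_) ?_
  · rintro _ ⟨z, e, hz, rfl⟩
    have hrel : ∀ b, z b 0 • D C (M h) (gen h 0) + z b 1 • D C (M h) (gen h 1) = 0 := fun b => by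
      have := hz b
      simpa [H25.Fitting.rel, Fintype.linearCombination_apply, Fin.sum_univ_two] using this
    have hmem : ∀ b j, z b j ∈ J h := fun b j => by
      obtain ⟨L, hL⟩ := exists_derivation h (M h ⧸ J h)
        (fun k => Ideal.Quotient.eq_zero_iff_mem.2 (by rw [J_eq]; exact Ideal.subset_span ⟨k, rfl⟩)) j
      have h1 := congrArg L (hrel b)
      rw [map_add, map_smul, map_smul, hL, hL, map_zero] at h1
      rw [← Ideal.Quotient.eq_zero_iff_mem]
      fin_cases j <;> simpa [Ideal.Quotient.mk_eq_mk, Submodule.Quotient.quot_mk_eq_mk, ← Ideal.Quotient.algebraMap_eq, Algebra.algebraMap_eq_smul_one] using h1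
    simpa [Matrix.det_fin_one] using hmem 0 (e 0)
  · rw [J_eq, Ideal.span_le]
    rintro _ ⟨j, rfl⟩
    refine Ideal.subset_span ⟨fun _ => ![gen h 1, gen h 0], fun _ => ![1, 0] j, fun b => ?_, ?_⟩
    · simp [H25.Fitting.rel, Fintype.linearCombination_apply, Fin.sum_univ_two, d_rel h]
    · fin_cases j <;> simp [Matrix.det_fin_one]

/-- Fitting ideals of differentials along étale maps. -/
theorem fitt_etale (R B T : Type u) [CommRing R] [CommRing B] [CommRing T] [Algebra R B] [Algebra B T]
    [Algebra R T] [IsScalarTower R B T] [Algebra.Etale B T] [Algebra.FiniteType R B] (r : ℕ) :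
    Fitt.ideal T Ω[T⁄R] r = (Fitt.ideal B Ω[B⁄R] r).map (algebraMap B T) := by
  haveI : Algebra.FiniteType R T := Algebra.FiniteType.trans ‹Algebra.FiniteType R B› inferInstance
  rw [← H25.Fitting.ideal_congr (tensorKaehlerEquivOfFormallyEtale R B T) r]
  exact H25.Fitting.ideal_baseChange _ r

/-- An étale change of the base ring does not matter. -/
theorem fitt_base (R C T : Type u) [CommRing R] [CommRing C] [CommRing T] [Algebra R C] [Algebra C T]
    [Algebra R T] [IsScalarTower R C T] [Algebra.FormallyEtale R C] [Algebra.FiniteType R T] (r : ℕ) :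
    Fitt.ideal T Ω[T⁄R] r = Fitt.ideal T Ω[T⁄C] r := by
  haveI : Subsingleton Ω[C⁄R] := Algebra.FormallyUnramified.subsingleton_kaehlerDifferential
  haveI : Subsingleton (T ⊗[C] Ω[C⁄R]) := by
    refine subsingleton_of_forall_eq 0 fun z => ?_
    induction z with
    | zero => rfl
    | tmul a b => rw [Subsingleton.elim b 0, TensorProduct.tmul_zero]
    | add a b ha hb => rw [ha, hb, add_zero]
  have hinj : Function.Injective (map R C T T) := by
    rw [injective_iff_map_eq_zero]
    intro z hz
    obtain ⟨w, rfl⟩ := (exact_mapBaseChange_map R C T z).1 hz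
    rw [Subsingleton.elim w 0, map_zero]
  exact H25.Fitting.ideal_congr (LinearEquiv.ofBijective (map R C T T) ⟨hinj, map_surjective R C T⟩) r

variable {R B T : Type u} [CommRing R] [CommRing B] [CommRing T] [Algebra R B] [Algebra R C]
  [Algebra.Etale R C] [Algebra B T] [Algebra.Etale B T] [Algebra R T] [IsScalarTower R B T]
  [Algebra.FiniteType R B] [Algebra (M h) T] [Algebra.Etale (M h) T] [Algebra C T]
  [IsScalarTower C (M h) T] [IsScalarTower R C T]

/-- The Fitting ideal in an étale chart. -/
theorem fitt_chart : (Fitt.ideal B Ω[B⁄R] 1).map (algebraMap B T) = (J h).map (algebraMap (M h) T) := by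
  haveI : Algebra.FiniteType C (M h) := by
    haveI := ModelAlg.finitePresentation h
    infer_instance
  haveI : Algebra.FiniteType R T := Algebra.FiniteType.trans ‹Algebra.FiniteType R B› inferInstance
  rw [← fitt_etale R B T 1, fitt_base R C T 1, fitt_etale C (M h) T 1, fitt_model]

set_option maxHeartbeats 1000000 in
include h in
/-- **The singular scheme is unramified** at points seen by the chart. -/
theorem isUnramifiedAt {B' : Type u} [CommRing B'] [Algebra B B'] [Algebra R B'] [IsScalarTower R B B']
    (hs : Function.Surjective (algebraMap B B'))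
    (hk : RingHom.ker (algebraMap B B') = Fitt.ideal B Ω[B⁄R] 1)
    (q' : Ideal B') [q'.IsPrime] (Q : Ideal T) [Q.IsPrime]
    (hQ : Q.comap (algebraMap B T) = q'.comap (algebraMap B B')) :
    Algebra.IsUnramifiedAt R q' := by
  let I := Fitt.ideal B Ω[B⁄R] 1
  haveI hfin : Algebra.FiniteType R B' :=
    Algebra.FiniteType.of_surjective (IsScalarTower.toAlgHom R B B') hs
  let T' := T ⊗[B] B'
  letI : Algebra B' T' := Algebra.TensorProduct.rightAlgebra
  haveI : Algebra.Etale B' T' := by
    exact Algebra.Etale.of_equiv
      ({ Algebra.TensorProduct.comm B B' T with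
         commutes' := fun r => by
           simp [Algebra.TensorProduct.algebraMap_apply, RingHom.algebraMap_toAlgebra] } :
        (B' ⊗[B] T) ≃ₐ[B'] T')
  -- the quotient of `T` is unramified over `R`
  have hπ : Function.Surjective (algebraMap T T') := by
    intro w
    induction w using TensorProduct.induction_on with
    | zero => exact ⟨0, map_zero _⟩
    | tmul a b =>
      obtain ⟨b, rfl⟩ := hs b
      exact ⟨b • a, by
        rw [Algebra.TensorProduct.algebraMap_apply, Algebra.algebraMap_self_apply, TensorProduct.smul_tmul,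
          Algebra.smul_def b (1 : B'), mul_one]⟩
    | add a b ha hb =>
      obtain ⟨a, rfl⟩ := ha
      obtain ⟨b, rfl⟩ := hb
      exact ⟨a + b, map_add _ _ _⟩
  have hI : ∀ z ∈ I.map (algebraMap B T), algebraMap T T' z = 0 := by
    intro z hz
    refine Ideal.mem_comap.1 ((Ideal.map_le_iff_le_comap.2 fun b hb => ?_ :
      I.map (algebraMap B T) ≤ (⊥ : Ideal T').comap (algebraMap T T')) hz)
    have h1 : algebraMap B B' b = 0 := by rw [← RingHom.mem_ker, hk]; exact hb
    show (algebraMap B T b) ⊗ₜ[B] (1 : B') = 0
    rw [Algebra.algebraMap_eq_smul_one, TensorProduct.smul_tmul, ← Algebra.algebraMap_eq_smul_one, h1,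
      TensorProduct.tmul_zero]
  haveI : IsScalarTower R B' T' := IsScalarTower.of_algebraMap_eq' (by
    rw [IsScalarTower.algebraMap_eq R B B', ← RingHom.comp_assoc]
    refine RingHom.ext fun r => ?_
    show algebraMap T T' (algebraMap R T r) = algebraMap B' T' (algebraMap B B' (algebraMap R B r))
    rw [IsScalarTower.algebraMap_apply R B T, ← IsScalarTower.algebraMap_apply B T T',
      ← IsScalarTower.algebraMap_apply B B' T'])
  haveI : IsScalarTower R C T' := inferInstance
  haveI : IsScalarTower C (M h) T' := inferInstance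
  haveI : Algebra.FormallyUnramified (M h) T' := by
    haveI : Algebra.FormallyUnramified T T' := Algebra.FormallyUnramified.of_surjective (Algebra.ofId T T') hπ
    exact Algebra.FormallyUnramified.comp (M h) T T'
  haveI : Algebra.FormallyUnramified C T' := by
    refine ⟨?_⟩
    refine subsingleton_of_forall_eq 0 fun z => ?_
    haveI : Subsingleton Ω[T'⁄M h] := Algebra.FormallyUnramified.subsingleton_kaehlerDifferential
    obtain ⟨w, rfl⟩ := (exact_mapBaseChange_map C (M h) T' z).1 (Subsingleton.elim _ _)
    have hw : ∀ v : Ω[(M h)⁄C], ∀ a : T', mapBaseChange C (M h) T' (a ⊗ₜ v) = 0 := by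
      intro v
      have hv : v ∈ Submodule.span (M h) (Set.range fun i => D C (M h) (gen h i)) := by
        rw [span_d h]; exact Submodule.mem_top
      induction hv using Submodule.span_induction with
      | mem v hv =>
        obtain ⟨i, rfl⟩ := hv
        intro a
        have h0 : algebraMap (M h) T' (gen h i) = 0 := by
          refine hI _ ?_
          rw [show I.map (algebraMap B T) = (J h).map (algebraMap (M h) T) from fitt_chart h]
          exact Ideal.mem_map_of_mem _ (by rw [J_eq]; exact Ideal.subset_span ⟨i, rfl⟩)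
        rw [mapBaseChange_tmul, map_D, h0, map_zero, smul_zero]
      | zero => intro a; rw [TensorProduct.tmul_zero, map_zero]
      | add v w _ _ hv hw => intro a; rw [TensorProduct.tmul_add, map_add, hv, hw, add_zero]
      | smul m v _ hv => intro a; rw [← TensorProduct.smul_tmul]; exact hv _
    induction w using TensorProduct.induction_on with
    | zero => rw [map_zero]
    | tmul a v => exact hw v a
    | add a b ha hb => rw [map_add, ha, hb, add_zero]
  haveI : Algebra.FormallyUnramified R T' := Algebra.FormallyUnramified.comp R C T'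
  -- descend
  haveI : Subsingleton (T' ⊗[B'] Ω[B'⁄R]) := by
    haveI : Subsingleton Ω[T'⁄R] := Algebra.FormallyUnramified.subsingleton_kaehlerDifferential
    exact (tensorKaehlerEquivOfFormallyEtale R B' T').toEquiv.subsingleton
  have hker : RingHom.ker (algebraMap T T') ≤ Q := by
    intro z hz
    have hz' : z ∈ I.map (algebraMap B T) := by
      rw [← Ideal.Quotient.eq_zero_iff_mem]
      let π : T' →ₐ[T] T ⧸ I.map (algebraMap B T) :=
        Algebra.TensorProduct.lift (Algebra.ofId T _)
          ({ RingHom.liftOfSurjective (algebraMap B B') hs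
              ⟨algebraMap B (T ⧸ I.map (algebraMap B T)), fun b hb => by
                rw [hk] at hb
                rw [RingHom.mem_ker, IsScalarTower.algebraMap_apply B T (T ⧸ I.map (algebraMap B T))]
                exact Ideal.Quotient.eq_zero_iff_mem.2 (Ideal.mem_map_of_mem _ hb)⟩ with
            commutes' := fun b => RingHom.liftOfRightInverse_comp_apply _ _ _ _ b } :
            B' →ₐ[B] T ⧸ I.map (algebraMap B T))
          (fun _ _ => Commute.all _ _)
      calc Ideal.Quotient.mk _ z = π (algebraMap T T' z) := (π.commutes z).symm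
        _ = 0 := by rw [hz, map_zero]
    refine (Ideal.map_le_iff_le_comap.2 fun b hb => ?_ : I.map (algebraMap B T) ≤ Q) hz'
    rw [hQ, Ideal.mem_comap, show algebraMap B B' b = 0 by rw [← RingHom.mem_ker, hk]; exact hb]
    exact zero_mem _
  haveI hQ'p : (Q.map (algebraMap T T')).IsPrime := Ideal.map_isPrime_of_surjective hπ hker
  let Q' := Q.map (algebraMap T T')
  have hQ' : Q'.comap (algebraMap B' T') = q' := by
    refine Ideal.comap_injective_of_surjective _ hs ?_
    rw [Ideal.comap_comap, ← IsScalarTower.algebraMap_eq B B' T', IsScalarTower.algebraMap_eq B T T',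
      ← Ideal.comap_comap, Ideal.comap_map_of_surjective _ hπ, ← RingHom.ker_eq_comap_bot,
      sup_eq_left.2 hker, hQ]
  have hns : (⟨q', ‹_›⟩ : PrimeSpectrum B') ∉ Module.support B' Ω[B'⁄R] := by
    intro hmem
    haveI : Nontrivial (q'.ResidueField ⊗[B'] Ω[B'⁄R]) :=
      (Module.mem_support_iff_nontrivial_residueField_tensorProduct _).1 hmem
    let K := Q'.ResidueField
    let j : q'.ResidueField →+* K := Ideal.ResidueField.map q' Q' (algebraMap B' T') hQ'.symm
    letI : Algebra q'.ResidueField K := j.toAlgebra
    haveI : IsScalarTower B' q'.ResidueField K := IsScalarTower.of_algebraMap_eq fun b => by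
      rw [IsScalarTower.algebraMap_apply B' T' K]
      exact (Ideal.ResidueField.map_algebraMap (I := q') (J := Q') (algebraMap B' T') hQ'.symm b).symm
    haveI : Nontrivial (K ⊗[q'.ResidueField] (q'.ResidueField ⊗[B'] Ω[B'⁄R])) := by
      by_contra hc
      rw [not_nontrivial_iff_subsingleton,
        Module.FaithfullyFlat.subsingleton_tensorProduct_iff_right] at hc
      exact not_subsingleton _ hc
    haveI : Subsingleton (K ⊗[T'] (T' ⊗[B'] Ω[B'⁄R])) := by
      refine subsingleton_of_forall_eq 0 fun z => ?_
      induction z using TensorProduct.induction_on with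
      | zero => rfl
      | tmul a b => rw [Subsingleton.elim b 0, TensorProduct.tmul_zero]
      | add a b ha hb => rw [ha, hb, add_zero]
    haveI : Subsingleton (K ⊗[B'] Ω[B'⁄R]) :=
      (TensorProduct.AlgebraTensorModule.cancelBaseChange B' T' K K Ω[B'⁄R]).symm.toEquiv.subsingleton
    haveI : Subsingleton (K ⊗[q'.ResidueField] (q'.ResidueField ⊗[B'] Ω[B'⁄R])) :=
      (TensorProduct.AlgebraTensorModule.cancelBaseChange B' q'.ResidueField K K Ω[B'⁄R]).toEquiv.subsingleton
    exact false_of_nontrivial_of_subsingleton (K ⊗[q'.ResidueField] (q'.ResidueField ⊗[B'] Ω[B'⁄R]))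
  show (⟨q', ‹_›⟩ : PrimeSpectrum B') ∈ Algebra.unramifiedLocus R B'
  rw [Algebra.unramifiedLocus_eq_compl_support]
  exact hns

end Groth.Agent.H25.Morse.SingAlg
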