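import Groth.Agent.H25.Morse.Locus
import Groth.Agent.H25.Morse.SingAlg
import Groth.Agent.Lib.FittSheaf.Smooth
import Groth.Agent.H47.UnramLocus
import Mathlib.AlgebraicGeometry.ZariskisMainTheorem
import Mathlib.RingTheory.Unramified.LocalStructure

/-!
The singular scheme of a nodal family is unramified over the base.
-/

set_option autoImplicit false
set_option linter.style.haveILetI false
universe u

open CategoryTheory CategoryTheory.Limits AlgebraicGeometry IsLocalRing

attribute [local instance] Curv2.stalkAlgebra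

namespace Groth.Agent.H25.Morse.Singular

variable {X S : Scheme.{u}} (f : X ⟶ S) [QuasiSeparated f]

/-- The chart value of the Fitting sheaf of the differentials. -/
theorem ideal_omega [LocallyOfFiniteType f] {V : S.Opens} (hV : IsAffineOpen V) {U : X.Opens}
    (hU : IsAffineOpen U) (e : U ≤ f ⁻¹ᵁ V) (r : ℕ) :
    letI := (f.appLE V U e).hom.toAlgebra
    (Fitt.sheafIdeal (Omega.sheaf f) r).ideal ⟨U, hU⟩ =
      Fitt.ideal Γ(X, U) (KaehlerDifferential Γ(S, V) Γ(X, U)) r := by
  haveI := (Lib.FittSheaf.qcoh_ft_omega f).1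
  haveI := (Lib.FittSheaf.qcoh_ft_omega f).2
  haveI : Module.Finite Γ(X, U) Γ(Omega.sheaf f, U) := Lib.CohBasics.Affine.finite_sections hU
  haveI := Lib.Kaehler.ToSect.isIso_toSect f hU hV e
  let E := (asIso (OmAff.toSect f V U e)).toLinearEquiv
  letI := (f.appLE V U e).hom.toAlgebra
  rw [Lib.FittSheaf.ideal_sheafIdeal]
  exact H25.Fitting.ideal_congr E.symm r

/-- **The singular scheme of a nodal family is unramified.** -/
theorem formallyUnramified (hf : Curv2.IsNodalFamily f) :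
    FormallyUnramified ((Fitt.sheafIdeal (Omega.sheaf f) 1).subschemeι ≫ f) := by
  haveI := hf.1
  haveI := hf.2.1
  set I := Fitt.sheafIdeal (Omega.sheaf f) 1
  refine (H47.UnramLocus.formallyUnramified_iff_stalk (I.subschemeι ≫ f)).2 fun z => ?_
  let x := I.subschemeι z
  have hns : ¬ ∃ W : X.Opens, x ∈ W ∧ Smooth (W.ι ≫ f) := by
    refine (Lib.FittSheaf.omega_support_iff f 1 (fun s => ?_) x).1 ?_
    · exact_mod_cast (hf.2.2 s).1
    · exact I.range_subschemeι.le (Set.mem_range_self z)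
  have hx : @Curv2.IsNode (S.residueField (f x)) _ (f.fiber (f x))
      ⟨f.fiberToSpecResidueField (f x)⟩ (f.asFiber x) := by
    refine (Locus.smooth_or_node f x ⟨⊤, trivial, S1592.result f hf (⊤ : X.Opens).ι⟩).resolve_left fun h => ?_
    refine hns ⟨f.smoothLocus, h, ?_⟩
    rw [← Scheme.Hom.smoothLocus_eq_top_iff, ← Scheme.Hom.preimage_smoothLocus_eq,
      Scheme.Opens.ι_preimage_self]
  obtain ⟨V, hV, hxV, -⟩ := exists_isAffineOpen_mem_and_subset (X := S) (x := f x) (U := ⊤) trivial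
  obtain ⟨U, hU, hxU, hUV⟩ := exists_isAffineOpen_mem_and_subset (X := X) (x := x) (U := f ⁻¹ᵁ V) hxV
  obtain ⟨C, iC, iRC, hC, h, T, iT, g, ε, Q, hQ, hg, hε, hQg, hr⟩ :=
    SchemeLocal.exists_etaleLocal f x hx hV hU hUV hxU
  let Z := I.subscheme
  let UZ : Z.Opens := I.subschemeι ⁻¹ᵁ U
  have hUZ : IsAffineOpen UZ := hU.preimage I.subschemeι
  have eZ : UZ ≤ (I.subschemeι ≫ f) ⁻¹ᵁ V := fun w hw => hUV hw
  rw [H47.UnramLocus.stalkMap_iff_isUnramifiedAt (I.subschemeι ≫ f) hV hUZ eZ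
    (show z ∈ UZ from hxU)]
  letI : Algebra Γ(S, V) Γ(X, U) := (f.appLE V U hUV).hom.toAlgebra
  letI : Algebra Γ(X, U) Γ(Z, UZ) := (I.subschemeι.app U).hom.toAlgebra
  letI : Algebra Γ(S, V) Γ(Z, UZ) := ((I.subschemeι ≫ f).appLE V UZ eZ).hom.toAlgebra
  haveI : IsScalarTower Γ(S, V) Γ(X, U) Γ(Z, UZ) := IsScalarTower.of_algebraMap_eq' (by
    show ((I.subschemeι ≫ f).appLE V UZ eZ).hom = (f.appLE V U hUV ≫ I.subschemeι.app U).hom
    congr 1
    rw [← Scheme.Hom.appLE_comp_appLE I.subschemeι f V U UZ hUV le_rfl, Scheme.Hom.app_eq_appLE])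
  haveI : Algebra.FiniteType Γ(S, V) Γ(X, U) :=
    haveI : Algebra.FinitePresentation Γ(S, V) Γ(X, U) := f.finitePresentation_appLE hV hU hUV
    inferInstance
  letI : Algebra Γ(X, U) T := g.toAlgebra
  letI : Algebra (ModelAlg.M h) T := RingHom.toAlgebra (R := ModelAlg.M h) ε
  letI : Algebra C T := (ε.comp (algebraMap C (ModelAlg.M h))).toAlgebra
  letI : Algebra Γ(S, V) T := (g.comp (f.appLE V U hUV).hom).toAlgebra
  haveI : IsScalarTower Γ(S, V) Γ(X, U) T := IsScalarTower.of_algebraMap_eq fun _ => rfl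
  haveI : IsScalarTower C (ModelAlg.M h) T :=
    IsScalarTower.of_algebraMap_eq (R := C) (S := ModelAlg.M h) (A := T) fun _ => rfl
  haveI : IsScalarTower Γ(S, V) C T := IsScalarTower.of_algebraMap_eq fun r => hr r
  haveI : Algebra.Etale Γ(X, U) T := RingHom.etale_algebraMap.1 hg
  haveI : Algebra.Etale (ModelAlg.M h) T := RingHom.etale_algebraMap.1 hε
  haveI := hC
  refine SingAlg.isUnramifiedAt h (R := Γ(S, V)) (B := Γ(X, U)) (T := T)
    (I.subschemeι_app_surjective ⟨U, hU⟩) ?_ _ Q ?_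
  · exact (I.ker_subschemeι_app ⟨U, hU⟩).trans (ideal_omega f hV hU hUV 1)
  · refine hQg.trans ?_
    have h1 := congrArg PrimeSpectrum.asIdeal
      (IsAffineOpen.comap_primeIdealOf_appLE (f := I.subschemeι) U hU UZ hUZ le_rfl (show z ∈ UZ from hxU))
    rw [← Scheme.Hom.app_eq_appLE] at h1
    exact h1.symm

/-- Unramified proper implies finite. -/
theorem isFinite_of_formallyUnramified {Z Y : Scheme.{u}} (p : Z ⟶ Y) [IsProper p] [FormallyUnramified p] :
    IsFinite p := by
  haveI : LocallyQuasiFinite p := by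
    rw [HasRingHomProperty.iff_appLE (P := @LocallyQuasiFinite)]
    intro V U e
    have h1 := HasRingHomProperty.appLE @FormallyUnramified p ‹_› V U e
    have h2 := HasRingHomProperty.appLE @LocallyOfFiniteType p inferInstance V U e
    algebraize [(p.appLE V.1 U.1 e).hom]
    haveI : Algebra.FormallyUnramified Γ(Y, V.1) Γ(Z, U.1) := h1
    exact (inferInstance : Algebra.QuasiFinite Γ(Y, V.1) Γ(Z, U.1))
  exact IsFinite.of_isProper_of_locallyQuasiFinite p

end Groth.Agent.H25.Morse.Singular
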