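import Groth.Agent.H25.Morse.Locus
import Groth.Agent.H25.Morse.DVREtale

/-!
Étale local structure of a nodal family over a trait.
-/

set_option autoImplicit false
set_option linter.style.haveILetI false
universe u

open CategoryTheory CategoryTheory.Limits AlgebraicGeometry IsLocalRing

attribute [local instance] Curv2.stalkAlgebra

namespace Groth.Agent.H25.Morse.Trait

open ModelAlg

variable (R : Type u) [CommRing R]

theorem fromSpec_top : (isAffineOpen_top (Spec (CommRingCat.of R))).fromSpec =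
    Spec.map (Scheme.ΓSpecIso (CommRingCat.of R)).inv := by
  rw [IsAffineOpen.fromSpec_top, Scheme.isoSpec_Spec_inv]

/-- `uv = 1` is a punctured line. -/
theorem exists_etale_punctured (j : R) : ∃ ψ : Polynomial R →ₐ[R] M (1 : R),
    ψ.toRingHom.Etale ∧ ψ (Polynomial.X + Polynomial.C j) = gen 1 0 := by
  let r : Polynomial R := Polynomial.X + Polynomial.C j
  let L := Localization.Away r
  let ψ : Polynomial R →ₐ[R] M (1 : R) := Polynomial.aeval (gen 1 0 - algebraMap R _ j)
  have hψr : ψ r = gen 1 0 := by simp [ψ, r]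
  have h01 : gen (1 : R) 0 * gen 1 1 = 1 := (gen_mul 1).trans (map_one _)
  have hu : IsUnit (ψ.toRingHom r) := by
    show IsUnit (ψ r)
    rw [hψr]
    exact IsUnit.of_mul_eq_one _ h01
  have hinv : algebraMap (Polynomial R) L r * IsLocalization.Away.invSelf r = algebraMap R L 1 := by
    rw [map_one]
    exact IsLocalization.Away.mul_invSelf r
  let G : L →+* M (1 : R) := IsLocalization.Away.lift r hu
  have hG : ∀ z, G (algebraMap (Polynomial R) L z) = ψ z := fun z => IsLocalization.Away.lift_eq _ hu z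
  let F : M (1 : R) →+* L :=
    lift 1 (algebraMap R L) (algebraMap (Polynomial R) L r) (IsLocalization.Away.invSelf r) hinv
  have hFC : ∀ a, F (algebraMap R _ a) = algebraMap R L a := lift_const _ _ _ _ _
  have hF0 : F (gen 1 0) = algebraMap (Polynomial R) L r := lift_gen _ _ _ _ _ 0
  have hF1 : F (gen 1 1) = IsLocalization.Away.invSelf r := lift_gen _ _ _ _ _ 1
  have hGC : ∀ a, G (algebraMap R L a) = algebraMap R _ a := fun a => by
    rw [IsScalarTower.algebraMap_apply R (Polynomial R) L, hG]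
    exact ψ.commutes a
  have h1 : G.comp F = RingHom.id _ := by
    refine hom_ext 1 (fun a => ?_) fun i => ?_
    · simp only [RingHom.comp_apply, hFC, hGC, RingHom.id_apply]
    · fin_cases i
      · show G (F (gen 1 0)) = gen 1 0
        rw [hF0, hG, hψr]
      · show G (F (gen 1 1)) = gen 1 1
        rw [hF1]
        have h2 := congrArg G hinv
        rw [map_mul, hG, hψr, hGC] at h2
        replace h2 := h2.trans (map_one (algebraMap R (M (1 : R))))
        linear_combination (gen (1 : R) 1) * h2 - (G (IsLocalization.Away.invSelf r)) * h01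
  have h2 : F.comp G = RingHom.id L := by
    refine IsLocalization.ringHom_ext (Submonoid.powers r) (Polynomial.ringHom_ext (fun a => ?_) ?_)
    · simp only [RingHom.comp_apply, RingHom.id_apply, hG]
      rw [show ψ (Polynomial.C a) = algebraMap R _ a from ψ.commutes a, hFC,
        IsScalarTower.algebraMap_apply R (Polynomial R) L]
      rfl
    · simp only [RingHom.comp_apply, RingHom.id_apply, hG]
      have h3 : ψ Polynomial.X = gen 1 0 - algebraMap R _ j := Polynomial.aeval_X _
      rw [h3, map_sub, hF0, hFC, IsScalarTower.algebraMap_apply R (Polynomial R) L, ← map_sub]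
      simp [r]
  refine ⟨ψ, ?_, hψr⟩
  haveI : Algebra.Etale (Polynomial R) L := Algebra.Etale.of_isLocalizationAway r
  have he := RingHom.Etale.respectsIso.1 (algebraMap (Polynomial R) L) (RingEquiv.ofRingHom G F h1 h2)
    (RingHom.etale_algebraMap.2 inferInstance)
  convert he using 1
  exact RingHom.ext fun z => (hG z).symm

/-- Absorbing a unit into a coordinate. -/
theorem exists_scale {A : Type u} [CommRing A] (v : Aˣ) (c c' : A) (h : c' = v * c) :
    ∃ θ : M c ≃+* M c', ∀ r, θ (algebraMap A _ r) = algebraMap A _ r := by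
  have h1 : algebraMap A (M c') ↑v⁻¹ * gen c' 0 * gen c' 1 = algebraMap A _ c := by
    rw [mul_assoc, gen_mul, ← map_mul, h, v.inv_mul_cancel_left]
  have h2 : algebraMap A (M c) ↑v * gen c 0 * gen c 1 = algebraMap A _ c' := by
    rw [mul_assoc, gen_mul, ← map_mul, h]
  let F : M c →+* M c' := lift c (algebraMap A _) _ _ h1
  let G : M c' →+* M c := lift c' (algebraMap A _) _ _ h2
  have hFC : ∀ r, F (algebraMap A _ r) = algebraMap A _ r := lift_const _ _ _ _ _
  have hGC : ∀ r, G (algebraMap A _ r) = algebraMap A _ r := lift_const _ _ _ _ _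
  have hF0 : F (gen c 0) = algebraMap A _ ↑v⁻¹ * gen c' 0 := lift_gen _ _ _ _ _ 0
  have hF1 : F (gen c 1) = gen c' 1 := lift_gen _ _ _ _ _ 1
  have hG0 : G (gen c' 0) = algebraMap A _ ↑v * gen c 0 := lift_gen _ _ _ _ _ 0
  have hG1 : G (gen c' 1) = gen c 1 := lift_gen _ _ _ _ _ 1
  refine ⟨RingEquiv.ofRingHom F G ?_ ?_, hFC⟩
  · refine hom_ext c' (fun r => by simp [hGC, hFC]) fun i => ?_
    fin_cases i
    · show F (G (gen c' 0)) = gen c' 0
      rw [hG0, map_mul, hFC, hF0, ← mul_assoc, ← map_mul, Units.mul_inv, map_one, one_mul]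
    · show F (G (gen c' 1)) = gen c' 1
      rw [hG1, hF1]
  · refine hom_ext c (fun r => by simp [hGC, hFC]) fun i => ?_
    fin_cases i
    · show G (F (gen c 0)) = gen c 0
      rw [hF0, map_mul, hGC, hG0, ← mul_assoc, ← map_mul, Units.inv_mul, map_one, one_mul]
    · show G (F (gen c 1)) = gen c 1
      rw [hF1, hG1]

variable {R} [IsDomain R] [IsDiscreteValuationRing R]

/-- The output of the local structure theorem. -/
def Chart (ϖ : R) {X : Scheme.{u}} (p : X ⟶ Spec (CommRingCat.of R)) (x : X) : Prop :=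
    ∃ (R' : Type u) (_ : CommRing R') (_ : IsDomain R') (_ : IsDiscreteValuationRing R')
      (_ : Algebra R R') (_ : Algebra.Etale R R') (_ : Irreducible (algebraMap R R' ϖ))
      (h : MvPolynomial (Fin 2) R') (_ : h = 0 ∨ ∃ n : ℕ, h = MvPolynomial.C (algebraMap R R' ϖ ^ n))
      (U : Scheme.{u}) (e : U ⟶ X) (_ : Etale e) (x' : U) (_ : e.base x' = x)
      (g : U ⟶ Spec (CommRingCat.of (MvPolynomial (Fin 2) R' ⧸
        Ideal.span {MvPolynomial.X 0 * MvPolynomial.X 1 - h}))) (_ : Etale g),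
      g ≫ Spec.map (CommRingCat.ofHom ((Ideal.Quotient.mk _).comp
          (MvPolynomial.C.comp (algebraMap R R')))) = e ≫ p

theorem chart_mk (ϖ : R) {X : Scheme.{u}} (p : X ⟶ Spec (CommRingCat.of R)) (x : X)
    (R' : Type u) [CommRing R'] [IsDomain R'] [IsDiscreteValuationRing R'] [Algebra R R'] [Algebra.Etale R R']
    (hirr : Irreducible (algebraMap R R' ϖ)) (c : R') (hc : c = 0 ∨ ∃ n : ℕ, c = algebraMap R R' ϖ ^ n)
    (T : Type u) [CommRing T] (e : Spec (CommRingCat.of T) ⟶ X) [Etale e] (z : Spec (CommRingCat.of T))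
    (hz : e z = x) (ε : M c →+* T) (hε : ε.Etale)
    (hcomp : Spec.map (CommRingCat.ofHom (ε.comp ((algebraMap R' (M c)).comp (algebraMap R R')))) = e ≫ p) :
    Chart ϖ p x := by
  haveI : Etale (Spec.map (CommRingCat.ofHom (R := M c) ε)) := by
    rwa [HasRingHomProperty.Spec_iff (P := @Etale)]
  refine ⟨R', inferInstance, inferInstance, inferInstance, inferInstance, inferInstance, hirr,
    MvPolynomial.C c, ?_, Spec (CommRingCat.of T), e, inferInstance, z, hz,
    Spec.map (CommRingCat.ofHom (R := M c) ε), inferInstance, ?_⟩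
  · rcases hc with rfl | ⟨n, rfl⟩
    · exact Or.inl (map_zero _)
    · exact Or.inr ⟨n, rfl⟩
  · rw [← hcomp, ← Spec.map_comp, ← CommRingCat.ofHom_comp]
    rfl

/-- Smooth points. -/
theorem chart_smooth {ϖ : R} (hϖ : Irreducible ϖ) {X : Scheme.{u}} (p : X ⟶ Spec (CommRingCat.of R))
    (hp : Curv2.IsNodalFamily p) [LocallyOfFinitePresentation p] (x : X) (hx0 : p x = IsLocalRing.closedPoint R)
    (hx : x ∈ p.smoothLocus) :
    Chart ϖ p x := by
  haveI := hp.1
  obtain ⟨n, W, hxW, hn⟩ := Locus.exists_relDim p hx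
  obtain ⟨e₀, he₀⟩ := NodeOpen.exists_fiberIso p W (p x)
  haveI := hn
  have hWn : Curv2.IsNodalFamily (W.ι ≫ p) := S1592.result p hp W.ι
  haveI : SmoothOfRelativeDimension n ((W.ι ≫ p).fiberToSpecResidueField (p x)) :=
    (smoothOfRelativeDimension_isStableUnderBaseChange n).of_isPullback
      (IsPullback.of_hasPullback (W.ι ≫ p) _) hn
  obtain rfl : n = 1 := RelDim.eq_one ((Spec (CommRingCat.of R)).residueField (p x)) ((W.ι ≫ p).fiber (p x))
    ((W.ι ≫ p).fiberToSpecResidueField (p x)) n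
    (hWn.2.2 (p x)).1 ((W.ι ≫ p).asFiber ⟨x, hxW⟩)
  obtain ⟨U₀, hU₀, V, hV, hxV, e, hst⟩ :=
    SmoothOfRelativeDimension.exists_isStandardSmoothOfRelativeDimension (n := 1) (f := W.ι ≫ p) ⟨x, hxW⟩
  obtain rfl : U₀ = ⊤ := by
    refine TopologicalSpace.Opens.ext (Set.eq_univ_of_forall fun y => ?_)
    have h1 : p x ∈ U₀ := e hxV
    rw [hx0] at h1
    exact (IsLocalRing.specializes_closedPoint (R := R) y).mem_open U₀.2 h1
  let B : Type u := Γ(W, V)
  let χ : CommRingCat.of R ⟶ CommRingCat.of B :=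
    (Scheme.ΓSpecIso (CommRingCat.of R)).inv ≫ (W.ι ≫ p).appLE ⊤ V e
  letI : Algebra R B := χ.hom.toAlgebra
  haveI : Algebra.IsStandardSmoothOfRelativeDimension 1 R B :=
    (RingHom.isStandardSmoothOfRelativeDimension_respectsIso (n := 1)).2 _
      (Scheme.ΓSpecIso (CommRingCat.of R)).commRingCatIsoToRingEquiv.symm hst
  obtain ⟨g, hg⟩ := Algebra.IsStandardSmoothOfRelativeDimension.exists_etale_mvPolynomial (n := 1) R B
  let E : MvPolynomial (Fin 1) R ≃ₐ[R] Polynomial R := MvPolynomial.uniqueAlgEquiv R (Fin 1)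
  let g' : Polynomial R →ₐ[R] B := g.comp E.symm.toAlgHom
  have hg' : g'.toRingHom.Etale := RingHom.Etale.respectsIso.2 _ E.symm.toRingEquiv hg
  let q := (hV.primeIdealOf ⟨⟨x, hxW⟩, hxV⟩).asIdeal
  obtain ⟨j, hj⟩ : ∃ j : R, g' (Polynomial.X + Polynomial.C j) ∉ q := by
    by_contra hc
    push Not at hc
    have h1 := q.sub_mem (hc 1) (hc 0)
    rw [← map_sub] at h1
    simp only [map_one, map_zero, add_zero, add_sub_cancel_left] at h1
    exact Ideal.IsPrime.ne_top inferInstance ((Ideal.eq_top_iff_one q).2 h1)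
  obtain ⟨ψ, hψ, hψX⟩ := exists_etale_punctured R j
  let a := g' (Polynomial.X + Polynomial.C j)
  let T := Localization.Away a
  have hinv : algebraMap B T a * IsLocalization.Away.invSelf a = algebraMap R T 1 := by
    rw [map_one]
    exact IsLocalization.Away.mul_invSelf a
  let ε : M (1 : R) →+* T := lift 1 (algebraMap R T) (algebraMap B T a) (IsLocalization.Away.invSelf a) hinv
  have hεC : ∀ r, ε (algebraMap R _ r) = algebraMap B T (algebraMap R B r) := fun r =>
    (lift_const _ _ _ _ _ r).trans (IsScalarTower.algebraMap_apply R B T r)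
  have hεψ : ε.comp ψ.toRingHom = (algebraMap B T).comp g'.toRingHom := by
    refine Polynomial.ringHom_ext (fun r => ?_) ?_
    · show ε (ψ (algebraMap R _ r)) = algebraMap B T (g' (algebraMap R _ r))
      rw [AlgHom.commutes, AlgHom.commutes, hεC]
    · have h1 : ε (ψ (Polynomial.X + Polynomial.C j)) = algebraMap B T a := by
        rw [hψX]; exact lift_gen _ _ _ _ _ 0
      have h2 : ψ (Polynomial.C j) = algebraMap R _ j := ψ.commutes j
      have h3 : g' (Polynomial.C j) = algebraMap R _ j := g'.commutes j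
      rw [map_add, map_add, h2, hεC] at h1
      show ε (ψ Polynomial.X) = algebraMap B T (g' Polynomial.X)
      have ha : algebraMap B T a = algebraMap B T (g' Polynomial.X) + algebraMap B T (algebraMap R B j) := by
        rw [← map_add, ← h3, ← map_add]
      exact add_right_cancel (h1.trans ha)
  haveI hT : Etale (Spec.map (CommRingCat.ofHom (algebraMap B T))) := by
    rw [HasRingHomProperty.Spec_iff (P := @Etale)]
    exact RingHom.etale_algebraMap.2 (Algebra.Etale.of_isLocalizationAway a)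
  have hε : ε.Etale := by
    haveI : Etale (Spec.map (CommRingCat.ofHom ψ.toRingHom)) := by
      rwa [HasRingHomProperty.Spec_iff (P := @Etale)]
    haveI : Etale (Spec.map (CommRingCat.ofHom g'.toRingHom)) := by
      rwa [HasRingHomProperty.Spec_iff (P := @Etale)]
    haveI : Etale (Spec.map (CommRingCat.ofHom (R := M (1 : R)) ε) ≫ Spec.map (CommRingCat.ofHom ψ.toRingHom)) := by
      rw [← Spec.map_comp, ← CommRingCat.ofHom_comp, hεψ, CommRingCat.ofHom_comp, Spec.map_comp]
      infer_instance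
    have h1 := Etale.of_comp (Spec.map (CommRingCat.ofHom (R := M (1 : R)) ε))
      (Spec.map (CommRingCat.ofHom ψ.toRingHom))
    rw [HasRingHomProperty.Spec_iff (P := @Etale)] at h1
    exact h1
  let e' : Spec (CommRingCat.of T) ⟶ X := Spec.map (CommRingCat.ofHom (algebraMap B T)) ≫ hV.fromSpec ≫ W.ι
  obtain ⟨z, hz⟩ : hV.primeIdealOf ⟨⟨x, hxW⟩, hxV⟩ ∈
      Set.range (PrimeSpectrum.comap (algebraMap B T)) := by
    rw [PrimeSpectrum.localization_away_comap_range T a]
    exact hj
  have hzx : e' z = x := by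
    show W.ι (hV.fromSpec (PrimeSpectrum.comap (algebraMap B T) z)) = x
    rw [hz, hV.fromSpec_primeIdealOf]
    rfl
  refine chart_mk ϖ p x R hϖ 1 (Or.inr ⟨0, (pow_zero _).symm⟩) T e' z hzx ε hε ?_
  rw [show ε.comp ((algebraMap R (M (1 : R))).comp (algebraMap R R)) = (algebraMap B T).comp χ.hom from
    RingHom.ext fun r => hεC r, CommRingCat.ofHom_comp, CommRingCat.ofHom_hom, Spec.map_comp]
  simp only [e', Category.assoc]
  congr 1
  rw [← (isAffineOpen_top _).SpecMap_appLE_fromSpec (W.ι ≫ p) hV e, fromSpec_top, ← Spec.map_comp]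

/-- Nodes. -/
theorem chart_node {ϖ : R} (hϖ : Irreducible ϖ) {X : Scheme.{u}} (p : X ⟶ Spec (CommRingCat.of R))
    [Flat p] [LocallyOfFinitePresentation p] (x : X) (hx0 : p x = IsLocalRing.closedPoint R)
    (hx : @Curv2.IsNode ((Spec (CommRingCat.of R)).residueField (p x)) _ (p.fiber (p x))
      ⟨p.fiberToSpecResidueField (p x)⟩ (p.asFiber x)) : Chart ϖ p x := by
  obtain ⟨U, hU, hxU, -⟩ := exists_isAffineOpen_mem_and_subset (X := X) (x := x) (U := ⊤) trivial
  obtain ⟨C, iC, iRC, hC, h, T, iT, g₀, ε, Q, hQ, hg₀, hε, hQg, hr⟩ :=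
    SchemeLocal.exists_etaleLocal p x hx (isAffineOpen_top _) hU (le_top : U ≤ p ⁻¹ᵁ ⊤) hxU
  let γ : R →+* C := (algebraMap Γ(Spec (CommRingCat.of R), ⊤) C).comp
    (Scheme.ΓSpecIso (CommRingCat.of R)).inv.hom
  letI : Algebra R C := γ.toAlgebra
  haveI : Algebra.Etale R C := RingHom.etale_algebraMap.1
    (RingHom.Etale.respectsIso.2 _ (Scheme.ΓSpecIso (CommRingCat.of R)).commRingCatIsoToRingEquiv.symm
      (RingHom.etale_algebraMap.2 hC) : γ.Etale)
  haveI : Etale (Spec.map (CommRingCat.ofHom g₀)) := by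
    rwa [HasRingHomProperty.Spec_iff (P := @Etale)]
  haveI : Etale (Spec.map (CommRingCat.ofHom (R := M h) ε)) := by
    rwa [HasRingHomProperty.Spec_iff (P := @Etale)]
  let gU : Spec (CommRingCat.of T) ⟶ X := Spec.map (CommRingCat.ofHom g₀) ≫ hU.fromSpec
  let z₀ : Spec (CommRingCat.of T) := (⟨Q, hQ⟩ : PrimeSpectrum T)
  have hz₀ : gU z₀ = x := by
    show hU.fromSpec (Spec.map (CommRingCat.ofHom g₀) z₀) = x
    rw [show Spec.map (CommRingCat.ofHom g₀) z₀ = hU.primeIdealOf ⟨x, hxU⟩ from PrimeSpectrum.ext hQg]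
    exact hU.fromSpec_primeIdealOf ⟨x, hxU⟩
  have hcomp : gU ≫ p = Spec.map (CommRingCat.ofHom (ε.comp ((algebraMap C (M h)).comp γ))) := by
    simp only [gU, Category.assoc]
    rw [← (isAffineOpen_top _).SpecMap_appLE_fromSpec p hU (le_top : U ≤ p ⁻¹ᵁ ⊤), fromSpec_top,
      ← Spec.map_comp, ← Spec.map_comp]
    congr 1
    exact CommRingCat.hom_ext (RingHom.ext fun r => hr _)
  let q : Ideal C := Q.comap (ε.comp (algebraMap C (M h)))
  have hq : q.comap (algebraMap R C) = maximalIdeal R := by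
    have h1 : (gU ≫ p) z₀ = closedPoint R := by
      rw [Scheme.Hom.comp_apply, hz₀, hx0]
    rw [hcomp] at h1
    exact (congrArg PrimeSpectrum.asIdeal h1 : _)
  obtain ⟨g, hg, hdom, hdvr, hirr⟩ := DVREtale.exists_localize ϖ hϖ q hq
  let A := Localization.Away g
  let c' : A := algebraMap C A h
  haveI : Algebra.Etale C A := Algebra.Etale.of_isLocalizationAway g
  haveI : Algebra.Etale R A := Algebra.Etale.comp R C A
  let t : T := ε (algebraMap C (M h) g)
  let T' := Localization.Away t
  let l : T →+* T' := algebraMap T T'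
  have ht : IsUnit ((l.comp (ε.comp (algebraMap C (M h)))) g) :=
    IsLocalization.map_units T' ⟨t, Submonoid.mem_powers t⟩
  let a : A →+* T' := IsLocalization.Away.lift g ht
  have ha : ∀ r, a (algebraMap C A r) = l (ε (algebraMap C (M h) r)) :=
    fun r => IsLocalization.Away.lift_eq _ ht r
  have hrel : l (ε (gen h 0)) * l (ε (gen h 1)) = a c' := by
    rw [ha, ← map_mul, ← map_mul, gen_mul]
  let ε' : M c' →+* T' := lift c' a (l (ε (gen h 0))) (l (ε (gen h 1))) hrel
  have hε'C : ∀ r, ε' (algebraMap A _ r) = a r := lift_const _ _ _ _ _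
  have hfac : ε'.comp (ModelCurve.mapHom h (algebraMap C A)) = l.comp ε := by
    refine hom_ext h (fun r => ?_) fun i => ?_
    · show ε' (ModelCurve.mapHom h (algebraMap C A) (algebraMap C _ r)) = l (ε (algebraMap C _ r))
      rw [ModelCurve.mapHom, lift_const, RingHom.comp_apply, hε'C, ha]
    · show ε' (ModelCurve.mapHom h (algebraMap C A) (gen h i)) = l (ε (gen h i))
      rw [ModelCurve.mapHom, lift_gen]
      fin_cases i
      · exact lift_gen _ _ _ _ _ 0
      · exact lift_gen _ _ _ _ _ 1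
  haveI : Etale (Spec.map (CommRingCat.ofHom (algebraMap C A))) := by
    rw [HasRingHomProperty.Spec_iff (P := @Etale)]
    exact RingHom.etale_algebraMap.2 inferInstance
  haveI : Etale (Spec.map (CommRingCat.ofHom (R := M h) (S := M c') (ModelCurve.mapHom h (algebraMap C A)))) :=
    MorphismProperty.of_isPullback (P := @Etale)
      (isPullback_SpecMap_of_isPushout _ _ _ _ (ModelCurve.isPushout_map h (algebraMap C A))) ‹_›
  haveI hl : Etale (Spec.map (CommRingCat.ofHom l)) := by
    rw [HasRingHomProperty.Spec_iff (P := @Etale)]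
    exact RingHom.etale_algebraMap.2 (Algebra.Etale.of_isLocalizationAway t)
  have hε' : ε'.Etale := by
    haveI : Etale (Spec.map (CommRingCat.ofHom (R := M c') ε') ≫
        Spec.map (CommRingCat.ofHom (R := M h) (S := M c') (ModelCurve.mapHom h (algebraMap C A)))) := by
      rw [← Spec.map_comp, ← CommRingCat.ofHom_comp, hfac, CommRingCat.ofHom_comp, Spec.map_comp]
      infer_instance
    have h1 := Etale.of_comp (Spec.map (CommRingCat.ofHom (R := M c') ε'))
      (Spec.map (CommRingCat.ofHom (R := M h) (S := M c') (ModelCurve.mapHom h (algebraMap C A))))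
    rw [HasRingHomProperty.Spec_iff (P := @Etale)] at h1
    exact h1
  obtain ⟨v, c, hc, hvc⟩ : ∃ (v : Aˣ) (c : A), (c = 0 ∨ ∃ n : ℕ, c = algebraMap R A ϖ ^ n) ∧ c' = v * c := by
    by_cases h0 : c' = 0
    · exact ⟨1, 0, Or.inl rfl, by simp [h0]⟩
    · obtain ⟨n, v, hv⟩ := IsDiscreteValuationRing.eq_unit_mul_pow_irreducible h0 hirr
      exact ⟨v, _, Or.inr ⟨n, rfl⟩, hv⟩
  obtain ⟨θ, hθ⟩ := exists_scale v c c' hvc
  let e : Spec (CommRingCat.of T') ⟶ X := Spec.map (CommRingCat.ofHom l) ≫ gU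
  obtain ⟨z, hz⟩ : (⟨Q, hQ⟩ : PrimeSpectrum T) ∈ Set.range (PrimeSpectrum.comap l) := by
    rw [PrimeSpectrum.localization_away_comap_range T' t]
    exact hg
  have hzx : e z = x := by
    show gU (PrimeSpectrum.comap l z) = x
    rw [hz]; exact hz₀
  refine chart_mk ϖ p x A hirr c hc T' e z hzx (ε'.comp θ.toRingHom)
    (RingHom.Etale.respectsIso.2 _ θ hε') ?_
  simp only [e, Category.assoc]
  rw [hcomp, ← Spec.map_comp, ← CommRingCat.ofHom_comp]
  congr 2
  refine RingHom.ext fun r => ?_
  show ε' (θ (algebraMap A (M c) (algebraMap R A r))) = l (ε (algebraMap C (M h) (γ r)))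
  rw [hθ, hε'C, IsScalarTower.algebraMap_apply R C A r, ha]
  rfl

end Groth.Agent.H25.Morse.Trait
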