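import Groth.Agent.H25.Morse.Crit
import Mathlib.RingTheory.TensorProduct.MvPolynomial

/-!
Base change of a family of surfaces with étale coordinates, translated to a section.
-/

set_option autoImplicit false
set_option linter.style.haveILetI false
universe u

open TensorProduct

namespace Groth.Agent.H25.Morse.Translate

/-- The translated extension of scalars of the coordinate space is étale. -/
theorem etale_translate {R C : Type u} [CommRing R] [CommRing C] [Algebra R C] [Algebra.Etale R C]
    (c : Fin 2 → C) :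
    ((MvPolynomial.aeval (R := R) fun i => (MvPolynomial.X i + MvPolynomial.C (c i) :
      MvPolynomial (Fin 2) C))).toRingHom.Etale := by
  let M := MvPolynomial (Fin 2) R
  let e₀ : (M ⊗[R] C) ≃+* MvPolynomial (Fin 2) C :=
    (Algebra.TensorProduct.comm R M C).toRingEquiv.trans (MvPolynomial.algebraTensorAlgEquiv R C).toRingEquiv
  let τ : MvPolynomial (Fin 2) C ≃ₐ[C] MvPolynomial (Fin 2) C :=
    AlgEquiv.ofAlgHom (MvPolynomial.aeval fun i => MvPolynomial.X i + MvPolynomial.C (c i))
      (MvPolynomial.aeval fun i => MvPolynomial.X i - MvPolynomial.C (c i))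
      (MvPolynomial.algHom_ext fun i => by simp)
      (MvPolynomial.algHom_ext fun i => by simp)
  let e : (M ⊗[R] C) ≃+* MvPolynomial (Fin 2) C := e₀.trans τ.toRingEquiv
  have h : (MvPolynomial.aeval (R := R) fun i => (MvPolynomial.X i + MvPolynomial.C (c i) :
      MvPolynomial (Fin 2) C)).toRingHom = e.toRingHom.comp (algebraMap M (M ⊗[R] C)) := by
    refine MvPolynomial.ringHom_ext (fun r => ?_) fun i => ?_
    · show MvPolynomial.aeval _ (MvPolynomial.C r) = τ (MvPolynomial.algebraTensorAlgEquiv R C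
        (Algebra.TensorProduct.comm R M C ((MvPolynomial.C r : M) ⊗ₜ (1 : C))))
      rw [MvPolynomial.aeval_C, Algebra.TensorProduct.comm_tmul]
      erw [MvPolynomial.algebraTensorAlgEquiv_tmul]
      simp [τ, MvPolynomial.algebraMap_eq, IsScalarTower.algebraMap_apply R C (MvPolynomial (Fin 2) C)]
    · show MvPolynomial.aeval _ (MvPolynomial.X i) = τ (MvPolynomial.algebraTensorAlgEquiv R C
        (Algebra.TensorProduct.comm R M C ((MvPolynomial.X i : M) ⊗ₜ (1 : C))))
      rw [MvPolynomial.aeval_X, Algebra.TensorProduct.comm_tmul]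
      erw [MvPolynomial.algebraTensorAlgEquiv_tmul]
      simp [τ]
  show ((MvPolynomial.aeval (R := R) fun i => (MvPolynomial.X i + MvPolynomial.C (c i) :
      MvPolynomial (Fin 2) C))).toRingHom.Etale
  rw [h]
  exact RingHom.Etale.stableUnderComposition _ _ (RingHom.etale_algebraMap.2 inferInstance)
    (RingHom.Etale.of_bijective e.bijective)

/-- Base change of an étale algebra along an étale map, with a point. -/
theorem exists_baseChange {M MC P C : Type u} [CommRing M] [CommRing MC] [CommRing P] [CommRing C]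
    [Algebra M P] [Algebra.Etale M P] (θ : M →+* MC) (hθ : θ.Etale) (ev : MC →+* C) (s : P →+* C)
    (hs : ∀ m, s (algebraMap M P m) = ev (θ m)) :
    ∃ (P' : Type u) (_ : CommRing P') (_ : Algebra MC P') (_ : Algebra.Etale MC P') (ι : P →+* P')
      (σ : P' →+* C), ι.Etale ∧ (∀ z, σ (ι z) = s z) ∧ (∀ m, σ (algebraMap MC P' m) = ev m) ∧
        ∀ m, ι (algebraMap M P m) = algebraMap MC P' (θ m) := by
  letI : Algebra M MC := θ.toAlgebra
  haveI : Algebra.Etale M MC := RingHom.etale_algebraMap.1 hθ
  letI : Algebra M C := (ev.comp θ).toAlgebra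
  let ι : P →+* MC ⊗[M] P := (Algebra.TensorProduct.includeRight : P →ₐ[M] MC ⊗[M] P).toRingHom
  have hιet : ι.Etale := by
    let e : (P ⊗[M] MC) ≃+* MC ⊗[M] P := (Algebra.TensorProduct.comm M P MC).toRingEquiv
    have h : ι = e.toRingHom.comp (algebraMap P (P ⊗[M] MC)) := RingHom.ext fun z => rfl
    rw [h]
    exact RingHom.Etale.stableUnderComposition _ _ (RingHom.etale_algebraMap.2 inferInstance)
      (RingHom.Etale.of_bijective e.bijective)
  let f₁ : MC →ₐ[M] C := { ev with commutes' := fun m => rfl }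
  let f₂ : P →ₐ[M] C := { s with commutes' := fun m => hs m }
  let σ₀ : (MC ⊗[M] P) →ₐ[M] C := Algebra.TensorProduct.lift f₁ f₂ fun _ _ => Commute.all _ _
  refine ⟨MC ⊗[M] P, inferInstance, inferInstance, inferInstance, ι, σ₀.toRingHom, hιet, fun z => ?_,
    fun m => ?_, fun m => ?_⟩
  · show σ₀ ((1 : MC) ⊗ₜ z) = _
    rw [Algebra.TensorProduct.lift_tmul, map_one, one_mul]
    rfl
  · show σ₀ (m ⊗ₜ (1 : P)) = _
    rw [Algebra.TensorProduct.lift_tmul, map_one, mul_one]
    rfl
  · exact (Algebra.TensorProduct.tmul_one_eq_one_tmul m).symm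

/-- Base change along `C`, with coordinates vanishing on the section `s`. -/
theorem exists_translate {R P C : Type u} [CommRing R] [CommRing P] [CommRing C] [Algebra R P]
    [Algebra (MvPolynomial (Fin 2) R) P] [IsScalarTower R (MvPolynomial (Fin 2) R) P]
    [Algebra.Etale (MvPolynomial (Fin 2) R) P] [Algebra R C] [Algebra.Etale R C] (s : P →ₐ[R] C) :
    ∃ (P' : Type u) (_ : CommRing P') (_ : Algebra C P') (_ : Algebra (MvPolynomial (Fin 2) C) P')
      (_ : IsScalarTower C (MvPolynomial (Fin 2) C) P') (_ : Algebra.Etale (MvPolynomial (Fin 2) C) P')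
      (ι : P →+* P') (σ : P' →ₐ[C] C),
      ι.Etale ∧ (∀ z, σ (ι z) = s z) ∧ (∀ i, σ (Basics.coord C P' i) = 0) ∧
      (∀ r : R, ι (algebraMap R P r) = algebraMap C P' (algebraMap R C r)) ∧
      (∀ i, ι (Basics.coord R P i) = Basics.coord C P' i + algebraMap C P' (s (Basics.coord R P i))) := by
  let θ : MvPolynomial (Fin 2) R →ₐ[R] MvPolynomial (Fin 2) C :=
    MvPolynomial.aeval fun i => MvPolynomial.X i + MvPolynomial.C (s (Basics.coord R P i))
  let ev : MvPolynomial (Fin 2) C →ₐ[C] C := MvPolynomial.aeval (fun _ => 0)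
  have hs : ∀ m, s (algebraMap (MvPolynomial (Fin 2) R) P m) = ev (θ m) := by
    have : s.comp (IsScalarTower.toAlgHom R (MvPolynomial (Fin 2) R) P) = (ev.restrictScalars R).comp θ := by
      refine MvPolynomial.algHom_ext fun i => ?_
      show s (Basics.coord R P i) = ev (θ (MvPolynomial.X i))
      rw [show θ (MvPolynomial.X i) = MvPolynomial.X i + MvPolynomial.C (s (Basics.coord R P i)) from
        MvPolynomial.aeval_X _ i, map_add, MvPolynomial.aeval_X, MvPolynomial.aeval_C, zero_add]
      rfl
    exact fun m => AlgHom.congr_fun this m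
  obtain ⟨P', _, _, _, ι, σ₀, hι, hσι, hσ, hιM⟩ :=
    exists_baseChange θ.toRingHom (etale_translate _) ev.toRingHom s.toRingHom hs
  letI : Algebra C P' :=
    ((algebraMap (MvPolynomial (Fin 2) C) P').comp (algebraMap C (MvPolynomial (Fin 2) C))).toAlgebra
  haveI : IsScalarTower C (MvPolynomial (Fin 2) C) P' := IsScalarTower.of_algebraMap_eq fun _ => rfl
  let σ : P' →ₐ[C] C :=
    { σ₀ with
      commutes' := fun c => (hσ (algebraMap C (MvPolynomial (Fin 2) C) c)).trans (ev.commutes c) }
  refine ⟨P', inferInstance, inferInstance, inferInstance, inferInstance, inferInstance, ι, σ, hι,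
    hσι, fun i => ?_, fun r => ?_, fun i => ?_⟩
  · exact (hσ _).trans (MvPolynomial.aeval_X _ i)
  · rw [IsScalarTower.algebraMap_apply R (MvPolynomial (Fin 2) R) P, hιM]
    show algebraMap (MvPolynomial (Fin 2) C) P' (θ (algebraMap R _ r)) = _
    rw [AlgHom.commutes, IsScalarTower.algebraMap_apply R C (MvPolynomial (Fin 2) C)]
    rfl
  · show ι (algebraMap (MvPolynomial (Fin 2) R) P (MvPolynomial.X i)) = _
    rw [hιM]
    show algebraMap (MvPolynomial (Fin 2) C) P' (θ (MvPolynomial.X i)) = _
    rw [MvPolynomial.aeval_X, map_add]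
    rfl

end Groth.Agent.H25.Morse.Translate
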